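import Cfsg.Agent.Lib.Helper3.AvgFrob
import Cfsg.Agent.Lib.Helper1.FrobD
import Cfsg.Agent.Lib.Helper2.Solvable

open Pointwise

namespace Cfsg.Agent.Lib.Helper3.Avg

/-- version of `frob_fixed` with an explicit kernel -/
theorem fpf_fixed {L M : Type*} [Group L] [Finite L] [CommGroup M] [MulDistribMulAction L M]
    [Finite M] [Nontrivial M] (K H : Subgroup L) [K.Normal] (hc : Subgroup.IsComplement' K H)
    (hK : K ≠ ⊥) (hH : H ≠ ⊥) (hf : ∀ h ∈ H, h ≠ 1 → ∀ k ∈ K, h * k = k * h → k = 1)
    (hcop : (Nat.card M).Coprime (Nat.card K))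
    (hCK : ∀ m : M, (∀ k ∈ K, k • m = m) → m = 1) :
    ∃ m : M, m ≠ 1 ∧ ∀ h ∈ H, h • m = m := by
  have hF := Cfsg.Agent.Lib.Helper1.FrobD.frob_of_fpf K H hc hK hH hf
  have hker := Cfsg.Agent.Lib.Helper1.FrobD.kernel_eq_of_compl hF hc
  refine frob_fixed H hF ?_ ?_
  · rw [← hker]
    exact hcop
  · intro m hm
    apply hCK
    intro k hk
    apply hm
    rw [← hker]
    exact hk

theorem eppo_no_commute {K : Type*} [Group K] [Finite K]
    (h : ∀ g : K, IsPrimePow (orderOf g) ∨ g = 1) {a b : K} (hab : Commute a b)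
    (hcop : (orderOf a).Coprime (orderOf b)) : a = 1 ∨ b = 1 := by
  have ho := hab.orderOf_mul_eq_mul_orderOf_of_coprime hcop
  rcases h (a * b) with hpp | h1
  · rw [ho] at hpp
    rcases (Nat.Coprime.isPrimePow_dvd_mul hcop hpp).1 dvd_rfl with h2 | h2
    · right
      have h3 : orderOf a * orderOf b ∣ orderOf a * 1 := by rwa [mul_one]
      have h4 := Nat.dvd_of_mul_dvd_mul_left (orderOf_pos a) h3
      exact orderOf_eq_one_iff.1 (Nat.dvd_one.1 h4)
    · left
      have h3 : orderOf a * orderOf b ∣ 1 * orderOf b := by rwa [one_mul]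
      have h4 := Nat.dvd_of_mul_dvd_mul_right (orderOf_pos b) h3
      exact orderOf_eq_one_iff.1 (Nat.dvd_one.1 h4)
  · left
    rw [h1, orderOf_one] at ho
    have : orderOf a ∣ 1 := ⟨orderOf b, ho⟩
    exact orderOf_eq_one_iff.1 (Nat.dvd_one.1 this)

/-- A solvable group with all elements of prime power order acting freely on a nontrivial abelian
group of coprime order has prime power order. -/
theorem eppo_core {K M : Type*} [Group K] [Finite K] [Group.IsSolvable K] [CommGroup M] [Finite M]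
    [Nontrivial M] [MulDistribMulAction K M]
    (hE : ∀ g : K, IsPrimePow (orderOf g) ∨ g = 1)
    (hcop : (Nat.card K).Coprime (Nat.card M))
    (hf : ∀ x : K, x ≠ 1 → ∀ m : M, x • m = m → m = 1) :
    (Nat.card K).primeFactors.card ≤ 1 := by
  classical
  rcases subsingleton_or_nontrivial K with hs | hnt
  · rw [Nat.card_unique]
    simp
  obtain ⟨q, Q, hq, hQn, hQ1, hQexp, hQab⟩ :=
    Cfsg.Agent.Lib.Helper2.Solvable.exists_normal_elementary_abelian (G := K)
  have hsub : (Nat.card K).primeFactors ⊆ {q} := by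
    intro r hr
    rw [Finset.mem_singleton]
    by_contra hrq
    have hrp : r.Prime := Nat.prime_of_mem_primeFactors hr
    have hrd : r ∣ Nat.card K := Nat.dvd_of_mem_primeFactors hr
    haveI : Fact r.Prime := ⟨hrp⟩
    obtain ⟨y, hy⟩ := exists_prime_orderOf_dvd_card' r hrd
    have hqr : Nat.Coprime r q := (Nat.coprime_primes hrp hq).2 hrq
    have hy1 : y ≠ 1 := by
      rintro rfl
      rw [orderOf_one] at hy
      exact hrp.one_lt.ne hy
    have hordQ : ∀ x ∈ Q, orderOf x ∣ q := fun x hx => orderOf_dvd_of_pow_eq_one (hQexp x hx)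
    have hordY : ∀ x ∈ Subgroup.zpowers y, orderOf x ∣ r := by
      intro x hx
      obtain ⟨i, rfl⟩ := Subgroup.mem_zpowers_iff.1 hx
      rw [← hy]
      exact orderOf_dvd_of_pow_eq_one (by rw [← zpow_natCast, ← zpow_mul, mul_comm, zpow_mul,
        zpow_natCast, pow_orderOf_eq_one, one_zpow])
    set X : Subgroup K := Q ⊔ Subgroup.zpowers y with hX
    have hQX : Q ≤ X := le_sup_left
    have hYX : Subgroup.zpowers y ≤ X := le_sup_right
    haveI : (Q.subgroupOf X).Normal := hQn.subgroupOf X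
    have hc : Subgroup.IsComplement' (Q.subgroupOf X) ((Subgroup.zpowers y).subgroupOf X) := by
      apply Subgroup.isComplement'_of_disjoint_and_mul_eq_univ
      · rw [disjoint_iff, eq_bot_iff]
        intro x hx
        obtain ⟨h1, h2⟩ := Subgroup.mem_inf.1 hx
        have h3 := hordQ _ (Subgroup.mem_subgroupOf.1 h1)
        have h4 := hordY _ (Subgroup.mem_subgroupOf.1 h2)
        have h5 : orderOf (x : K) = 1 := Nat.eq_one_of_dvd_coprimes hqr h4 h3
        rw [Subgroup.mem_bot]
        exact Subtype.ext (orderOf_eq_one_iff.1 h5)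
      · rw [Set.eq_univ_iff_forall]
        intro x
        have hx : (x : K) ∈ (↑(Q ⊔ Subgroup.zpowers y) : Set K) := x.2
        rw [Subgroup.normal_mul, Set.mem_mul] at hx
        obtain ⟨a, ha, b, hb, hab⟩ := hx
        exact Set.mem_mul.2 ⟨⟨a, hQX ha⟩, Subgroup.mem_subgroupOf.2 ha, ⟨b, hYX hb⟩,
          Subgroup.mem_subgroupOf.2 hb, Subtype.ext hab⟩
    obtain ⟨z, hzQ, hz1⟩ : ∃ z ∈ Q, z ≠ 1 := by
      by_contra hcon
      push Not at hcon
      exact hQ1 ((Subgroup.eq_bot_iff_forall Q).2 hcon)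
    obtain ⟨m, hm, hfix⟩ := fpf_fixed (L := X) (M := M) (Q.subgroupOf X)
      ((Subgroup.zpowers y).subgroupOf X) hc
      (by
        intro h
        have : (⟨z, hQX hzQ⟩ : X) ∈ Q.subgroupOf X := Subgroup.mem_subgroupOf.2 hzQ
        rw [h, Subgroup.mem_bot] at this
        exact hz1 (congrArg Subtype.val this))
      (by
        intro h
        have : (⟨y, hYX (Subgroup.mem_zpowers y)⟩ : X) ∈ (Subgroup.zpowers y).subgroupOf X :=
          Subgroup.mem_subgroupOf.2 (Subgroup.mem_zpowers y)
        rw [h, Subgroup.mem_bot] at this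
        exact hy1 (congrArg Subtype.val this))
      (by
        intro h hh hh1 k hk hkh
        have h3 := hordQ _ (Subgroup.mem_subgroupOf.1 hk)
        have h4 := hordY _ (Subgroup.mem_subgroupOf.1 hh)
        have h5 : Commute (h : K) (k : K) := congrArg Subtype.val hkh
        rcases eppo_no_commute hE h5 (Nat.Coprime.of_dvd h4 h3 hqr) with h6 | h6
        · exact absurd (Subtype.ext h6) hh1
        · exact Subtype.ext h6)
      (by
        have h1 : Nat.card (Q.subgroupOf X) ∣ Nat.card K :=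
          (Subgroup.card_subgroup_dvd_card _).trans (Subgroup.card_subgroup_dvd_card X)
        exact (Nat.Coprime.of_dvd_left h1 hcop).symm)
      (by
        intro m hm
        exact hf z hz1 m (hm ⟨z, hQX hzQ⟩ (Subgroup.mem_subgroupOf.2 hzQ)))
    exact hm (hf y hy1 m (hfix ⟨y, hYX (Subgroup.mem_zpowers y)⟩
      (Subgroup.mem_subgroupOf.2 (Subgroup.mem_zpowers y))))
  calc (Nat.card K).primeFactors.card ≤ ({q} : Finset ℕ).card := Finset.card_le_card hsub
    _ = 1 := Finset.card_singleton q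

end Cfsg.Agent.Lib.Helper3.Avg
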