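import Cfsg.Agent.Lib.Helper3.Bar5

set_option autoImplicit false
open scoped commutatorElement

namespace Cfsg.Agent.Lib.Helper3.PLocal

open Cfsg.Agent.Lib.Helper1 Cfsg.Agent.Lib.Helper6.Ores Cfsg.Agent.Lib.Helper6.Basic
  Cfsg.Agent.Lib.Helper6.Subn Cfsg.Agent.Lib.Helper6.Quasi

universe u v

variable {G : Type u} [Group G]

/-- the conclusion of `p`-stability for a pair `A`, `P` -/
def StabC (p : ℕ) (A P : Subgroup G) : Prop :=
  (A.subgroupOf (Subgroup.normalizer (P : Set G))).map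
      (QuotientGroup.mk' ((Subgroup.centralizer (P : Set G)).subgroupOf
        (Subgroup.normalizer (P : Set G))))
    ≤ Cfsg.pCore p _

section transfer

variable [Finite G] {p : ℕ} [Fact p.Prime] {O : Subgroup G} [O.Normal]

theorem stabC_transfer (hO : (Nat.card O).Coprime p) {A P : Subgroup G} (hP : IsPGroup p P)
    (hAP : A ≤ Subgroup.normalizer (P : Set G)) :
    StabC p A P ↔ StabC p (A.map (QuotientGroup.mk' O)) (P.map (QuotientGroup.mk' O)) := by
  have hsurj := QuotientGroup.mk'_surjective O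
  have hmemN : ∀ n ∈ Subgroup.normalizer (P : Set G), QuotientGroup.mk' O n ∈
      Subgroup.normalizer ((P.map (QuotientGroup.mk' O) : Subgroup (G ⧸ O)) : Set (G ⧸ O)) := by
    intro n hn
    exact Subgroup.le_normalizer_map _ ⟨n, hn, rfl⟩
  let φ : ↥(Subgroup.normalizer (P : Set G)) →*
      ↥(Subgroup.normalizer ((P.map (QuotientGroup.mk' O) : Subgroup (G ⧸ O)) : Set (G ⧸ O))) :=
    ((QuotientGroup.mk' O).comp (Subgroup.normalizer (P : Set G)).subtype).codRestrict _
      (fun n => hmemN n.1 n.2)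
  let θ := (QuotientGroup.mk' ((Subgroup.centralizer
      ((P.map (QuotientGroup.mk' O) : Subgroup (G ⧸ O)) : Set (G ⧸ O))).subgroupOf
      (Subgroup.normalizer ((P.map (QuotientGroup.mk' O) : Subgroup (G ⧸ O)) : Set (G ⧸ O))))).comp φ
  have hθsurj : Function.Surjective θ := by
    intro y
    obtain ⟨⟨y', hy'⟩, rfl⟩ := QuotientGroup.mk'_surjective _ y
    obtain ⟨g, rfl⟩ := hsurj y'
    obtain ⟨o, ho, n, hn, rfl⟩ := lift_normalizer hO hP hy'
    refine ⟨⟨n, hn⟩, ?_⟩
    change QuotientGroup.mk' _ (φ ⟨n, hn⟩) = _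
    congr 1
    apply Subtype.ext
    change QuotientGroup.mk' O n = QuotientGroup.mk' O (o * n)
    rw [map_mul, (QuotientGroup.eq_one_iff o).2 ho |> fun h => (h : QuotientGroup.mk' O o = 1),
      one_mul]
  have hθker : ∀ x : ↥(Subgroup.normalizer (P : Set G)), θ x = 1 ↔
      x ∈ (Subgroup.centralizer (P : Set G)).subgroupOf (Subgroup.normalizer (P : Set G)) := by
    intro x
    change QuotientGroup.mk' _ (φ x) = 1 ↔ _
    rw [QuotientGroup.mk'_apply, QuotientGroup.eq_one_iff, Subgroup.mem_subgroupOf,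
      Subgroup.mem_subgroupOf]
    change QuotientGroup.mk' O x.1 ∈ _ ↔ _
    constructor
    · intro h
      rw [Subgroup.mem_centralizer_iff] at h ⊢
      intro t ht
      have h1 := h _ ⟨t, ht, rfl⟩
      have h2 : x.1 * t * x.1⁻¹ * t⁻¹ ∈ P ⊓ O := by
        refine Subgroup.mem_inf.2 ⟨?_, ?_⟩
        · exact P.mul_mem ((Subgroup.mem_normalizer_iff.1 x.2 t).1 ht) (P.inv_mem ht)
        · rw [← QuotientGroup.eq_one_iff]
          change QuotientGroup.mk' O (x.1 * t * x.1⁻¹ * t⁻¹) = 1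
          rw [map_mul, map_mul, map_mul, ← h1, map_inv, map_inv]
          group
      rw [pgroup_inf_p' hP hO, Subgroup.mem_bot] at h2
      calc t * x.1 = (x.1 * t * x.1⁻¹ * t⁻¹)⁻¹ * (x.1 * t) := by group
        _ = x.1 * t := by rw [h2]; group
    · intro h
      rw [Subgroup.mem_centralizer_iff] at h ⊢
      rintro _ ⟨t, ht, rfl⟩
      rw [← map_mul, ← map_mul, h t ht]
  let Θ := QuotientGroup.lift _ θ (fun x hx => (hθker x).2 hx)
  have hΘsurj : Function.Surjective Θ := by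
    intro y
    obtain ⟨x, rfl⟩ := hθsurj y
    exact ⟨QuotientGroup.mk' _ x, rfl⟩
  have hΘinj : Function.Injective Θ := by
    rw [injective_iff_map_eq_one]
    intro y hy
    obtain ⟨x, rfl⟩ := QuotientGroup.mk'_surjective _ y
    have : θ x = 1 := hy
    rw [QuotientGroup.mk'_apply, QuotientGroup.eq_one_iff]
    exact (hθker x).1 this
  let e := MulEquiv.ofBijective Θ ⟨hΘinj, hΘsurj⟩
  have hcore : ∀ y, y ∈ Cfsg.pCore p _ ↔ Θ y ∈ Cfsg.pCore p _ := by
    intro y
    constructor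
    · intro h
      exact map_pCore_le_of_surjective p Θ hΘsurj ⟨y, h, rfl⟩
    · intro h
      have := map_pCore_le_of_surjective p e.symm.toMonoidHom e.symm.surjective ⟨Θ y, h, rfl⟩
      have h2 : e.symm.toMonoidHom (Θ y) = y := e.symm_apply_apply y
      rwa [h2] at this
  unfold StabC
  constructor
  · rintro h _ ⟨⟨y, hyN⟩, hy, rfl⟩
    obtain ⟨a, ha, rfl⟩ : y ∈ A.map (QuotientGroup.mk' O) := hy
    have h1 := h ⟨⟨a, hAP ha⟩, ha, rfl⟩
    exact (hcore _).1 h1
  · rintro h _ ⟨⟨a, haN⟩, ha, rfl⟩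
    rw [hcore]
    exact h ⟨φ ⟨a, haN⟩, ⟨a, ha, rfl⟩, rfl⟩

end transfer

end Cfsg.Agent.Lib.Helper3.PLocal
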