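import Cfsg.Prelude.Def_LieExceptional
import Cfsg.Agent.Lib.Helper6.CharP
import Cfsg.Agent.Lib.Helper2.Schmidt

namespace Cfsg.Agent.Lib.Helper3.CN

variable {G : Type*} [Group G] [Finite G]

/-- a subgroup all of whose subgroups of prime power order lie in `H` lies in `H` -/
theorem le_of_pgroups_le {C H : Subgroup G}
    (h : ∀ r : ℕ, r.Prime → ∀ R : Subgroup G, R ≤ C → IsPGroup r R → R ≤ H) : C ≤ H := by
  rw [← Subgroup.subgroupOf_eq_top, ← Subgroup.index_eq_one]
  by_contra hne
  obtain ⟨r, hr, hrd⟩ := Nat.exists_prime_and_dvd hne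
  haveI : Fact r.Prime := ⟨hr⟩
  let R : Sylow r C := default
  have h1 : (R : Subgroup C) ≤ H.subgroupOf C := by
    intro a ha
    rw [Subgroup.mem_subgroupOf]
    exact h r hr ((R : Subgroup C).map C.subtype) (Subgroup.map_subtype_le _)
      (R.2.map C.subtype) ⟨a, ha, rfl⟩
  exact R.not_dvd_index (hrd.trans (Subgroup.index_dvd_of_le h1))

theorem isPGroup_zpowers {p : ℕ} {z : G} (hz : orderOf z = p) : IsPGroup p (Subgroup.zpowers z) :=
  IsPGroup.of_card (n := 1) (by rw [Nat.card_zpowers, hz, pow_one])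

/-- a nilpotent group containing elements `z`, `w` of distinct prime orders lies in any subgroup
containing the centralizers of `z` and `w` -/
theorem le_of_two {C H : Subgroup G} (hC : Group.IsNilpotent C) {p q : ℕ} (hp : p.Prime)
    (hq : q.Prime) (hpq : p ≠ q) {z w : G} (hzC : z ∈ C) (hwC : w ∈ C) (hz : orderOf z = p)
    (hw : orderOf w = q) (hzH : Subgroup.centralizer ({z} : Set G) ≤ H)
    (hwH : Subgroup.centralizer ({w} : Set G) ≤ H) : C ≤ H := by
  haveI : Fact p.Prime := ⟨hp⟩
  haveI : Fact q.Prime := ⟨hq⟩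
  apply le_of_pgroups_le
  intro r hr R hRC hR
  haveI : Fact r.Prime := ⟨hr⟩
  by_cases hrp : r = p
  · subst hrp
    intro a ha
    apply hwH
    rw [Subgroup.mem_centralizer_singleton_iff]
    exact Cfsg.Agent.Lib.Helper2.Schmidt.commute_of_le_nilpotent hC hRC
      (by rwa [Subgroup.zpowers_le]) hpq hR (isPGroup_zpowers hw) a ha w (Subgroup.mem_zpowers w)
  · intro a ha
    apply hzH
    rw [Subgroup.mem_centralizer_singleton_iff]
    exact Cfsg.Agent.Lib.Helper2.Schmidt.commute_of_le_nilpotent hC hRC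
      (by rwa [Subgroup.zpowers_le]) hrp hR (isPGroup_zpowers hz) a ha z (Subgroup.mem_zpowers z)

/-- central elements of prime order in nilpotent groups -/
theorem exists_central {H : Subgroup G} (hH : Group.IsNilpotent H) {p : ℕ} (hp : p.Prime)
    (hd : p ∣ Nat.card H) : ∃ z ∈ H, orderOf z = p ∧ ∀ h ∈ H, h * z = z * h := by
  haveI : Fact p.Prime := ⟨hp⟩
  let P : Sylow p H := default
  have hall := ((Group.isNilpotent_of_finite_tfae (G := H)).out 0 3).mp hH
  have hPn : (P : Subgroup H).Normal := hall p inferInstance P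
  set R : Subgroup G := (P : Subgroup H).map H.subtype with hR
  have hRH : R ≤ H := Subgroup.map_subtype_le _
  have hRp : IsPGroup p R := P.2.map H.subtype
  have hR1 : R ≠ ⊥ := by
    intro h
    rw [hR, (Subgroup.map_eq_bot_iff_of_injective _ H.subtype_injective)] at h
    exact P.ne_bot_of_dvd_card hd h
  have hn : H ≤ Subgroup.normalizer (R : Set G) := by
    intro h hh
    rw [Subgroup.mem_normalizer_iff]
    intro x
    constructor
    · rintro ⟨y, hy, rfl⟩
      exact ⟨⟨h, hh⟩ * y * ⟨h, hh⟩⁻¹, hPn.conj_mem y hy _, rfl⟩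
    · rintro ⟨y, hy, hyx⟩
      refine ⟨⟨h, hh⟩⁻¹ * y * ⟨h, hh⟩⁻¹⁻¹, hPn.conj_mem y hy _, ?_⟩
      simp only [Subgroup.subtype_apply, Subgroup.coe_mul, Subgroup.coe_inv] at hyx ⊢
      rw [hyx]
      group
  have h1 := Cfsg.Agent.Lib.Helper6.CharP.inf_Cz_ne_bot hH hRH hn hR1
  have h2 : IsPGroup p (R ⊓ Subgroup.centralizer (H : Set G) : Subgroup G) :=
    hRp.to_le inf_le_left
  have h3 : p ∣ Nat.card (R ⊓ Subgroup.centralizer (H : Set G) : Subgroup G) := by
    obtain ⟨k, hk⟩ := h2.exists_card_eq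
    rw [hk]
    apply dvd_pow_self
    rintro rfl
    rw [pow_zero] at hk
    exact h1 (Subgroup.card_eq_one.1 hk)
  obtain ⟨z, hz⟩ := exists_prime_orderOf_dvd_card' p h3
  refine ⟨z, hRH z.2.1, by rw [Subgroup.orderOf_coe]; exact hz, ?_⟩
  intro h hh
  exact (Subgroup.mem_centralizer_iff.1 z.2.2) h hh

section

variable (hCN : Cfsg.IsCNGroup G) {H : Subgroup G} (hH : Group.IsNilpotent H)
  (hmax : ∀ L : Subgroup G, Group.IsNilpotent L → H ≤ L → L = H)

include hCN hmax

theorem centralizer_eq {z : G} (hz1 : z ≠ 1) (hz : ∀ h ∈ H, h * z = z * h) :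
    Subgroup.centralizer ({z} : Set G) = H := by
  apply hmax _ (hCN z hz1)
  intro h hh
  rw [Subgroup.mem_centralizer_singleton_iff]
  exact hz h hh

include hH

/-- a maximal nilpotent subgroup contains a Sylow subgroup for each of its primes -/
theorem exists_sylow_le {p : ℕ} [hp : Fact p.Prime] (hd : p ∣ Nat.card H) :
    ∃ P : Sylow p G, (P : Subgroup G) ≤ H := by
  by_cases hHp : IsPGroup p H
  · obtain ⟨P, hP⟩ := hHp.exists_le_sylow
    exact ⟨P, (hmax P P.2.isNilpotent hP).le⟩
  · obtain ⟨q, hq, hqd, hqp⟩ : ∃ q : ℕ, q.Prime ∧ q ∣ Nat.card H ∧ q ≠ p := by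
      by_contra hcon
      push Not at hcon
      apply hHp
      have h1 : Nat.card H = p ^ (Nat.card H).primeFactorsList.length :=
        Nat.eq_prime_pow_of_unique_prime_dvd Nat.card_pos.ne' (fun {d} hd1 hd2 => hcon d hd1 hd2)
      exact IsPGroup.of_card h1
    obtain ⟨z, hzH, hzo, hzc⟩ := exists_central hH hp.out hd
    obtain ⟨w, hwH, hwo, hwc⟩ := exists_central hH hq hqd
    have hz1 : z ≠ 1 := by
      rintro rfl
      rw [orderOf_one] at hzo
      exact hp.out.one_lt.ne hzo
    have hw1 : w ≠ 1 := by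
      rintro rfl
      rw [orderOf_one] at hwo
      exact hq.one_lt.ne hwo
    obtain ⟨P, hP⟩ := (isPGroup_zpowers hzo).exists_le_sylow
    have hzP : z ∈ (P : Subgroup G) := hP (Subgroup.mem_zpowers z)
    haveI : Nontrivial (P : Subgroup G) := ⟨⟨⟨z, hzP⟩, 1, fun h => hz1 (congrArg Subtype.val h)⟩⟩
    haveI := P.2.center_nontrivial
    obtain ⟨y, hy⟩ := exists_ne (1 : Subgroup.center (P : Subgroup G))
    have hy1 : ((y : (P : Subgroup G)) : G) ≠ 1 := by
      intro h
      apply hy
      exact Subtype.ext (Subtype.ext h)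
    have hyc : ∀ a ∈ (P : Subgroup G), a * ((y : (P : Subgroup G)) : G) = ((y : (P : Subgroup G)) : G) * a := by
      intro a ha
      have := (Subgroup.mem_center_iff.1 y.2) ⟨a, ha⟩
      exact congrArg Subtype.val this
    have hyH : ((y : (P : Subgroup G)) : G) ∈ H := by
      rw [← centralizer_eq hCN hmax hz1 hzc, Subgroup.mem_centralizer_singleton_iff]
      exact (hyc z hzP).symm
    refine ⟨P, ?_⟩
    haveI : Fact q.Prime := ⟨hq⟩
    intro a ha
    rw [← centralizer_eq hCN hmax hw1 hwc, Subgroup.mem_centralizer_singleton_iff]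
    refine Cfsg.Agent.Lib.Helper2.Schmidt.commute_of_le_nilpotent (hCN _ hy1)
      (A := (P : Subgroup G)) (B := Subgroup.zpowers w) ?_ ?_ hqp.symm P.2 (isPGroup_zpowers hwo)
      a ha w (Subgroup.mem_zpowers w)
    · intro b hb
      rw [Subgroup.mem_centralizer_singleton_iff]
      exact hyc b hb
    · rw [Subgroup.zpowers_le, Subgroup.mem_centralizer_singleton_iff]
      exact (hwc _ hyH).symm

theorem hall : (Nat.card H).Coprime H.index := by
  apply Nat.Coprime.symm
  apply Nat.coprime_of_dvd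
  intro p hp hd1 hd2
  haveI : Fact p.Prime := ⟨hp⟩
  obtain ⟨P, hP⟩ := exists_sylow_le hCN hH hmax hd2
  exact P.not_dvd_index (hd1.trans (Subgroup.index_dvd_of_le hP))

omit hCN hH hmax [Finite G] in
theorem centralizer_conj_le {z g : G} {H : Subgroup G}
    (h : Subgroup.centralizer ({z} : Set G) ≤ H) :
    Subgroup.centralizer ({g * z * g⁻¹} : Set G) ≤ H.map (MulAut.conj g).toMonoidHom := by
  intro a ha
  rw [Subgroup.mem_centralizer_singleton_iff] at ha
  refine ⟨g⁻¹ * a * g, h ?_, ?_⟩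
  · rw [Subgroup.mem_centralizer_singleton_iff]
    calc g⁻¹ * a * g * z = g⁻¹ * (a * (g * z * g⁻¹)) * g := by group
      _ = g⁻¹ * ((g * z * g⁻¹) * a) * g := by rw [ha]
      _ = z * (g⁻¹ * a * g) := by group
  · simp only [MulEquiv.coe_toMonoidHom, MulAut.conj_apply]
    group

omit hCN hH hmax in
theorem exists_other_prime {H : Subgroup G} {p : ℕ} (hHp : ¬ IsPGroup p H) :
    ∃ q : ℕ, q.Prime ∧ q ∣ Nat.card H ∧ q ≠ p := by
  by_contra hcon
  push Not at hcon
  apply hHp
  have h1 : Nat.card H = p ^ (Nat.card H).primeFactorsList.length :=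
    Nat.eq_prime_pow_of_unique_prime_dvd Nat.card_pos.ne' (fun {d} hd1 hd2 => hcon d hd1 hd2)
  exact IsPGroup.of_card h1

omit hCN hH hmax [Finite G] in
theorem ne_one_of_orderOf {p : ℕ} (hp : p.Prime) {z : G} (hz : orderOf z = p) : z ≠ 1 := by
  rintro rfl
  rw [orderOf_one] at hz
  exact hp.one_lt.ne hz

/-- with two primes, centralizers of nonidentity elements of `H` lie in `H` -/
theorem centralizer_le_of_two {p q : ℕ} (hp : p.Prime) (hq : q.Prime) (hpq : p ≠ q)
    (hpd : p ∣ Nat.card H) (hqd : q ∣ Nat.card H) {x : G} (hx : x ∈ H) (hx1 : x ≠ 1) :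
    Subgroup.centralizer ({x} : Set G) ≤ H := by
  obtain ⟨z, hzH, hzo, hzc⟩ := exists_central hH hp hpd
  obtain ⟨w, hwH, hwo, hwc⟩ := exists_central hH hq hqd
  refine le_of_two (hCN x hx1) hp hq hpq (z := z) (w := w) ?_ ?_ hzo hwo
    (centralizer_eq hCN hmax (ne_one_of_orderOf hp hzo) hzc).le
    (centralizer_eq hCN hmax (ne_one_of_orderOf hq hwo) hwc).le
  · rw [Subgroup.mem_centralizer_singleton_iff]
    exact (hzc x hx).symm
  · rw [Subgroup.mem_centralizer_singleton_iff]
    exact (hwc x hx).symm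

theorem ti_of_two {p q : ℕ} (hp : p.Prime) (hq : q.Prime) (hpq : p ≠ q)
    (hpd : p ∣ Nat.card H) (hqd : q ∣ Nat.card H) (g : G)
    (hg : H.map (MulAut.conj g).toMonoidHom ≠ H) : H ⊓ H.map (MulAut.conj g).toMonoidHom = ⊥ := by
  rw [eq_bot_iff]
  intro x hx
  obtain ⟨hxH, y, hyH, hyx⟩ := Subgroup.mem_inf.1 hx
  rw [Subgroup.mem_bot]
  by_contra hx1
  apply hg
  obtain ⟨z, hzH, hzo, hzc⟩ := exists_central hH hp hpd
  obtain ⟨w, hwH, hwo, hwc⟩ := exists_central hH hq hqd
  have hC := centralizer_le_of_two hCN hH hmax hp hq hpq hpd hqd hxH hx1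
  simp only [MulEquiv.coe_toMonoidHom, MulAut.conj_apply] at hyx
  have hz' : g * z * g⁻¹ ∈ H := by
    apply hC
    rw [Subgroup.mem_centralizer_singleton_iff, ← hyx]
    calc g * z * g⁻¹ * (g * y * g⁻¹) = g * (z * y) * g⁻¹ := by group
      _ = g * (y * z) * g⁻¹ := by rw [hzc y hyH]
      _ = g * y * g⁻¹ * (g * z * g⁻¹) := by group
  have hw' : g * w * g⁻¹ ∈ H := by
    apply hC
    rw [Subgroup.mem_centralizer_singleton_iff, ← hyx]
    calc g * w * g⁻¹ * (g * y * g⁻¹) = g * (w * y) * g⁻¹ := by group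
      _ = g * (y * w) * g⁻¹ := by rw [hwc y hyH]
      _ = g * y * g⁻¹ * (g * w * g⁻¹) := by group
  have hle : H ≤ H.map (MulAut.conj g).toMonoidHom := by
    refine le_of_two hH hp hq hpq hz' hw' ?_ ?_
      (centralizer_conj_le (centralizer_eq hCN hmax (ne_one_of_orderOf hp hzo) hzc).le)
      (centralizer_conj_le (centralizer_eq hCN hmax (ne_one_of_orderOf hq hwo) hwc).le)
    · rw [← hzo, ← MulAut.conj_apply]
      exact (MulAut.conj g).orderOf_eq z
    · rw [← hwo, ← MulAut.conj_apply]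
      exact (MulAut.conj g).orderOf_eq w
  refine (Subgroup.eq_of_le_of_card_ge hle ?_).symm
  rw [Subgroup.card_map_of_injective (MulAut.conj g).injective]

theorem centralizer_le_of_ti
    (hTI : ∀ g : G, H.map (MulAut.conj g).toMonoidHom ≠ H →
      H ⊓ H.map (MulAut.conj g).toMonoidHom = ⊥) {x : G} (hx : x ∈ H) (hx1 : x ≠ 1) :
    Subgroup.centralizer ({x} : Set G) ≤ H := by
  have hcard : Nat.card H ≠ 1 := by
    intro h
    have := Subgroup.card_eq_one.1 h
    rw [this, Subgroup.mem_bot] at hx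
    exact hx1 hx
  obtain ⟨p, hp, hpd⟩ := Nat.exists_prime_and_dvd hcard
  haveI : Fact p.Prime := ⟨hp⟩
  by_cases hHp : IsPGroup p H
  · obtain ⟨z, hzH, hzo, hzc⟩ := exists_central hH hp hpd
    have hN : Subgroup.centralizer ({x} : Set G) ≤ Subgroup.normalizer (H : Set G) := by
      intro c hc
      rw [Subgroup.mem_centralizer_singleton_iff] at hc
      have h1 : H.map (MulAut.conj c).toMonoidHom = H := by
        by_contra hne
        have h2 : x ∈ H ⊓ H.map (MulAut.conj c).toMonoidHom := by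
          refine Subgroup.mem_inf.2 ⟨hx, x, hx, ?_⟩
          simp only [MulEquiv.coe_toMonoidHom, MulAut.conj_apply]
          rw [hc]
          group
        rw [hTI c hne, Subgroup.mem_bot] at h2
        exact hx1 h2
      rw [Subgroup.mem_normalizer_iff]
      intro h
      constructor
      · intro hh
        rw [← h1]
        exact ⟨h, hh, by simp⟩
      · intro hh
        rw [← h1] at hh
        obtain ⟨y, hy, hyh⟩ := hh
        simp only [MulEquiv.coe_toMonoidHom, MulAut.conj_apply] at hyh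
        have : y = h := by
          have := congrArg (fun t => c⁻¹ * t * c) hyh
          simpa [mul_assoc] using this
        rwa [← this]
    apply le_of_pgroups_le
    intro r hr R hRC hR
    haveI : Fact r.Prime := ⟨hr⟩
    by_cases hrp : r = p
    · subst hrp
      have h1 : IsPGroup r (R ⊔ H : Subgroup G) :=
        IsPGroup.to_sup_of_normal_right' hR hHp (hRC.trans hN)
      have h2 := hmax _ h1.isNilpotent le_sup_right
      rw [← h2]
      exact le_sup_left
    · intro a ha
      rw [← centralizer_eq hCN hmax (ne_one_of_orderOf hp hzo) hzc,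
        Subgroup.mem_centralizer_singleton_iff]
      refine Cfsg.Agent.Lib.Helper2.Schmidt.commute_of_le_nilpotent (hCN x hx1) hRC
        (B := Subgroup.zpowers z) ?_ hrp hR (isPGroup_zpowers hzo) a ha z (Subgroup.mem_zpowers z)
      rw [Subgroup.zpowers_le, Subgroup.mem_centralizer_singleton_iff]
      exact (hzc x hx).symm
  · obtain ⟨q, hq, hqd, hqp⟩ := exists_other_prime hHp
    exact centralizer_le_of_two hCN hH hmax hp hq hqp.symm hpd hqd hx hx1

end

end Cfsg.Agent.Lib.Helper3.CN
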