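import Cfsg.Agent.Lib.Helper3.CN2
import Cfsg.Agent.Lib.Helper3.Bar
import Cfsg.Agent.Lib.Helper2.Solvable
import Cfsg.Agent.Lib.Helper6.Nil

namespace Cfsg.Agent.Lib.Helper3.CN

open Cfsg.Agent.Lib.Helper6.Nil

universe u

theorem cn_of_equiv {G G' : Type*} [Group G] [Group G'] (e : G ≃* G') (h : Cfsg.IsCNGroup G) :
    Cfsg.IsCNGroup G' := by
  intro g' hg'
  have h1 : e.symm g' ≠ 1 := by
    intro h0
    apply hg'
    have := congrArg e h0
    simpa using this
  have h2 := h _ h1
  have h3 : Subgroup.centralizer ({g'} : Set G') ≤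
      (Subgroup.centralizer ({e.symm g'} : Set G)).map e.toMonoidHom := by
    intro x hx
    rw [Subgroup.mem_centralizer_singleton_iff] at hx
    refine ⟨e.symm x, ?_, by simp⟩
    rw [SetLike.mem_coe, Subgroup.mem_centralizer_singleton_iff, ← map_mul, ← map_mul, hx]
  exact nilpotent_of_le h3 (nilpotent_map _ h2)

theorem le_of_sylow_le {G : Type*} [Group G] [Finite G] {C H : Subgroup G}
    (h : ∀ r : ℕ, ∀ _ : Fact r.Prime, ∃ R : Sylow r C, ∀ a ∈ R, (a : G) ∈ H) : C ≤ H := by
  rw [← Subgroup.subgroupOf_eq_top, ← Subgroup.index_eq_one]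
  by_contra hne
  obtain ⟨r, hr, hrd⟩ := Nat.exists_prime_and_dvd hne
  haveI : Fact r.Prime := ⟨hr⟩
  obtain ⟨R, hR⟩ := h r ⟨hr⟩
  have h1 : (R : Subgroup C) ≤ H.subgroupOf C := by
    intro a ha
    rw [Subgroup.mem_subgroupOf]
    exact hR a ha
  exact R.not_dvd_index (hrd.trans (Subgroup.index_dvd_of_le h1))

theorem isPGroup_zpowers_of_pow {G : Type*} [Group G] {q a : ℕ} [Fact q.Prime] {x : G}
    (hx : x ^ q ^ a = 1) : IsPGroup q (Subgroup.zpowers x) := by
  obtain ⟨b, _, hb⟩ := (Nat.dvd_prime_pow (Fact.out : q.Prime)).1 (orderOf_dvd_of_pow_eq_one hx)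
  exact IsPGroup.of_card (n := b) (by rw [Nat.card_zpowers, hb])

/-- lifting an element of prime order `q` of a quotient to a `q`-element -/
theorem exists_lift {G : Type*} [Group G] [Finite G] (N : Subgroup G) [N.Normal] {q : ℕ}
    [hq : Fact q.Prime] (xb : G ⧸ N) (hxb : orderOf xb = q) :
    ∃ x : G, QuotientGroup.mk' N x = xb ∧ IsPGroup q (Subgroup.zpowers x) := by
  obtain ⟨g, hg⟩ := QuotientGroup.mk'_surjective N xb
  obtain ⟨a, m, hm, hgm⟩ := Nat.exists_eq_pow_mul_and_not_dvd (orderOf_pos g).ne' q hq.out.ne_one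
  have hcop : Nat.Coprime m q := ((Nat.Prime.coprime_iff_not_dvd hq.out).2 hm).symm
  obtain ⟨m', _, hm'⟩ := Nat.exists_mul_mod_eq_one_of_coprime hcop hq.out.one_lt
  refine ⟨g ^ (m * m'), ?_, ?_⟩
  · rw [map_pow, hg, ← pow_mod_orderOf, hxb, hm', pow_one]
  · apply isPGroup_zpowers_of_pow (a := a)
    rw [← pow_mul]
    have : m * m' * q ^ a = (q ^ a * m) * m' := by ring
    rw [this, ← hgm, pow_mul, pow_orderOf_eq_one, one_pow]

theorem mem_centralizer_map_zpowers {G : Type*} [Group G] (N : Subgroup G) [N.Normal] {a y : G}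
    (h : QuotientGroup.mk' N a * QuotientGroup.mk' N y =
      QuotientGroup.mk' N y * QuotientGroup.mk' N a) :
    QuotientGroup.mk' N a ∈ Subgroup.centralizer
      (((Subgroup.zpowers y).map (QuotientGroup.mk' N) : Subgroup (G ⧸ N)) : Set (G ⧸ N)) := by
  rw [Subgroup.mem_centralizer_iff]
  rintro _ ⟨z, hz, rfl⟩
  obtain ⟨i, rfl⟩ := Subgroup.mem_zpowers_iff.1 hz
  rw [map_zpow]
  have hc : Commute (QuotientGroup.mk' N y) (QuotientGroup.mk' N a) := h.symm
  exact (hc.zpow_left i).eq

theorem cn_quotient_of_abelian_pgroup {G : Type u} [Group G] [Finite G] (hCN : Cfsg.IsCNGroup G)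
    {p : ℕ} [hp : Fact p.Prime] (N : Subgroup G) [hNn : N.Normal] (hNp : IsPGroup p N)
    (hN1 : N ≠ ⊥) (hNab : ∀ a ∈ N, ∀ b ∈ N, a * b = b * a) : Cfsg.IsCNGroup (G ⧸ N) := by
  intro yb hyb
  have ho : orderOf yb ≠ 1 := fun h => hyb (orderOf_eq_one_iff.1 h)
  obtain ⟨q, hq, hqd⟩ := Nat.exists_prime_and_dvd ho
  haveI : Fact q.Prime := ⟨hq⟩
  obtain ⟨xb, hxb⟩ : ∃ xb, xb = yb ^ (orderOf yb / q) := ⟨_, rfl⟩
  have hxbo : orderOf xb = q := by
    rw [hxb]
    exact orderOf_pow_orderOf_div (orderOf_pos yb).ne' hqd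
  have hle : Subgroup.centralizer ({yb} : Set (G ⧸ N)) ≤ Subgroup.centralizer ({xb} : Set (G ⧸ N)) := by
    intro a ha
    rw [Subgroup.mem_centralizer_singleton_iff] at ha ⊢
    rw [hxb]
    have hc : Commute a yb := ha
    exact (hc.pow_right _).eq
  refine nilpotent_of_le hle ?_
  obtain ⟨x, hx, hxq⟩ := exists_lift N xb hxbo
  have hxb1 : xb ≠ 1 := ne_one_of_orderOf hq hxbo
  have hxN : x ∉ N := by
    intro h
    apply hxb1
    rw [← hx]
    exact (QuotientGroup.eq_one_iff x).2 h
  have hx1 : x ≠ 1 := fun h => hxN (h ▸ N.one_mem)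
  obtain ⟨kN, hkN⟩ := hNp.exists_card_eq
  by_cases hqp : q = p
  · subst hqp
    -- the full preimage of the centralizer is nilpotent
    set C : Subgroup G := (Subgroup.centralizer ({xb} : Set (G ⧸ N))).comap (QuotientGroup.mk' N)
      with hC
    have hmemC : ∀ g : G, g ∈ C ↔ QuotientGroup.mk' N g * QuotientGroup.mk' N x =
        QuotientGroup.mk' N x * QuotientGroup.mk' N g := by
      intro g
      rw [hC, Subgroup.mem_comap, Subgroup.mem_centralizer_singleton_iff, hx]
    set Z0 : Subgroup G := N ⊓ Subgroup.centralizer ({x} : Set G) with hZ0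
    have hZ0N : Z0 ≤ N := inf_le_left
    have hZ0p : IsPGroup q Z0 := hNp.to_le hZ0N
    have hZ01 : Z0 ≠ ⊥ := by
      have hX : IsPGroup q (N ⊔ Subgroup.zpowers x : Subgroup G) :=
        IsPGroup.to_sup_of_normal_left hNp hxq
      have h1 := Cfsg.Agent.Lib.Helper6.CharP.inf_Cz_ne_bot (T := N ⊔ Subgroup.zpowers x) (R := N)
        hX.isNilpotent le_sup_left
        (by
          show _ ≤ Subgroup.normalizer (N : Set G)
          rw [Subgroup.normalizer_eq_top]; exact le_top) hN1
      intro h0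
      apply h1
      rw [eq_bot_iff, ← h0]
      intro n hn
      refine Subgroup.mem_inf.2 ⟨hn.1, ?_⟩
      rw [Subgroup.mem_centralizer_singleton_iff]
      exact ((Subgroup.mem_centralizer_iff.1 hn.2) x
        ((le_sup_right : Subgroup.zpowers x ≤ _) (Subgroup.mem_zpowers x))).symm
    have hCZ0 : C ≤ Subgroup.normalizer (Z0 : Set G) := by
      rw [Subgroup.le_normalizer_iff]
      intro g hg n hn
      obtain ⟨hnN, hnx⟩ := Subgroup.mem_inf.1 hn
      rw [Subgroup.mem_centralizer_singleton_iff] at hnx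
      have hn' : g * n * g⁻¹ ∈ N := hNn.conj_mem n hnN g
      refine Subgroup.mem_inf.2 ⟨hn', ?_⟩
      rw [Subgroup.mem_centralizer_singleton_iff]
      have hm : g * x * g⁻¹ * x⁻¹ ∈ N := by
        rw [← QuotientGroup.eq_one_iff]
        have h1 := (hmemC g).1 hg
        have h2 : ((g * x * g⁻¹ * x⁻¹ : G) : G ⧸ N) = QuotientGroup.mk' N g * QuotientGroup.mk' N x *
            (QuotientGroup.mk' N g)⁻¹ * (QuotientGroup.mk' N x)⁻¹ := rfl
        rw [h2, h1]
        group
      have h3 := hNab _ hn' _ hm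
      have h4 : (g * n * g⁻¹) * (g * x * g⁻¹) = (g * x * g⁻¹) * (g * n * g⁻¹) := by
        calc (g * n * g⁻¹) * (g * x * g⁻¹) = g * (n * x) * g⁻¹ := by group
          _ = g * (x * n) * g⁻¹ := by rw [hnx]
          _ = (g * x * g⁻¹) * (g * n * g⁻¹) := by group
      calc g * n * g⁻¹ * x = (g * x * g⁻¹ * x⁻¹)⁻¹ * ((g * x * g⁻¹ * x⁻¹) * (g * n * g⁻¹)) * x := by
            group
        _ = (g * x * g⁻¹ * x⁻¹)⁻¹ * ((g * n * g⁻¹) * (g * x * g⁻¹ * x⁻¹)) * x := by rw [h3]
        _ = (g * x * g⁻¹ * x⁻¹)⁻¹ * ((g * n * g⁻¹) * (g * x * g⁻¹)) := by group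
        _ = (g * x * g⁻¹ * x⁻¹)⁻¹ * ((g * x * g⁻¹) * (g * n * g⁻¹)) := by rw [h4]
        _ = x * (g * n * g⁻¹) := by group
    let P : Sylow q C := default
    set T : Subgroup G := (P : Subgroup C).map C.subtype with hT
    have hTC : T ≤ C := Subgroup.map_subtype_le _
    have hTp : IsPGroup q T := P.2.map _
    have hY : IsPGroup q (Z0 ⊔ T : Subgroup G) :=
      IsPGroup.to_sup_of_normal_left' hZ0p hTp (hTC.trans hCZ0)
    have h5 := Cfsg.Agent.Lib.Helper6.CharP.inf_Cz_ne_bot (T := Z0 ⊔ T) (R := Z0)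
      hY.isNilpotent le_sup_left (sup_le Subgroup.le_normalizer (hTC.trans hCZ0)) hZ01
    obtain ⟨n0, hn0, hn01⟩ : ∃ n0 ∈ Z0 ⊓ Subgroup.centralizer ((Z0 ⊔ T : Subgroup G) : Set G),
        n0 ≠ 1 := by
      by_contra hcon
      push Not at hcon
      exact h5 ((Subgroup.eq_bot_iff_forall _).2 hcon)
    obtain ⟨hn0Z, hn0c⟩ := Subgroup.mem_inf.1 hn0
    obtain ⟨hn0N, hn0x⟩ := Subgroup.mem_inf.1 hn0Z
    rw [Subgroup.mem_centralizer_singleton_iff] at hn0x
    have hCle : C ≤ Subgroup.centralizer ({n0} : Set G) := by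
      apply le_of_sylow_le
      intro r hr
      by_cases hrq : r = q
      · subst hrq
        refine ⟨P, ?_⟩
        intro a ha
        rw [Subgroup.mem_centralizer_singleton_iff]
        exact (Subgroup.mem_centralizer_iff.1 hn0c) a
          ((le_sup_right : T ≤ Z0 ⊔ T) ⟨a, ha, rfl⟩)
      · refine ⟨default, ?_⟩
        intro a ha
        have hyr : IsPGroup r (Subgroup.zpowers (a : G)) := by
          have h6 : IsPGroup r (((default : Sylow r C) : Subgroup C).map C.subtype) :=
            (default : Sylow r C).2.map _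
          refine h6.to_le ?_
          rw [Subgroup.zpowers_le]
          exact ⟨a, ha, rfl⟩
        have hO : (Nat.card N).Coprime r := by
          rw [hkN]
          exact Nat.Coprime.pow_left _ ((Nat.coprime_primes hq hr.out).2 (Ne.symm hrq))
        obtain ⟨o, ho, c, hc, hxoc⟩ := PLocal.lift_centralizer (p := r) (O := N) hO hyr (x := x)
          (mem_centralizer_map_zpowers N ((hmemC a).1 a.2).symm)
        have hc1 : c ≠ 1 := by
          rintro rfl
          apply hxN
          rw [hxoc, mul_one]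
          exact ho
        have hca : (a : G) * c = c * a :=
          (Subgroup.mem_centralizer_iff.1 hc) a (Subgroup.mem_zpowers _)
        have hcn : n0 * c = c * n0 := by
          have hce : c = o⁻¹ * x := by rw [hxoc]; group
          have h7 := hNab n0 hn0N o ho
          rw [hce]
          calc n0 * (o⁻¹ * x) = o⁻¹ * (o * n0) * o⁻¹ * x := by group
            _ = o⁻¹ * (n0 * o) * o⁻¹ * x := by rw [h7]
            _ = o⁻¹ * (n0 * x) := by group
            _ = o⁻¹ * (x * n0) := by rw [hn0x]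
            _ = o⁻¹ * x * n0 := by group
        rw [Subgroup.mem_centralizer_singleton_iff]
        refine Cfsg.Agent.Lib.Helper2.Schmidt.commute_of_le_nilpotent (hCN c hc1)
          (A := Subgroup.zpowers (a : G)) (B := Subgroup.zpowers n0) ?_ ?_ hrq hyr
          (hNp.to_le (by rwa [Subgroup.zpowers_le])) a (Subgroup.mem_zpowers _) n0
          (Subgroup.mem_zpowers _)
        · rw [Subgroup.zpowers_le, Subgroup.mem_centralizer_singleton_iff]
          exact hca
        · rw [Subgroup.zpowers_le, Subgroup.mem_centralizer_singleton_iff]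
          exact hcn
    have hCnil : Group.IsNilpotent C := nilpotent_of_le hCle (hCN n0 hn01)
    have hmap : C.map (QuotientGroup.mk' N) = Subgroup.centralizer ({xb} : Set (G ⧸ N)) :=
      Subgroup.map_comap_eq_self_of_surjective (QuotientGroup.mk'_surjective N) _
    rw [← hmap]
    exact nilpotent_map _ hCnil
  · have hO : (Nat.card N).Coprime q := by
      rw [hkN]
      exact Nat.Coprime.pow_left _ ((Nat.coprime_primes hp.out hq).2 (Ne.symm hqp))
    have h1 : Subgroup.centralizer ({xb} : Set (G ⧸ N)) ≤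
        (Subgroup.centralizer ({x} : Set G)).map (QuotientGroup.mk' N) := by
      intro ab hab
      obtain ⟨a, rfl⟩ := QuotientGroup.mk'_surjective N ab
      rw [Subgroup.mem_centralizer_singleton_iff, ← hx] at hab
      obtain ⟨o, ho, c, hc, rfl⟩ := PLocal.lift_centralizer (p := q) (O := N) hO hxq (x := a)
        (mem_centralizer_map_zpowers N hab)
      refine ⟨c, ?_, ?_⟩
      · rw [SetLike.mem_coe, Subgroup.mem_centralizer_singleton_iff]
        exact ((Subgroup.mem_centralizer_iff.1 hc) x (Subgroup.mem_zpowers x)).symm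
      · rw [map_mul, (show QuotientGroup.mk' N o = 1 from (QuotientGroup.eq_one_iff o).2 ho),
          one_mul]
    exact nilpotent_of_le h1 (nilpotent_map _ (hCN x hx1))

end Cfsg.Agent.Lib.Helper3.CN
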