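import Cfsg.Agent.Lib.Helper3.CN3
import Cfsg.Agent.Lib.Helper3.AvgFrob2
import Cfsg.Agent.Lib.Helper2.Schmidt2

namespace Cfsg.Agent.Lib.Helper3.CN

open Cfsg.Agent.Lib.Helper6.Nil

theorem cn_subgroup {G : Type*} [Group G] (h : Cfsg.IsCNGroup G) (S : Subgroup G) :
    Cfsg.IsCNGroup S := by
  intro g hg
  have h1 : (g : G) ≠ 1 := fun h0 => hg (Subtype.ext h0)
  haveI := h _ h1
  let f : Subgroup.centralizer ({g} : Set S) →* Subgroup.centralizer ({(g : G)} : Set G) :=
    { toFun := fun x => ⟨(x : S), by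
        have := Subgroup.mem_centralizer_singleton_iff.1 x.2
        rw [Subgroup.mem_centralizer_singleton_iff]
        exact congrArg Subtype.val this⟩
      map_one' := rfl
      map_mul' := fun _ _ => rfl }
  have hf : Function.Injective f := by
    intro a b hab
    have : ((a : S) : G) = ((b : S) : G) := congrArg (fun t : Subgroup.centralizer ({(g : G)} : Set G) => (t : G)) hab
    exact Subtype.ext (Subtype.ext this)
  refine Subgroup.isNilpotent_of_ker_le_center f ?_
  rw [(MonoidHom.ker_eq_bot_iff f).2 hf]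
  exact bot_le

/-- In a minimal non-nilpotent CN-group the cyclic Sylow subgroup acts freely on the normal one. -/
theorem schmidt_fpf {S : Type*} [Group S] [Finite S] (hCN : Cfsg.IsCNGroup S)
    (hnn : ¬ Group.IsNilpotent S) (hmin : ∀ H : Subgroup S, H ≠ ⊤ → Group.IsNilpotent H)
    {p q : ℕ} [Fact p.Prime] [Fact q.Prime] (hpq : p ≠ q) (P : Sylow p S) (Q : Sylow q S)
    (hPc : IsCyclic (P : Subgroup S)) (hQn : (Q : Subgroup S).Normal)
    (hPQ : (P : Subgroup S) ⊔ Q = ⊤) :
    ∀ h ∈ (P : Subgroup S), h ≠ 1 → ∀ k ∈ (Q : Subgroup S), h * k = k * h → k = 1 := by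
  -- trivial centre
  have hZ : ∀ c : S, (∀ a ∈ (P : Subgroup S), a * c = c * a) →
      (∀ b ∈ (Q : Subgroup S), b * c = c * b) → c = 1 := by
    intro c h1 h2
    by_contra hc
    apply hnn
    have h3 : (⊤ : Subgroup S) ≤ Subgroup.centralizer ({c} : Set S) := by
      rw [← hPQ]
      refine sup_le ?_ ?_
      · intro a ha
        rw [Subgroup.mem_centralizer_singleton_iff]
        exact h1 a ha
      · intro b hb
        rw [Subgroup.mem_centralizer_singleton_iff]
        exact h2 b hb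
    exact Group.nilpotent_of_mulEquiv (G := (⊤ : Subgroup S)) (_h := nilpotent_of_le h3 (hCN c hc))
      Subgroup.topEquiv
  have hdisj : ∀ x, x ∈ (P : Subgroup S) → x ∈ (Q : Subgroup S) → x = 1 := by
    intro x h1 h2
    have := (IsPGroup.disjoint_of_ne p q hpq _ _ P.2 Q.2).le_bot
      (show x ∈ (P : Subgroup S) ⊓ Q from ⟨h1, h2⟩)
    simpa using this
  -- proper normal subgroups of `S` inside `Q` commute with `P`
  have hN : ∀ N : Subgroup S, N.Normal → N ≤ Q → N ≠ Q →
      ∀ n ∈ N, ∀ a ∈ (P : Subgroup S), a * n = n * a := by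
    intro N hNn hNQ hne n hn a ha
    have hne' : N ⊔ (P : Subgroup S) ≠ ⊤ := by
      intro htop
      apply hne
      apply le_antisymm hNQ
      intro x hx
      have hx' : x ∈ (↑(N ⊔ (P : Subgroup S)) : Set S) := by rw [htop]; trivial
      rw [Subgroup.normal_mul, Set.mem_mul] at hx'
      obtain ⟨m, hm, y, hy, rfl⟩ := hx'
      have hyQ : y ∈ (Q : Subgroup S) := by
        have : y = m⁻¹ * (m * y) := by group
        rw [this]
        exact Subgroup.mul_mem _ (Subgroup.inv_mem _ (hNQ hm)) hx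
      rw [hdisj y hy hyQ, mul_one]
      exact hm
    exact Cfsg.Agent.Lib.Helper2.Schmidt.commute_of_le_nilpotent (hmin _ hne') le_sup_right
      le_sup_left hpq P.2 (Q.2.to_le hNQ) a ha n hn
  have hPab : ∀ a ∈ (P : Subgroup S), ∀ b ∈ (P : Subgroup S), a * b = b * a := by
    intro a ha b hb
    haveI := hPc
    have := (IsCyclic.isMulCommutative (α := (P : Subgroup S))).is_comm.comm ⟨a, ha⟩ ⟨b, hb⟩
    exact congrArg Subtype.val this
  have hQ1 : (Q : Subgroup S) ≠ ⊥ := by
    intro h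
    apply hnn
    rw [h, sup_bot_eq] at hPQ
    have h1 : Group.IsNilpotent (P : Subgroup S) := P.2.isNilpotent
    rw [hPQ] at h1
    exact Group.nilpotent_of_mulEquiv (G := (⊤ : Subgroup S)) (_h := h1) Subgroup.topEquiv
  -- `Q` is abelian
  have hQab : ∀ a ∈ (Q : Subgroup S), ∀ b ∈ (Q : Subgroup S), a * b = b * a := by
    set Zq : Subgroup S := (Subgroup.center (Q : Subgroup S)).map (Q : Subgroup S).subtype with hZq
    have hZn : Zq.Normal := ConjAct.normal_of_characteristic_of_normal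
    have hZQ : Zq ≤ Q := Subgroup.map_subtype_le _
    have hZc : ∀ z ∈ Zq, ∀ b ∈ (Q : Subgroup S), b * z = z * b := by
      rintro _ ⟨z, hz, rfl⟩ b hb
      exact congrArg Subtype.val ((Subgroup.mem_center_iff.1 hz) ⟨b, hb⟩)
    by_cases hZe : Zq = Q
    · intro a ha b hb
      exact hZc b (hZe ▸ hb) a ha
    · exfalso
      haveI : Nontrivial (Q : Subgroup S) := (Subgroup.nontrivial_iff_ne_bot _).2 hQ1
      haveI := Q.2.center_nontrivial
      obtain ⟨z, hz⟩ := exists_ne (1 : Subgroup.center (Q : Subgroup S))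
      apply hz
      have hzZ : ((z : (Q : Subgroup S)) : S) ∈ Zq := ⟨z, z.2, rfl⟩
      have := hZ _ (fun a ha => hN Zq hZn hZQ hZe _ hzZ a ha) (fun b hb => hZc _ hzZ b hb)
      exact Subtype.ext (Subtype.ext this)
  intro h hh hh1 k hk hhk
  set Q1 : Subgroup S := (Q : Subgroup S) ⊓ Subgroup.centralizer ({h} : Set S) with hQ1def
  have hQ1Q : Q1 ≤ Q := inf_le_left
  have hQ1n : Q1.Normal := by
    rw [← Subgroup.normalizer_eq_top_iff, eq_top_iff, ← hPQ]
    refine sup_le ?_ ?_
    · rw [Subgroup.le_normalizer_iff]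
      intro a ha x hx
      obtain ⟨hxQ, hxh⟩ := Subgroup.mem_inf.1 hx
      rw [Subgroup.mem_centralizer_singleton_iff] at hxh
      refine Subgroup.mem_inf.2 ⟨hQn.conj_mem x hxQ a, ?_⟩
      rw [Subgroup.mem_centralizer_singleton_iff]
      have hah := hPab a ha h hh
      calc a * x * a⁻¹ * h = a * x * (a⁻¹ * (h * a)) * a⁻¹ := by group
        _ = a * x * (a⁻¹ * (a * h)) * a⁻¹ := by rw [hah]
        _ = a * (x * h) * a⁻¹ := by group
        _ = a * (h * x) * a⁻¹ := by rw [hxh]
        _ = (a * h) * x * a⁻¹ := by group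
        _ = (h * a) * x * a⁻¹ := by rw [hah]
        _ = h * (a * x * a⁻¹) := by group
    · rw [Subgroup.le_normalizer_iff]
      intro b hb x hx
      have : b * x * b⁻¹ = x := by
        rw [hQab b hb x (hQ1Q hx)]
        group
      rw [this]
      exact hx
  have hkQ1 : k ∈ Q1 := Subgroup.mem_inf.2 ⟨hk, by
    rw [Subgroup.mem_centralizer_singleton_iff]; exact hhk.symm⟩
  by_cases hQ1e : Q1 = Q
  · exfalso
    apply hh1
    apply hZ h (fun a ha => hPab a ha h hh)
    intro b hb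
    have hb' : b ∈ Q1 := hQ1e ▸ hb
    exact Subgroup.mem_centralizer_singleton_iff.1 (Subgroup.mem_inf.1 hb').2
  · exact hZ k (fun a ha => hN Q1 hQ1n hQ1Q hQ1e k hkQ1 a ha) (fun b hb => hQab b hb k hk)

/-- In a CN-group, a subgroup acting freely and coprimely on a nontrivial abelian subgroup is
nilpotent. -/
theorem nilpotent_of_fpf {G : Type*} [Group G] [Finite G] (hCN : Cfsg.IsCNGroup G)
    (E V : Subgroup G) (hVab : IsMulCommutative V) (hV1 : V ≠ ⊥)
    (hEV : E ≤ Subgroup.normalizer (V : Set G)) (hcop : (Nat.card E).Coprime (Nat.card V))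
    (hf : ∀ e ∈ E, e ≠ 1 → ∀ v ∈ V, e * v = v * e → v = 1) : Group.IsNilpotent E := by
  by_contra hnn
  have hfin : {L : Subgroup G | L ≤ E ∧ ¬ Group.IsNilpotent L}.Finite := Set.toFinite _
  obtain ⟨S0, ⟨hS0E, hS0n⟩, hmin⟩ := hfin.exists_minimal ⟨E, le_rfl, hnn⟩
  have hmin' : ∀ H : Subgroup S0, H ≠ ⊤ → Group.IsNilpotent H := by
    intro H hH
    by_contra hHn
    apply hH
    have h1 : H.map S0.subtype ∈ {L : Subgroup G | L ≤ E ∧ ¬ Group.IsNilpotent L} := by
      refine ⟨(Subgroup.map_subtype_le H).trans hS0E, ?_⟩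
      intro h2
      apply hHn
      exact Group.nilpotent_of_mulEquiv (_h := h2)
        (H.equivMapOfInjective S0.subtype S0.subtype_injective).symm
    have h3 := hmin h1 (Subgroup.map_subtype_le H)
    rw [eq_top_iff]
    intro x _
    obtain ⟨y, hy, hyx⟩ := h3 x.2
    have : y = x := Subtype.ext hyx
    rwa [← this]
  obtain ⟨p, q, hp, hq, hpq, P, Q, hPc, hQn, hPQ, hPn⟩ :=
    Cfsg.Agent.Lib.Helper2.Schmidt.schmidt_structure hS0n hmin'
  haveI : Fact p.Prime := ⟨hp⟩
  haveI : Fact q.Prime := ⟨hq⟩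
  have hfpf := schmidt_fpf (cn_subgroup hCN S0) hS0n hmin' hpq P Q hPc hQn hPQ
  letI : CommGroup V := Avg.cg V hVab
  letI : MulDistribMulAction S0 V := Avg.act S0 V (hS0E.trans hEV)
  haveI : Nontrivial V := (Subgroup.nontrivial_iff_ne_bot V).2 hV1
  have hP1 : (P : Subgroup S0) ≠ ⊥ := by
    intro h
    apply hPn
    rw [h]
    infer_instance
  have hQ1 : (Q : Subgroup S0) ≠ ⊥ := by
    intro h
    apply hPn
    rw [h, sup_bot_eq] at hPQ
    rw [hPQ]
    infer_instance
  have hc : Subgroup.IsComplement' (Q : Subgroup S0) (P : Subgroup S0) := by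
    apply Subgroup.isComplement'_of_disjoint_and_mul_eq_univ
    · exact IsPGroup.disjoint_of_ne q p hpq.symm _ _ Q.2 P.2
    · rw [← Subgroup.normal_mul, sup_comm, hPQ]
      rfl
  have hfree : ∀ s : S0, s ≠ 1 → ∀ m : V, s • m = m → m = 1 := by
    intro s hs m hm
    have h1 : (s : G) * m * (s : G)⁻¹ = m := congrArg Subtype.val hm
    apply Subtype.ext
    apply hf s (hS0E s.2) (fun h => hs (Subtype.ext h)) m m.2
    calc (s : G) * m = ((s : G) * m * (s : G)⁻¹) * s := by group
      _ = m * s := by rw [h1]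
  obtain ⟨k, hkQ, hk1⟩ : ∃ k ∈ (Q : Subgroup S0), k ≠ 1 := by
    by_contra hcon
    push Not at hcon
    exact hQ1 ((Subgroup.eq_bot_iff_forall _).2 hcon)
  obtain ⟨h, hhP, hh1⟩ : ∃ h ∈ (P : Subgroup S0), h ≠ 1 := by
    by_contra hcon
    push Not at hcon
    exact hP1 ((Subgroup.eq_bot_iff_forall _).2 hcon)
  obtain ⟨m, hm, hfix⟩ := Avg.fpf_fixed (L := S0) (M := V) (Q : Subgroup S0) (P : Subgroup S0) hc
    hQ1 hP1 hfpf
    (by
      have h1 : Nat.card (Q : Subgroup S0) ∣ Nat.card E :=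
        (Subgroup.card_subgroup_dvd_card _).trans (Subgroup.card_dvd_of_le hS0E)
      exact (Nat.Coprime.of_dvd_left h1 hcop).symm)
    (fun m hm => hfree k hk1 m (hm k hkQ))
  exact hm (hfree h hh1 m (hfix h hhP))

end Cfsg.Agent.Lib.Helper3.CN
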