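import Cfsg.Agent.Lib.Helper3.ZJLocal
import Cfsg.Agent.S0015
import Cfsg.Prelude.Def_DStar

set_option autoImplicit false
open scoped commutatorElement

namespace Cfsg.Agent.Lib.Helper3.DStar

open Cfsg.Agent.Lib.Helper1 Cfsg.Agent.Lib.Helper3.PLocal

universe u

variable {S : Type u} [Group S]

/-- a group generated by a set whose commutators commute with the generators has class at most 2 -/
theorem class_two_closure {T : Set S}
    (h : ∀ s ∈ T, ∀ t ∈ T, ∀ u ∈ T, u * ⁅s, t⁆ = ⁅s, t⁆ * u) :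
    ⁅⁅Subgroup.closure T, Subgroup.closure T⁆, Subgroup.closure T⁆ = ⊥ := by
  rw [Subgroup.commutator_eq_bot_iff_le_centralizer, Subgroup.commutator_le]
  intro a ha b hb
  have hconj : ∀ z ∈ Subgroup.centralizer ((Subgroup.closure T : Subgroup S) : Set S),
      ∀ g ∈ Subgroup.closure T, g * z * g⁻¹ = z := by
    intro z hz g hg
    rw [(Subgroup.mem_centralizer_iff.1 hz) g hg]; group
  induction ha, hb using Subgroup.closure_induction₂ with
  | mem s t hs ht =>
    rw [Subgroup.centralizer_closure, Subgroup.mem_centralizer_iff]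
    intro u hu
    exact h s hs t ht u hu
  | one_left x hx => rw [commutatorElement_one_left]; exact Subgroup.one_mem _
  | one_right x hx => rw [commutatorElement_one_right]; exact Subgroup.one_mem _
  | mul_left x y z hx hy hz h1 h2 =>
    have e : ⁅x * y, z⁆ = (x * ⁅y, z⁆ * x⁻¹) * ⁅x, z⁆ := by
      simp only [commutatorElement_def]; group
    rw [e, hconj _ h2 x hx]
    exact Subgroup.mul_mem _ h2 h1
  | mul_right y z x hy hz hx h1 h2 =>
    have e : ⁅x, y * z⁆ = ⁅x, y⁆ * (y * ⁅x, z⁆ * y⁻¹) := by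
      simp only [commutatorElement_def]; group
    rw [e, hconj _ h2 y hy]
    exact Subgroup.mul_mem _ h1 h2
  | inv_left x y hx hy h1 =>
    have e : ⁅x⁻¹, y⁆ = x⁻¹ * ⁅x, y⁆⁻¹ * x⁻¹⁻¹ := by
      simp only [commutatorElement_def]; group
    rw [e, hconj _ (Subgroup.inv_mem _ h1) _ (Subgroup.inv_mem _ hx)]
    exact Subgroup.inv_mem _ h1
  | inv_right x y hx hy h1 =>
    have e : ⁅x, y⁻¹⁆ = y⁻¹ * ⁅x, y⁆⁻¹ * y⁻¹⁻¹ := by
      simp only [commutatorElement_def]; group
    rw [e, hconj _ (Subgroup.inv_mem _ h1) _ (Subgroup.inv_mem _ hy)]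
    exact Subgroup.inv_mem _ h1

theorem sup_zpowers_eq_closure (E : Subgroup S) (x : S) :
    E ⊔ Subgroup.zpowers x = Subgroup.closure ((E : Set S) ∪ {x}) := by
  rw [Subgroup.closure_union, Subgroup.closure_eq, Subgroup.zpowers_eq_closure]

theorem class_two_sup {E K : Subgroup S} (hE : IsMulCommutative E) {x : S}
    (h1 : ∀ e ∈ E, ⁅e, x⁆ ∈ K) (hKE : ∀ k ∈ K, ∀ e ∈ E, e * k = k * e)
    (hKx : ∀ k ∈ K, x * k = k * x) :
    ⁅⁅E ⊔ Subgroup.zpowers x, E ⊔ Subgroup.zpowers x⁆, E ⊔ Subgroup.zpowers x⁆ = ⊥ := by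
  rw [sup_zpowers_eq_closure]
  apply class_two_closure
  have hK : ∀ s ∈ ((E : Set S) ∪ {x}), ∀ t ∈ ((E : Set S) ∪ {x}), ⁅s, t⁆ ∈ K := by
    intro s hs t ht
    rcases hs with hs | hs <;> rcases ht with ht | ht
    · rw [commutatorElement_eq_one_iff_mul_comm.2 (ab_iff.1 hE s hs t ht)]
      exact K.one_mem
    · rw [Set.mem_singleton_iff.1 ht]; exact h1 s hs
    · rw [Set.mem_singleton_iff.1 hs, ← commutatorElement_inv]
      exact K.inv_mem (h1 t ht)
    · rw [Set.mem_singleton_iff.1 hs, Set.mem_singleton_iff.1 ht, commutatorElement_self]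
      exact K.one_mem
  intro s hs t ht u hu
  rcases hu with hu | hu
  · exact hKE _ (hK s hs t ht) u hu
  · rw [Set.mem_singleton_iff.1 hu]; exact hKx _ (hK s hs t ht)

theorem class_two_mono {E F : Subgroup S} (hEF : E ≤ F) {x : S}
    (h : ⁅⁅F ⊔ Subgroup.zpowers x, F ⊔ Subgroup.zpowers x⁆, F ⊔ Subgroup.zpowers x⁆ = ⊥) :
    ⁅⁅E ⊔ Subgroup.zpowers x, E ⊔ Subgroup.zpowers x⁆, E ⊔ Subgroup.zpowers x⁆ = ⊥ := by
  have h1 : E ⊔ Subgroup.zpowers x ≤ F ⊔ Subgroup.zpowers x := sup_le_sup_right hEF _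
  rw [eq_bot_iff, ← h]
  exact Subgroup.commutator_mono (Subgroup.commutator_mono h1 h1) h1

theorem center_mem : Subgroup.center S ∈ Cfsg.dStarFamily S := by
  refine ⟨inferInstance, ?_⟩
  intro x _ a ha
  exact (Subgroup.mem_center_iff.1 ha x).symm

/-- a member of the family centralizes every abelian normal subgroup -/
theorem member_centralizes [Group.IsNilpotent S] {E : Subgroup S} (hE : E ∈ Cfsg.dStarFamily S)
    (A : Subgroup S) [hAn : A.Normal] (hA : IsMulCommutative A) :
    ∀ x ∈ A, ∀ e ∈ E, e * x = x * e := by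
  have key : ∀ i : ℕ, ∀ x ∈ A ⊓ Subgroup.upperCentralSeries S i, ∀ e ∈ E, e * x = x * e := by
    intro i
    induction i with
    | zero =>
      intro x hx e _
      have : x = 1 := by
        have := hx.2
        rw [Subgroup.upperCentralSeries_zero] at this
        exact Subgroup.mem_bot.1 this
      rw [this]; simp
    | succ i ih =>
      intro x hx
      apply hE.2 x
      apply class_two_sup hE.1 (K := A ⊓ Subgroup.upperCentralSeries S i)
      · intro e _
        refine Subgroup.mem_inf.2 ⟨?_, ?_⟩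
        · rw [commutatorElement_def]
          exact A.mul_mem (hAn.conj_mem x hx.1 e) (A.inv_mem hx.1)
        · have h2 := (Subgroup.mem_upperCentralSeries_succ_iff.1 hx.2) e
          have e2 : ⁅e, x⁆ = (x * e * x⁻¹ * e⁻¹)⁻¹ := by
            rw [commutatorElement_def]; group
          rw [e2]
          exact Subgroup.inv_mem _ h2
      · intro k hk e he
        exact ih k hk e he
      · intro k hk
        exact ab_iff.1 hA x hx.1 k hk.1
  obtain ⟨n, hn⟩ := (Group.isNilpotent_iff S).1 inferInstance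
  intro x hx
  exact key n x (Subgroup.mem_inf.2 ⟨hx, by rw [hn]; trivial⟩)

theorem member_le_of_max [Finite S] [Group.IsNilpotent S] {E : Subgroup S}
    (hE : E ∈ Cfsg.dStarFamily S) (A : Subgroup S) (hAn : A.Normal) (hA : IsMulCommutative A)
    (hmax : ∀ B : Subgroup S, B.Normal → IsMulCommutative B → A ≤ B → B = A) : E ≤ A := by
  have h1 := Cfsg.Agent.S0015.result A hmax
  rw [← h1]
  intro e he
  rw [Subgroup.mem_centralizer_iff]
  intro x hx
  exact (member_centralizes hE A hA x hx e he).symm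

theorem exists_max_normal_abelian [Finite S] : ∃ A : Subgroup S, A.Normal ∧ IsMulCommutative A ∧
    ∀ B : Subgroup S, B.Normal → IsMulCommutative B → A ≤ B → B = A := by
  obtain ⟨A, hA, hmax⟩ := Set.exists_max_image {A : Subgroup S | A.Normal ∧ IsMulCommutative A}
    (fun A => Nat.card A) (Set.toFinite _) ⟨⊥, inferInstance, Pab_bot⟩
  refine ⟨A, hA.1, hA.2, fun B hBn hB hAB => ?_⟩
  exact (Subgroup.eq_of_le_of_card_ge hAB (hmax B ⟨hBn, hB⟩)).symm

theorem dStar_le_of_max [Finite S] [Group.IsNilpotent S] (A : Subgroup S) (hAn : A.Normal)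
    (hA : IsMulCommutative A)
    (hmax : ∀ B : Subgroup S, B.Normal → IsMulCommutative B → A ≤ B → B = A) :
    Cfsg.dStar S ≤ A :=
  sSup_le fun _ hE => member_le_of_max hE A hAn hA hmax

theorem dStar_comm [Finite S] [Group.IsNilpotent S] : IsMulCommutative (Cfsg.dStar S) := by
  obtain ⟨A, hAn, hA, hmax⟩ := exists_max_normal_abelian (S := S)
  have h := dStar_le_of_max A hAn hA hmax
  rw [ab_iff]
  intro x hx y hy
  exact ab_iff.1 hA x (h hx) y (h hy)

theorem dStar_mem [Finite S] [Group.IsNilpotent S] : Cfsg.dStar S ∈ Cfsg.dStarFamily S := by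
  refine ⟨dStar_comm, ?_⟩
  intro x hx
  have h1 : Cfsg.dStar S ≤ Subgroup.centralizer ({x} : Set S) := by
    apply sSup_le
    intro E hE e he
    rw [Subgroup.mem_centralizer_singleton_iff]
    exact hE.2 x (class_two_mono (le_sSup hE) hx) e he
  intro a ha
  exact Subgroup.mem_centralizer_singleton_iff.1 (h1 ha)

theorem family_map {S' : Type*} [Group S'] (φ : S ≃* S') {E : Subgroup S}
    (hE : E ∈ Cfsg.dStarFamily S) : E.map φ.toMonoidHom ∈ Cfsg.dStarFamily S' := by
  refine ⟨ab_map _ hE.1, ?_⟩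
  intro x hx
  rintro _ ⟨a, ha, rfl⟩
  obtain ⟨y, rfl⟩ := φ.surjective x
  have e1 : E.map φ.toMonoidHom ⊔ Subgroup.zpowers (φ y) =
      (E ⊔ Subgroup.zpowers y).map φ.toMonoidHom := by
    rw [Subgroup.map_sup, MonoidHom.map_zpowers]; rfl
  rw [e1, ← Subgroup.map_commutator, ← Subgroup.map_commutator,
    Subgroup.map_eq_bot_iff_of_injective _ φ.injective] at hx
  have := hE.2 y hx a ha
  change φ a * φ y = φ y * φ a
  rw [← map_mul, ← map_mul, this]

theorem dStar_map_le {S' : Type*} [Group S'] (φ : S ≃* S') :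
    (Cfsg.dStar S).map φ.toMonoidHom ≤ Cfsg.dStar S' := by
  unfold Cfsg.dStar
  rw [Subgroup.map_le_iff_le_comap]
  apply sSup_le
  intro E hE
  rw [← Subgroup.map_le_iff_le_comap]
  exact le_sSup (family_map φ hE)

theorem dStar_map {S' : Type*} [Group S'] (φ : S ≃* S') :
    (Cfsg.dStar S).map φ.toMonoidHom = Cfsg.dStar S' := by
  apply le_antisymm (dStar_map_le φ)
  intro y hy
  have := dStar_map_le φ.symm ⟨y, hy, rfl⟩
  exact ⟨_, this, by simp⟩

instance dStar_characteristic : (Cfsg.dStar S).Characteristic := by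
  rw [Subgroup.characteristic_iff_map_eq]
  intro φ
  exact dStar_map φ

/-- a normal member of the family centralizes every abelian subgroup which it normalizes -/
theorem normal_member_centralizes {B : Subgroup S} (hB : B ∈ Cfsg.dStarFamily S) (hBn : B.Normal)
    {A : Subgroup S} (hA : IsMulCommutative A) (hBA : B ≤ Subgroup.normalizer (A : Set S)) :
    ∀ x ∈ A, ∀ e ∈ B, e * x = x * e := by
  intro x hx
  apply hB.2 x
  apply class_two_sup hB.1 (K := A ⊓ B)
  · intro e he
    refine Subgroup.mem_inf.2 ⟨?_, ?_⟩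
    · rw [commutatorElement_def]
      exact A.mul_mem (conj_mem_of_normalizer (hBA he) hx) (A.inv_mem hx)
    · have e2 : ⁅e, x⁆ = e * (x * e⁻¹ * x⁻¹) := by rw [commutatorElement_def]; group
      rw [e2]
      exact B.mul_mem he (hBn.conj_mem _ (B.inv_mem he) x)
  · intro k hk e he
    exact ab_iff.1 hB.1 e he k hk.2
  · intro k hk
    exact ab_iff.1 hA x hx k hk.1

theorem dStar_le_of_mem_PMax [Finite S] {p : ℕ} [Fact p.Prime] (hS : IsPGroup p S)
    {U : Subgroup S} (hU : U ∈ PMax Pab (⊤ : Subgroup S)) : Cfsg.dStar S ≤ U := by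
  have : Group.IsNilpotent S := hS.isNilpotent
  by_contra hnot
  have hB := dStar_mem (S := S)
  have hBn : (Cfsg.dStar S).Normal := inferInstance
  have hBB : ⁅Cfsg.dStar S, Cfsg.dStar S⁆ = ⊥ := by
    rw [Subgroup.commutator_eq_bot_iff_le_centralizer]
    intro a ha
    rw [Subgroup.mem_centralizer_iff]
    intro b hb
    exact ab_iff.1 hB.1 b hb a ha
  obtain ⟨A, hA, _, hBA, hBN⟩ := replacement (p := p) (T := (⊤ : Subgroup S))
    (hS.to_subgroup _) (𝔄 := PMax Pab (⊤ : Subgroup S)) (B := Cfsg.dStar S)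
    (fun A hA => ⟨hA.1, hA.2.1⟩)
    (fun A hA b hb N₀ h => PMax_star hA h le_top
      (h.star_comm (hodd_of_pgroup (hS.to_subgroup _) (fun _ => hB.1))))
    le_top (by rw [Subgroup.normalizer_eq_top]) ⟨U, hU, by rw [hBB]; exact bot_le, hnot⟩
  apply hBA
  intro e he
  apply mem_PMax_of_centralizes hA (Subgroup.mem_top e)
  intro a ha
  exact (normal_member_centralizes hB hBn hA.2.1 hBN a ha e he).symm

theorem maxAb_eq : Cfsg.maxAbelianSubgroups S = PMax Pab (⊤ : Subgroup S) := by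
  ext A
  constructor
  · intro h
    exact ⟨le_top, h.1, fun C _ hC => h.2 C hC⟩
  · intro h
    exact ⟨h.2.1, fun C hC => h.2.2 C le_top hC⟩

theorem dStar_le_ZJ [Finite S] {p : ℕ} [Fact p.Prime] (hS : IsPGroup p S) :
    Cfsg.dStar S ≤ Cfsg.thompsonSubgroupA S ⊓
      Subgroup.centralizer (Cfsg.thompsonSubgroupA S : Set S) := by
  unfold Cfsg.thompsonSubgroupA
  rw [maxAb_eq]
  obtain ⟨A₀, hA₀⟩ := PMax_nonempty (P := Pab) Pab_bot (⊤ : Subgroup S)
  refine le_inf ((dStar_le_of_mem_PMax hS hA₀).trans (le_sSup hA₀)) ?_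
  rw [Subgroup.le_centralizer_iff]
  apply sSup_le
  intro A hA a ha
  rw [Subgroup.mem_centralizer_iff]
  intro x hx
  exact ab_iff.1 hA.2.1 x (dStar_le_of_mem_PMax hS hA hx) a ha

end Cfsg.Agent.Lib.Helper3.DStar
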