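import Cfsg.Agent.Lib.Helper3.DStar

set_option autoImplicit false
open scoped commutatorElement

namespace Cfsg.Agent.Lib.Helper3.DStar

open Cfsg.Agent.Lib.Helper1 Cfsg.Agent.Lib.Helper3.PLocal

universe u

variable {G : Type u} [Group G]

/-- ambient version of the family -/
def Fam (T : Subgroup G) : Set (Subgroup G) :=
  {A | A ≤ T ∧ IsMulCommutative A ∧ ∀ x ∈ T,
    ⁅⁅A ⊔ Subgroup.zpowers x, A ⊔ Subgroup.zpowers x⁆, A ⊔ Subgroup.zpowers x⁆ = ⊥ →
      ∀ a ∈ A, a * x = x * a}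

theorem map_mem_Fam {T : Subgroup G} {A₀ : Subgroup T} (h : A₀ ∈ Cfsg.dStarFamily T) :
    A₀.map T.subtype ∈ Fam T := by
  refine ⟨Subgroup.map_subtype_le _, ab_map _ h.1, ?_⟩
  intro x hx hcl
  rintro _ ⟨a, ha, rfl⟩
  have e1 : A₀.map T.subtype ⊔ Subgroup.zpowers x =
      (A₀ ⊔ Subgroup.zpowers (⟨x, hx⟩ : T)).map T.subtype := by
    rw [Subgroup.map_sup, MonoidHom.map_zpowers]; rfl
  rw [e1, ← Subgroup.map_commutator, ← Subgroup.map_commutator,
    Subgroup.map_eq_bot_iff_of_injective _ T.subtype_injective] at hcl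
  exact congrArg Subtype.val (h.2 ⟨x, hx⟩ hcl a ha)

theorem subgroupOf_mem {T A : Subgroup G} (h : A ∈ Fam T) :
    A.subgroupOf T ∈ Cfsg.dStarFamily T := by
  have hmap : (A.subgroupOf T).map T.subtype = A := Subgroup.map_subgroupOf_eq_of_le h.1
  refine ⟨?_, ?_⟩
  · rw [ab_iff]
    intro x hx y hy
    apply Subtype.ext
    exact ab_iff.1 h.2.1 x.1 hx y.1 hy
  · intro x hcl a ha
    apply Subtype.ext
    refine h.2.2 x.1 x.2 ?_ a.1 ha
    have e1 : A ⊔ Subgroup.zpowers x.1 =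
        (A.subgroupOf T ⊔ Subgroup.zpowers x).map T.subtype := by
      rw [Subgroup.map_sup, MonoidHom.map_zpowers, hmap]; rfl
    rw [e1, ← Subgroup.map_commutator, ← Subgroup.map_commutator, hcl, Subgroup.map_bot]

theorem le_dStarOf {T A : Subgroup G} (h : A ∈ Fam T) : A ≤ Cfsg.dStarOf T := by
  rw [← Subgroup.map_subgroupOf_eq_of_le h.1]
  exact Subgroup.map_mono (le_sSup (subgroupOf_mem h))

theorem dStarOf_mem [Finite G] {T : Subgroup G} (hT : Group.IsNilpotent T) :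
    Cfsg.dStarOf T ∈ Fam T :=
  map_mem_Fam dStar_mem

theorem le_normalizer_dStarOf [Finite G] (T : Subgroup G) :
    T ≤ Subgroup.normalizer (Cfsg.dStarOf T : Set G) := by
  intro t ht
  apply Subgroup.mem_normalizer_fintype
  rintro _ ⟨x, hx, rfl⟩
  have hn : (Cfsg.dStar T).Normal := inferInstance
  exact ⟨_, hn.conj_mem x hx ⟨t, ht⟩, rfl⟩

section thm

variable [Finite G] {p : ℕ} [Fact p.Prime]

theorem dStarOf_normal
    (hc : Subgroup.centralizer (Cfsg.pCore p G : Set G) ≤ Cfsg.pCore p G)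
    (hst : ∀ (P : Subgroup G) [P.Normal], IsPGroup p P → Cfsg.IsPStableOn p P) (S : Sylow p G) :
    (Cfsg.dStarOf (S : Subgroup G)).Normal := by
  have hSnil : Group.IsNilpotent (S : Subgroup G) := S.2.isNilpotent
  have hD := dStarOf_mem hSnil
  have hSD := le_normalizer_dStarOf (S : Subgroup G)
  have hmax : ∀ E ∈ Fam (S : Subgroup G), E ≤ Cfsg.dStarOf (S : Subgroup G) :=
    fun E hE => le_dStarOf hE
  generalize Cfsg.dStarOf (S : Subgroup G) = D at *
  have hQn : (Cfsg.pCore p G).Normal := Cfsg.pCore_normal p G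
  have hQS : Cfsg.pCore p G ≤ S := PLocal.normal_pgroup_le_sylow S hQn (pCore_isPGroup p)
  have hDc := ab_iff.1 hD.2.1
  -- `D ≤ O_p(G)`
  have hDQ : D ≤ Cfsg.pCore p G :=
    (mem_stabL_of_quadratic (hst _ (pCore_isPGroup p)) hD.2.1 (hQS.trans hSD)).trans
      (stabL_le_pCore hc)
  -- conjugates of `D` commute with `D`
  have hF4 : ∀ a ∈ D, ∀ b ∈ D, ∀ k : G, a * (k * b * k⁻¹) = (k * b * k⁻¹) * a := by
    intro a ha b hb k
    have hyQ : k * b * k⁻¹ ∈ Cfsg.pCore p G := hQn.conj_mem b (hDQ hb) k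
    refine hD.2.2 _ (hQS hyQ) ?_ a ha
    apply class_two_sup hD.2.1 (K := D ⊓ D.map (MulAut.conj k).toMonoidHom)
    · intro e he
      refine Subgroup.mem_inf.2 ⟨?_, ?_⟩
      · have e2 : ⁅e, k * b * k⁻¹⁆ = e * ((k * b * k⁻¹) * e⁻¹ * (k * b * k⁻¹)⁻¹) := by
          rw [commutatorElement_def]; group
        rw [e2]
        exact D.mul_mem he (conj_mem_of_normalizer (hSD (hQS hyQ)) (D.inv_mem he))
      · have h1 : k⁻¹ * e * k ∈ Cfsg.pCore p G := by
          have := hQn.conj_mem e (hDQ he) k⁻¹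
          rwa [inv_inv] at this
        have h2 : (k⁻¹ * e * k) * b * (k⁻¹ * e * k)⁻¹ ∈ D :=
          conj_mem_of_normalizer (hSD (hQS h1)) hb
        refine ⟨(k⁻¹ * e * k) * b * (k⁻¹ * e * k)⁻¹ * b⁻¹, D.mul_mem h2 (D.inv_mem hb), ?_⟩
        simp only [MulEquiv.coe_toMonoidHom, MulAut.conj_apply, commutatorElement_def]
        group
    · intro x hx e he
      exact hDc e he x hx.1
    · intro x hx
      obtain ⟨d, hd, rfl⟩ := hx.2
      simp only [MulEquiv.coe_toMonoidHom, MulAut.conj_apply]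
      calc k * b * k⁻¹ * (k * d * k⁻¹) = k * (b * d) * k⁻¹ := by group
        _ = k * (d * b) * k⁻¹ := by rw [hDc b hb d hd]
        _ = k * d * k⁻¹ * (k * b * k⁻¹) := by group
  -- the normal closure
  have hNc : IsMulCommutative (Subgroup.normalClosure (D : Set G)) := by
    apply Subgroup.isMulCommutative_closure
    intro u hu v hv
    obtain ⟨a, ha, hau⟩ := Group.mem_conjugatesOfSet_iff.1 hu
    obtain ⟨b, hb, hbv⟩ := Group.mem_conjugatesOfSet_iff.1 hv
    obtain ⟨g, rfl⟩ := isConj_iff.1 hau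
    obtain ⟨h, rfl⟩ := isConj_iff.1 hbv
    have := hF4 a ha b hb (g⁻¹ * h)
    calc g * a * g⁻¹ * (h * b * h⁻¹) = g * (a * ((g⁻¹ * h) * b * (g⁻¹ * h)⁻¹)) * g⁻¹ := by group
      _ = g * (((g⁻¹ * h) * b * (g⁻¹ * h)⁻¹) * a) * g⁻¹ := by rw [this]
      _ = h * b * h⁻¹ * (g * a * g⁻¹) := by group
  have hNn : (Subgroup.normalClosure (D : Set G)).Normal := Subgroup.normalClosure_normal
  have hDN : D ≤ Subgroup.normalClosure (D : Set G) := Subgroup.le_normalClosure
  have hNQ : Subgroup.normalClosure (D : Set G) ≤ Cfsg.pCore p G :=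
    Subgroup.normalClosure_le_normal (by exact_mod_cast hDQ)
  have hNgen : ∀ K : Subgroup G, (∀ d ∈ D, ∀ g : G, g * d * g⁻¹ ∈ K) →
      Subgroup.normalClosure (D : Set G) ≤ K := by
    intro K hK
    apply (Subgroup.closure_le K).2
    intro u hu
    obtain ⟨a, ha, hau⟩ := Group.mem_conjugatesOfSet_iff.1 hu
    obtain ⟨g, rfl⟩ := isConj_iff.1 hau
    exact hK a ha g
  generalize Subgroup.normalClosure (D : Set G) = N at *
  have hNp : IsPGroup p N := (pCore_isPGroup p).to_le hNQ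
  have hNc' := ab_iff.1 hNc
  -- the key step
  have hF6 : ∀ x ∈ stabL p N, (∀ n ∈ N, x * ⁅n, x⁆ = ⁅n, x⁆ * x) → ∀ e ∈ D, e * x = x * e := by
    intro x hx hq
    obtain ⟨c, hc', t, ht, rfl⟩ := stabL_decomp S N hx
    have hcN : ∀ n ∈ N, n * c = c * n := Subgroup.mem_centralizer_iff.1 hc'
    have hcomm : ∀ n ∈ N, ⁅n, c * t⁆ = ⁅n, t⁆ := by
      intro n hn
      have h1 : t * n⁻¹ * t⁻¹ ∈ N := hNn.conj_mem _ (N.inv_mem hn) t
      calc ⁅n, c * t⁆ = n * c * (t * n⁻¹ * t⁻¹) * c⁻¹ := by rw [commutatorElement_def]; group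
        _ = c * n * (t * n⁻¹ * t⁻¹) * c⁻¹ := by rw [hcN n hn]
        _ = c * (n * (t * n⁻¹ * t⁻¹)) * c⁻¹ := by group
        _ = (n * (t * n⁻¹ * t⁻¹)) * c * c⁻¹ := by rw [hcN _ (N.mul_mem hn h1)]
        _ = ⁅n, t⁆ := by rw [commutatorElement_def]; group
    have hmemN : ∀ n ∈ N, ⁅n, t⁆ ∈ N := by
      intro n hn
      have e2 : ⁅n, t⁆ = n * (t * n⁻¹ * t⁻¹) := by rw [commutatorElement_def]; group
      rw [e2]
      exact N.mul_mem hn (hNn.conj_mem _ (N.inv_mem hn) t)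
    have hqt : ∀ n ∈ N, t * ⁅n, t⁆ = ⁅n, t⁆ * t := by
      intro n hn
      have h1 := hq n hn
      rw [hcomm n hn] at h1
      have h2 := hcN _ (hmemN n hn)
      have h3 : c * (t * ⁅n, t⁆) = c * (⁅n, t⁆ * t) := by
        calc c * (t * ⁅n, t⁆) = c * t * ⁅n, t⁆ := by group
          _ = ⁅n, t⁆ * (c * t) := h1
          _ = (⁅n, t⁆ * c) * t := by group
          _ = c * (⁅n, t⁆ * t) := by rw [h2]; group
      exact mul_left_cancel h3
    have hcl : ⁅⁅D ⊔ Subgroup.zpowers t, D ⊔ Subgroup.zpowers t⁆, D ⊔ Subgroup.zpowers t⁆ = ⊥ := by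
      apply class_two_sup hD.2.1
        (K := N ⊓ Subgroup.centralizer ({t} : Set G))
      · intro e he
        refine Subgroup.mem_inf.2 ⟨hmemN e (hDN he), ?_⟩
        rw [Subgroup.mem_centralizer_singleton_iff]
        exact (hqt e (hDN he)).symm
      · intro k hk e he
        exact hNc' e (hDN he) k hk.1
      · intro k hk
        exact (Subgroup.mem_centralizer_singleton_iff.1 hk.2).symm
    intro e he
    have h1 := hD.2.2 t ht.1 hcl e he
    calc e * (c * t) = (e * c) * t := by group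
      _ = (c * e) * t := by rw [hcN e (hDN he)]
      _ = c * (e * t) := by group
      _ = c * (t * e) := by rw [h1]
      _ = c * t * e := by group
  have hNF : N ∈ Fam (S : Subgroup G) := by
    refine ⟨hNQ.trans hQS, hNc, ?_⟩
    intro x hx hcl
    have hquad : ⁅⁅N, Subgroup.zpowers x⁆, Subgroup.zpowers x⁆ = ⊥ := by
      rw [eq_bot_iff, ← hcl]
      exact Subgroup.commutator_mono (Subgroup.commutator_mono le_sup_left le_sup_right)
        le_sup_right
    have hxL : x ∈ stabL p N := hst N hNp x hquad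
    have hq : ∀ n ∈ N, x * ⁅n, x⁆ = ⁅n, x⁆ * x := by
      intro n hn
      have h1 : ⁅⁅n, x⁆, x⁆ ∈ ⁅⁅N, Subgroup.zpowers x⁆, Subgroup.zpowers x⁆ :=
        Subgroup.commutator_mem_commutator
          (Subgroup.commutator_mem_commutator hn (Subgroup.mem_zpowers x)) (Subgroup.mem_zpowers x)
      rw [hquad, Subgroup.mem_bot, commutatorElement_eq_one_iff_mul_comm] at h1
      exact h1.symm
    have h2 : N ≤ Subgroup.centralizer ({x} : Set G) := by
      apply hNgen
      intro d hd g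
      rw [Subgroup.mem_centralizer_singleton_iff]
      have hx' : g⁻¹ * x * g ∈ stabL p N := by
        have := (stabL_normal p N).conj_mem x hxL g⁻¹
        rwa [inv_inv] at this
      have h3 := hF6 (g⁻¹ * x * g) hx' (by
        intro n hn
        have h4 := hq (g * n * g⁻¹) (hNn.conj_mem n hn g)
        have e1 : ⁅n, g⁻¹ * x * g⁆ = g⁻¹ * ⁅g * n * g⁻¹, x⁆ * g := by
          simp only [commutatorElement_def]; group
        rw [e1]
        calc g⁻¹ * x * g * (g⁻¹ * ⁅g * n * g⁻¹, x⁆ * g) = g⁻¹ * (x * ⁅g * n * g⁻¹, x⁆) * g := by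
              group
          _ = g⁻¹ * (⁅g * n * g⁻¹, x⁆ * x) * g := by rw [h4]
          _ = g⁻¹ * ⁅g * n * g⁻¹, x⁆ * g * (g⁻¹ * x * g) := by group) d hd
      calc g * d * g⁻¹ * x = g * (d * (g⁻¹ * x * g)) * g⁻¹ := by group
        _ = g * ((g⁻¹ * x * g) * d) * g⁻¹ := by rw [h3]
        _ = x * (g * d * g⁻¹) := by group
    intro a ha
    exact Subgroup.mem_centralizer_singleton_iff.1 (h2 ha)
  have : D = N := le_antisymm hDN (hmax N hNF)
  rw [this]
  exact hNn

end thm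

end Cfsg.Agent.Lib.Helper3.DStar
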