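import Cfsg.Agent.Lib.Helper3.Dih2
import Cfsg.Agent.Lib.Helper3.CN

namespace Cfsg.Agent.Lib.Helper3.Dih

open Cfsg.Agent.Lib.Helper3.UniqP

variable {X : Type*} [Group X]

theorem klein_of_commute {x z : X} (hx : orderOf x = 2) (hz : orderOf z = 2) (hc : x * z = z * x)
    (hne : x ∉ Subgroup.zpowers z) :
    IsKleinFour (Subgroup.zpowers x ⊔ Subgroup.zpowers z : Subgroup X) := by
  haveI : Fact (Nat.Prime 2) := ⟨Nat.prime_two⟩
  obtain ⟨h1, h2, h3⟩ := rank_two_of_commute (p := 2) hx hz hc hne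
  refine ⟨by rw [h3]; norm_num, ?_⟩
  have h5 : Monoid.exponent (Subgroup.zpowers x ⊔ Subgroup.zpowers z : Subgroup X) ∣ 2 := by
    apply Monoid.exponent_dvd_of_forall_pow_eq_one
    intro y
    exact Subtype.ext (h2 y y.2)
  rcases (Nat.dvd_prime Nat.prime_two).1 h5 with h6 | h6
  · exfalso
    rw [Monoid.exp_eq_one_iff] at h6
    haveI : Finite (Subgroup.zpowers x ⊔ Subgroup.zpowers z : Subgroup X) :=
      Nat.finite_of_card_ne_zero (by rw [h3]; norm_num)
    have h7 := Finite.card_le_one_iff_subsingleton.2 h6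
    rw [h3] at h7
    norm_num at h7
  · exact h6

theorem fused_of_three [Finite X] {U : Subgroup X} (hU : IsKleinFour U)
    (h3 : 3 ∣ (Subgroup.centralizer (U : Set X)).relIndex (Subgroup.normalizer (U : Set X))) :
    ∀ a ∈ U, ∀ b ∈ U, a ≠ 1 → b ≠ 1 → IsConj a b := by
  haveI : Fact (Nat.Prime 3) := ⟨Nat.prime_three⟩
  have h4 : 3 ∣ Nat.card U.normalizerMonoidHom.range := by
    rw [← Subgroup.index_ker, Subgroup.normalizerMonoidHom_ker]; exact h3
  obtain ⟨⟨τ, hτ⟩, hg⟩ :=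
    exists_prime_orderOf_dvd_card' (G := U.normalizerMonoidHom.range) 3 h4
  rw [Subgroup.orderOf_mk] at hg
  obtain ⟨g, rfl⟩ := hτ
  have hact : ∀ u : U, ((U.normalizerMonoidHom g) u : X) = g * u * (g : X)⁻¹ := fun u => rfl
  have hcube : ∀ u : U, U.normalizerMonoidHom g (U.normalizerMonoidHom g
      (U.normalizerMonoidHom g u)) = u := by
    intro u
    have h5 := pow_orderOf_eq_one (U.normalizerMonoidHom g)
    rw [hg] at h5
    have h6 := DFunLike.congr_fun h5 u
    simpa [pow_succ, MulAut.mul_apply] using h6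
  obtain ⟨u, hu⟩ : ∃ u : U, U.normalizerMonoidHom g u ≠ u := by
    by_contra hc
    push Not at hc
    have h5 : U.normalizerMonoidHom g = 1 := by
      ext u
      rw [hc u]; rfl
    rw [h5, orderOf_one] at hg
    norm_num at hg
  generalize hσ : U.normalizerMonoidHom g = σ at *
  have hu1 : u ≠ 1 := by
    rintro rfl
    exact hu (map_one σ)
  have hu'1 : σ u ≠ 1 := fun h => hu1 (σ.injective (h.trans (map_one σ).symm))
  have hu''1 : σ (σ u) ≠ 1 := fun h => hu'1 (σ.injective (h.trans (map_one σ).symm))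
  have hu''u' : σ (σ u) ≠ σ u := fun h => hu (σ.injective h)
  have hu''u : σ (σ u) ≠ u := by
    intro h
    apply hu
    have := hcube u
    rw [h] at this
    exact this
  have h7 : σ (σ u) = u * σ u :=
    IsKleinFour.eq_mul_of_ne_all hu1 hu'1 (fun h => hu h.symm) hu''1 hu''u hu''u'
  have c1 : IsConj (u : X) (σ u : X) := isConj_iff.2 ⟨g, (hact u).symm⟩
  have c2 : IsConj (σ u : X) (σ (σ u) : X) := isConj_iff.2 ⟨g, (hact (σ u)).symm⟩
  have key : ∀ a ∈ U, a ≠ 1 → IsConj (u : X) a := by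
    intro a ha ha1
    by_cases h8 : (⟨a, ha⟩ : U) = u
    · rw [← h8]
    by_cases h9 : (⟨a, ha⟩ : U) = σ u
    · have : a = (σ u : X) := congrArg Subtype.val h9
      rw [this]; exact c1
    have h10 : (⟨a, ha⟩ : U) = u * σ u :=
      IsKleinFour.eq_mul_of_ne_all hu1 hu'1 (fun h => hu h.symm)
        (fun h => ha1 (congrArg Subtype.val h)) h8 h9
    rw [← h7] at h10
    have : a = (σ (σ u) : X) := congrArg Subtype.val h10
    rw [this]; exact c1.trans c2
  intro a ha b hb ha1 hb1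
  exact (key a ha ha1).symm.trans (key b hb hb1)

section coords3

variable [Finite X] (S : Sylow 2 X) {n : ℕ} [NeZero n]
  (e : (S : Subgroup X) ≃* DihedralGroup (2 * n))

theorem conj_to_S {a : X} (ha : orderOf a = 2) : ∃ t ∈ S, orderOf t = 2 ∧ IsConj a t := by
  haveI : Fact (Nat.Prime 2) := ⟨Nat.prime_two⟩
  obtain ⟨h, hh⟩ := Cfsg.Agent.Lib.Helper3.Invol.exists_conj_mem_sylow S
    (Cfsg.Agent.Lib.Helper3.CN.isPGroup_zpowers ha)
  exact ⟨h * a * h⁻¹, hh a (Subgroup.mem_zpowers a), by rw [conj_order, ha], isConj_iff.2 ⟨h, rfl⟩⟩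

theorem all_conj_of (h : ∀ i, IsConj (R e (n : ZMod (2 * n))) (T e i)) (a b : X)
    (ha : orderOf a = 2) (hb : orderOf b = 2) : IsConj a b := by
  have key : ∀ a : X, orderOf a = 2 → IsConj a (R e (n : ZMod (2 * n))) := by
    intro a ha
    obtain ⟨t, ht, hto, hat⟩ := conj_to_S S ha
    rcases invol_cases e ht hto with rfl | ⟨i, rfl⟩
    · exact hat
    · exact hat.trans (h i).symm
  exact (key a ha).trans (key b hb).symm

include S e in
theorem no_index_two (h : ∀ a b : X, orderOf a = 2 → orderOf b = 2 → IsConj a b)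
    (H : Subgroup X) : H.index ≠ 2 := by
  intro hHi
  haveI : Fact (Nat.Prime 2) := ⟨Nat.prime_two⟩
  haveI hHn := Subgroup.normal_of_index_eq_two hHi
  have hcard : Nat.card (S : Subgroup X) = 2 * (2 * n) := by
    rw [Nat.card_congr e.toEquiv, DihedralGroup.nat_card]
  have h1 : 2 * (2 * n) ∣ Nat.card X := hcard ▸ Subgroup.card_subgroup_dvd_card _
  have h2 := H.card_mul_index
  rw [hHi] at h2
  have h3 : 2 ∣ Nat.card H := by
    obtain ⟨c, hc⟩ := h1
    exact ⟨n * c, by nlinarith⟩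
  obtain ⟨⟨t, htH⟩, ht⟩ := exists_prime_orderOf_dvd_card' (G := H) 2 h3
  rw [Subgroup.orderOf_mk] at ht
  have hall : ∀ a : X, orderOf a = 2 → a ∈ H := by
    intro a ha
    obtain ⟨c, rfl⟩ := isConj_iff.1 (h t a ht ha)
    exact hHn.conj_mem t htH c
  have hSH : (S : Subgroup X) ≤ H := by
    intro x hx
    rcases cases_mem e hx with ⟨i, rfl⟩ | ⟨i, rfl⟩
    · have h4 := mul_mem (hall _ (orderOf_T e 0)) (hall _ (orderOf_T e i))
      rw [T_mul_T, sub_zero] at h4
      exact h4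
    · exact hall _ (orderOf_T e i)
  have h5 := Subgroup.index_dvd_of_le hSH
  rw [hHi] at h5
  exact S.not_dvd_index h5

theorem T_comm_z (i : ZMod (2 * n)) :
    T e i * R e (n : ZMod (2 * n)) = R e (n : ZMod (2 * n)) * T e i := by
  rw [T_mul_R, R_mul_T]
  congr 1
  linear_combination n_add_n (n := n)

theorem T_not_mem (i : ZMod (2 * n)) : T e i ∉ Subgroup.zpowers (R e (n : ZMod (2 * n))) := by
  intro h
  have h3 : (⟨T e i, h⟩ : Subgroup.zpowers (R e (n : ZMod (2 * n)))) =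
      ⟨R e (n : ZMod (2 * n)), Subgroup.mem_zpowers _⟩ :=
    Cfsg.Agent.Lib.Helper3.Invol.cyclic_unique_invol
      (by rw [Subgroup.orderOf_mk]; exact orderOf_T e i)
      (by rw [Subgroup.orderOf_mk]; exact orderOf_z e)
  exact R_ne_T e _ _ (congrArg Subtype.val h3).symm

include S e in
theorem no_isolated (h : ∀ a b : X, orderOf a = 2 → orderOf b = 2 → IsConj a b) (w : X) :
    ¬ Cfsg.IsIsolatedInvolution w := by
  rintro ⟨hw, hiso⟩
  obtain ⟨c, hc⟩ := isConj_iff.1 (h _ w (orderOf_z e) hw)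
  have ho : orderOf (c * T e 0 * c⁻¹) = 2 := by rw [conj_order, orderOf_T]
  obtain ⟨g, hg⟩ := isConj_iff.1 (h w _ hw ho)
  have h1 := hiso g (by
    rw [hg, ← hc]
    have : (c * R e (n : ZMod (2 * n)) * c⁻¹) * (c * T e 0 * c⁻¹) =
        (c * T e 0 * c⁻¹) * (c * R e (n : ZMod (2 * n)) * c⁻¹) := by
      have e1 : (c * R e (n : ZMod (2 * n)) * c⁻¹) * (c * T e 0 * c⁻¹) =
          c * (R e (n : ZMod (2 * n)) * T e 0) * c⁻¹ := by group
      have e2 : (c * T e 0 * c⁻¹) * (c * R e (n : ZMod (2 * n)) * c⁻¹) =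
          c * (T e 0 * R e (n : ZMod (2 * n))) * c⁻¹ := by group
      rw [e1, e2, T_comm_z]
    exact this)
  rw [hg, ← hc] at h1
  exact R_ne_T e _ _ (mul_left_cancel (mul_right_cancel h1)).symm

end coords3

end Cfsg.Agent.Lib.Helper3.Dih
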