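import Mathlib
import Cfsg.Prelude.Def_PLocal
import Cfsg.Agent.Lib.Helper3.CopGen
import Cfsg.Agent.Lib.Helper3.EA
import Cfsg.Agent.Lib.Helper1.Cores

set_option autoImplicit false
open scoped commutatorElement

/-! Quadratic action / offenders in `p`-separable groups. -/

namespace Cfsg.Agent.Lib.Helper3.KS93

open Cfsg.Agent.Lib.Helper3.CopGen Cfsg.Agent.Lib.Helper3.PLocal

variable {G : Type*} [Group G]

/-- `O_{p'}(H)` as a subgroup of `G` -/
abbrev KK (p : ℕ) (H : Subgroup G) : Subgroup G := (Cfsg.pPrimeCore p ↥H).map H.subtype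

/-- `C_V(A)` -/
abbrev CVV (V A : Subgroup G) : Subgroup G := V ⊓ Subgroup.centralizer (A : Set G)

structure Setup (p : ℕ) (V H : Subgroup G) : Prop where
  hV : Cfsg.IsElementaryAbelian p V
  hHV : H ≤ Subgroup.normalizer (V : Set G)
  hf : H ⊓ Subgroup.centralizer (V : Set G) = ⊥
  hS1 : Subgroup.centralizer (Cfsg.pPrimeCore p ↥H : Set ↥H) ≤ Cfsg.pPrimeCore p ↥H

theorem KK_le (p : ℕ) (H : Subgroup G) : KK p H ≤ H := Subgroup.map_subtype_le _

theorem KK_norm (p : ℕ) (H : Subgroup G) : H ≤ Subgroup.normalizer (KK p H : Set G) := by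
  intro h hh
  rw [Subgroup.mem_normalizer_iff]
  intro x
  have hn := Cfsg.Agent.Lib.Helper1.pPrimeCore_normal (G := ↥H) p
  constructor
  · rintro ⟨y, hy, rfl⟩
    exact ⟨⟨h, hh⟩ * y * ⟨h, hh⟩⁻¹, hn.conj_mem y hy _, rfl⟩
  · rintro ⟨y, hy, hyx⟩
    refine ⟨⟨h, hh⟩⁻¹ * y * ⟨h, hh⟩, ?_, ?_⟩
    · have := hn.conj_mem y hy ⟨h, hh⟩⁻¹
      simpa using this
    · have h1 : (y : G) = h * x * h⁻¹ := hyx
      simp [h1, mul_assoc]

theorem KK_coprime [Finite G] (p : ℕ) (H : Subgroup G) : (Nat.card (KK p H)).Coprime p := by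
  rw [Subgroup.card_map_of_injective H.subtype_injective]
  exact Cfsg.Agent.Lib.Helper1.pPrimeCore_coprime p

variable {p : ℕ} {V H : Subgroup G}

theorem Setup.cent_KK (S : Setup p V H) : H ⊓ Subgroup.centralizer (KK p H : Set G) ≤ KK p H := by
  rintro x ⟨hxH, hxC⟩
  refine ⟨⟨x, hxH⟩, S.hS1 ?_, rfl⟩
  rw [Subgroup.mem_centralizer_iff]
  intro y hy
  apply Subtype.ext
  exact Subgroup.mem_centralizer_iff.mp hxC y ⟨y, hy, rfl⟩

theorem Setup.eq_one (S : Setup p V H) {x : G} (hx : x ∈ H)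
    (hc : x ∈ Subgroup.centralizer (V : Set G)) : x = 1 := by
  have : x ∈ H ⊓ Subgroup.centralizer (V : Set G) := ⟨hx, hc⟩
  rwa [S.hf, Subgroup.mem_bot] at this

/-- key step: a hyperplane-like subgroup whose fixed points are strictly larger -/
theorem Setup.step [Finite G] [Fact p.Prime] (S : Setup p V H) {A : Subgroup G} (hAH : A ≤ H)
    (hA : Cfsg.IsElementaryAbelian p A) (hA1 : A ≠ ⊥) :
    ∃ B, CoCyc A B ∧ CVV V A < CVV V B := by
  have hpp : Nat.Prime p := Fact.out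
  have hAp : IsPGroup p A := ea_isPGroup hA
  have hAK : A ≤ Subgroup.normalizer (KK p H : Set G) := hAH.trans (KK_norm p H)
  have hcop : (Nat.card A).Coprime (Nat.card (KK p H)) := by
    obtain ⟨n, hn⟩ := IsPGroup.iff_card.mp hAp
    rw [hn]
    exact Nat.Coprime.pow_left n (KK_coprime p H).symm
  by_contra hcon
  push Not at hcon
  apply hA1
  -- `A` centralizes `K`
  have hAC : A ≤ Subgroup.centralizer (KK p H : Set G) := by
    rw [Subgroup.le_centralizer_iff, ← gen A (KK p H) hA.1 hAK hcop]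
    apply iSup₂_le
    intro B hB x hx
    rw [Subgroup.mem_centralizer_iff]
    intro a ha
    have hle : CVV V A ≤ CVV V B := inf_le_inf_left V (Subgroup.centralizer_le hB.1)
    have heq : CVV V B ≤ CVV V A := by
      by_contra hne
      exact hcon B hB (lt_of_le_not_ge hle hne)
    have hxH : x ∈ H := KK_le p H hx.1
    have haH : a ∈ H := hAH ha
    -- `y = ⁅x, a⁆`
    have hX : A ≤ Subgroup.normalizer
        ((KK p H ⊓ Subgroup.centralizer (B : Set G) : Subgroup G) : Set G) :=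
      Cfsg.Agent.Lib.Helper1.le_normalizer_inf hAK (norm_centralizer hA.1 hB.1)
    have hy : ⁅x, a⁆ ∈ KK p H ⊓ Subgroup.centralizer (B : Set G) :=
      Cfsg.Agent.Lib.Helper1.commutator_le_of_le_normalizer hX
        (Subgroup.commutator_mem_commutator hx ha)
    have hyH : ⁅x, a⁆ ∈ H := KK_le p H hy.1
    have hWx : ∀ z ∈ H, z ∈ Subgroup.centralizer (B : Set G) → ∀ w ∈ CVV V B,
        z * w * z⁻¹ ∈ CVV V B := by
      intro z hzH hzB w hw
      refine ⟨(Subgroup.mem_normalizer_iff.mp (S.hHV hzH) w).mp hw.1, ?_⟩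
      exact Subgroup.mul_mem _ (Subgroup.mul_mem _ hzB hw.2) (Subgroup.inv_mem _ hzB)
    have hWa : ∀ w ∈ CVV V B, ∀ c ∈ A, c * w = w * c := by
      intro w hw c hc
      exact Subgroup.mem_centralizer_iff.mp (heq hw).2 c hc
    have hyW : ⁅x, a⁆ ∈ Subgroup.centralizer ((V ⊓ Subgroup.centralizer (B : Set G) : Subgroup G) : Set G) := by
      rw [Subgroup.mem_centralizer_iff]
      intro w hw
      have h1 : x⁻¹ * w * x⁻¹⁻¹ ∈ CVV V B :=
        hWx x⁻¹ (H.inv_mem hxH) (Subgroup.inv_mem _ hx.2) w hw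
      have h2 := hWa _ h1 a ha
      have h3 := hWa w hw a⁻¹ (A.inv_mem ha)
      rw [commutatorElement_def]
      have e1 : x * a * x⁻¹ * a⁻¹ * w = x * a * x⁻¹ * (a⁻¹ * w) := by group
      have e2 : x * a * x⁻¹ * (w * a⁻¹) = x * (a * (x⁻¹ * w * x⁻¹⁻¹)) * x⁻¹ * a⁻¹ := by group
      have e3 : x * ((x⁻¹ * w * x⁻¹⁻¹) * a) * x⁻¹ * a⁻¹ = w * (x * a * x⁻¹ * a⁻¹) := by group
      rw [← e3, ← h2, ← e2, ← h3, ← e1]
    have hyo : (orderOf ⁅x, a⁆).Coprime p :=
      Nat.Coprime.coprime_dvd_left (Subgroup.orderOf_dvd_natCard _ hy.1) (KK_coprime p H)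
    have hyV := Cfsg.Agent.Lib.Helper6.PAct.thompson_AxB (p := p) (R := V) (B := B) (x := ⁅x, a⁆)
      (ea_isPGroup S.hV) (hAp.to_le hB.1) ((hB.1.trans hAH).trans S.hHV) (S.hHV hyH) hy.2 hyo hyW
    have h1 := S.eq_one hyH hyV
    exact (commutatorElement_eq_one_iff_mul_comm.mp h1).symm
  have h2 : A ≤ A ⊓ KK p H := le_inf le_rfl (fun a ha => S.cent_KK ⟨hAH ha, hAC ha⟩)
  rw [Subgroup.inf_eq_bot_of_coprime hcop] at h2
  exact eq_bot_iff.mpr h2

theorem card_mul_le_of_lt [Finite G] [Fact p.Prime] {X Y : Subgroup G} (hY : IsPGroup p Y)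
    (h : X < Y) : p * Nat.card X ≤ Nat.card Y := by
  have hpp : Nat.Prime p := Fact.out
  have h3 := Subgroup.relIndex_mul_relIndex ⊥ X Y bot_le h.le
  rw [Subgroup.relIndex_bot_left, Subgroup.relIndex_bot_left] at h3
  rw [← h3, mul_comm]
  apply Nat.mul_le_mul_left
  obtain ⟨n, hn⟩ := IsPGroup.iff_card.mp hY
  have h4 : X.relIndex Y ∣ p ^ n := by rw [← hn, ← h3]; exact Dvd.intro_left _ rfl
  obtain ⟨k, -, hk⟩ := (Nat.dvd_prime_pow hpp).mp h4
  rcases Nat.eq_zero_or_pos k with rfl | hk0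
  · exfalso
    rw [pow_zero] at hk
    exact h.not_ge (Subgroup.relIndex_eq_one.mp hk)
  · rw [hk]
    calc p = p ^ 1 := (pow_one p).symm
      _ ≤ p ^ k := Nat.pow_le_pow_right hpp.pos hk0

/-- no over-offenders -/
theorem Setup.ineq [Finite G] [Fact p.Prime] (S : Setup p V H) :
    ∀ (n : ℕ) (A : Subgroup G), Nat.card A ≤ n → A ≤ H → Cfsg.IsElementaryAbelian p A →
      Nat.card A * Nat.card (CVV V A) ≤ Nat.card V := by
  intro n
  induction n with
  | zero =>
    intro A hn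
    exact absurd hn (by have := Nat.card_pos (α := A); omega)
  | succ n ih =>
    intro A hn hAH hA
    by_cases hA1 : A = ⊥
    · subst hA1
      rw [Subgroup.card_bot, one_mul]
      exact Subgroup.card_le_of_le inf_le_left
    obtain ⟨B, hB, hlt⟩ := S.step hAH hA hA1
    have hBA : B < A := by
      apply lt_of_le_of_ne hB.1
      rintro rfl
      exact lt_irrefl _ hlt
    have h1 := ih B (by
      have := card_mul_le_of_lt (ea_isPGroup hA) hBA
      have h2 : 2 ≤ p := (Fact.out : Nat.Prime p).two_le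
      have h3 := Nat.card_pos (α := B)
      nlinarith) (hB.1.trans hAH) (ea_mono hA hB.1)
    have h2 := hB.card_le hA (Nat.Prime.pos Fact.out)
    have h3 := card_mul_le_of_lt ((ea_isPGroup S.hV).to_le inf_le_left) hlt
    calc Nat.card A * Nat.card (CVV V A) ≤ (Nat.card B * p) * Nat.card (CVV V A) :=
          Nat.mul_le_mul_right _ h2
      _ = Nat.card B * (p * Nat.card (CVV V A)) := by ring
      _ ≤ Nat.card B * Nat.card (CVV V B) := Nat.mul_le_mul_left _ h3
      _ ≤ Nat.card V := h1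

theorem Setup.ea_of_best (S : Setup p V H) {A : Subgroup G} (hAH : A ≤ H)
    (hA : Cfsg.IsBestOffenderOn p V A) : Cfsg.IsElementaryAbelian p A := by
  refine ⟨⟨⟨fun a b => ?_⟩⟩, fun a ha => S.eq_one (H.pow_mem (hAH ha) p) (hA.2.2 a ha)⟩
  apply Subtype.ext
  have h1 : ⁅(a : G), (b : G)⁆ = 1 :=
    S.eq_one (Subgroup.commutator_le_self H (Subgroup.commutator_mem_commutator (hAH a.2) (hAH b.2)))
      (hA.2.1 (Subgroup.commutator_mem_commutator a.2 b.2))
  exact commutatorElement_eq_one_iff_mul_comm.mp h1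

/-- best offenders are exact offenders -/
theorem Setup.card_best [Finite G] [Fact p.Prime] (S : Setup p V H) {A : Subgroup G} (hAH : A ≤ H)
    (hA : Cfsg.IsBestOffenderOn p V A) : Nat.card A * Nat.card (CVV V A) = Nat.card V := by
  apply le_antisymm (S.ineq _ A le_rfl hAH (S.ea_of_best hAH hA))
  have h1 := hA.1 ⊥ bot_le
  rw [Subgroup.card_bot, one_mul] at h1
  refine le_trans (le_of_eq ?_) h1
  congr 2
  ext x
  simp only [Subgroup.mem_inf, Subgroup.coe_bot, iff_self_and]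
  intro _
  rw [Subgroup.mem_centralizer_singleton_iff]
  simp

theorem Setup.best_of_card [Finite G] [Fact p.Prime] (S : Setup p V H) {A : Subgroup G}
    (hAH : A ≤ H) (hA : Cfsg.IsElementaryAbelian p A)
    (hc : Nat.card A * Nat.card (CVV V A) = Nat.card V) : Cfsg.IsBestOffenderOn p V A := by
  refine ⟨fun B hB => ?_, ?_, ?_⟩
  · rw [hc]
    exact S.ineq _ B le_rfl (hB.trans hAH) (ea_mono hA hB)
  · rw [Subgroup.commutator_le]
    intro a ha b hb
    have : ⁅a, b⁆ = 1 := commutatorElement_eq_one_iff_mul_comm.mpr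
      (congrArg (Subtype.val : A → G) (hA.1.is_comm.comm ⟨a, ha⟩ ⟨b, hb⟩))
    rw [this]; exact Subgroup.one_mem _
  · intro a ha
    rw [hA.2 a ha]; exact Subgroup.one_mem _

/-- minimal nontrivial best offenders have order `p` -/
theorem Setup.card_min [Finite G] [Fact p.Prime] (S : Setup p V H) {A : Subgroup G} (hAH : A ≤ H)
    (hA : Cfsg.IsBestOffenderOn p V A) (hAV : ⁅V, A⁆ ≠ ⊥)
    (hmin : ∀ B : Subgroup G, B ≤ A → Cfsg.IsBestOffenderOn p V B → ⁅V, B⁆ ≠ ⊥ → B = A) :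
    Nat.card A = p := by
  have hpp : Nat.Prime p := Fact.out
  have hAe := S.ea_of_best hAH hA
  have hA1 : A ≠ ⊥ := by
    rintro rfl
    exact hAV (Subgroup.commutator_bot_right V)
  obtain ⟨B, hB, hlt⟩ := S.step hAH hAe hA1
  have h0 := S.card_best hAH hA
  have h1 := S.ineq _ B le_rfl (hB.1.trans hAH) (ea_mono hAe hB.1)
  have h2 := hB.card_le hAe hpp.pos
  have h3 := card_mul_le_of_lt ((ea_isPGroup S.hV).to_le inf_le_left) hlt
  have h4 : Nat.card V ≤ Nat.card B * Nat.card (CVV V B) := by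
    calc Nat.card V = Nat.card A * Nat.card (CVV V A) := h0.symm
      _ ≤ (Nat.card B * p) * Nat.card (CVV V A) := Nat.mul_le_mul_right _ h2
      _ = Nat.card B * (p * Nat.card (CVV V A)) := by ring
      _ ≤ Nat.card B * Nat.card (CVV V B) := Nat.mul_le_mul_left _ h3
  have hBb := S.best_of_card (hB.1.trans hAH) (ea_mono hAe hB.1) (le_antisymm h1 h4)
  have hBV : ⁅V, B⁆ = ⊥ := by
    by_contra hne
    have := hmin B hB.1 hBb hne
    rw [this] at hlt
    exact lt_irrefl _ hlt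
  have hB1 : B = ⊥ := by
    rw [eq_bot_iff]
    intro b hb
    rw [Subgroup.mem_bot]
    apply S.eq_one (hAH (hB.1 hb))
    rw [Subgroup.mem_centralizer_iff]
    intro v hv
    have h5 : ⁅v, b⁆ ∈ ⁅V, B⁆ := Subgroup.commutator_mem_commutator hv hb
    rw [hBV, Subgroup.mem_bot] at h5
    exact commutatorElement_eq_one_iff_mul_comm.mp h5
  rw [hB1, Subgroup.card_bot, one_mul] at h2
  obtain ⟨n, hn⟩ := IsPGroup.iff_card.mp (ea_isPGroup hAe)
  rcases Nat.eq_zero_or_pos n with rfl | hn0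
  · exfalso
    rw [pow_zero] at hn
    exact hA1 (Subgroup.card_eq_one.mp hn)
  · apply le_antisymm h2
    rw [hn]
    calc p = p ^ 1 := (pow_one p).symm
      _ ≤ p ^ n := Nat.pow_le_pow_right hpp.pos hn0

theorem comm_zpowers_eq [Finite G] {W : Subgroup G} (hVc : ∀ x ∈ W, ∀ y ∈ W, x * y = y * x) {a : G}
    (ha : a ∈ Subgroup.normalizer (W : Set G)) :
    ⁅W, Subgroup.zpowers a⁆ = (commHom hVc ha).range.map W.subtype := by
  apply le_antisymm
  · rw [Subgroup.commutator_le]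
    intro v hv x hx
    rw [← mem_powers_iff_mem_zpowers] at hx
    obtain ⟨n, rfl⟩ := hx
    induction n with
    | zero => simp
    | succ n ih =>
      obtain ⟨w, ⟨u, hu⟩, hw⟩ := ih
      have h1 : ⁅v, a ^ (n + 1)⁆ = ⁅v, a⁆ * ⁅a * u.1 * a⁻¹, a⁆ := by
        have h2 : ⁅u.1, a⁆ = ⁅v, a ^ n⁆ := by
          rw [← hw, ← hu]; rfl
        have h3 : ⁅a * u.1 * a⁻¹, a⁆ = a * ⁅u.1, a⁆ * a⁻¹ := by
          simp only [commutatorElement_def]; group
        rw [h3, h2, pow_succ']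
        simp only [commutatorElement_def]; group
      rw [h1]
      refine ⟨commHom hVc ha ⟨v, hv⟩ * commHom hVc ha
        ⟨a * u.1 * a⁻¹, (Subgroup.mem_normalizer_iff.mp ha _).mp u.2⟩, ?_, rfl⟩
      exact Subgroup.mul_mem _ ⟨_, rfl⟩ ⟨_, rfl⟩
  · rintro _ ⟨_, ⟨v, rfl⟩, rfl⟩
    exact Subgroup.commutator_mem_commutator v.2 (Subgroup.mem_zpowers a)

theorem card_comm_zpowers [Finite G] {W : Subgroup G} (hVc : ∀ x ∈ W, ∀ y ∈ W, x * y = y * x)
    {a : G} (ha : a ∈ Subgroup.normalizer (W : Set G)) :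
    Nat.card (CVV W (Subgroup.zpowers a)) * Nat.card ↥⁅W, Subgroup.zpowers a⁆ = Nat.card W := by
  rw [comm_zpowers_eq hVc ha, Subgroup.card_map_of_injective W.subtype_injective,
    ← card_ker_mul_card_range (commHom hVc ha)]
  congr 1
  have h1 : CVV W (Subgroup.zpowers a) = (commHom hVc ha).ker.map W.subtype := by
    ext x
    constructor
    · rintro ⟨hxW, hxC⟩
      refine ⟨⟨x, hxW⟩, ?_, rfl⟩
      change commHom hVc ha ⟨x, hxW⟩ = 1
      apply Subtype.ext
      exact commutatorElement_eq_one_iff_mul_comm.mpr (mem_centralizer_zpowers_iff.mp hxC)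
    · rintro ⟨v, hv, rfl⟩
      refine ⟨v.2, mem_centralizer_zpowers_iff.mpr ?_⟩
      have h2 : ⁅v.1, a⁆ = 1 := congrArg Subtype.val (MonoidHom.mem_ker.mp hv)
      exact commutatorElement_eq_one_iff_mul_comm.mp h2
  rw [h1, Subgroup.card_map_of_injective W.subtype_injective]

theorem eq_zpowers_of_card_prime [Fact p.Prime] {A : Subgroup G} (hA : Nat.card A = p) {a : G}
    (ha : a ∈ A) (ha1 : a ≠ 1) : A = Subgroup.zpowers a := by
  have h1 : Subgroup.zpowers (⟨a, ha⟩ : A) = ⊤ :=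
    zpowers_eq_top_of_prime_card hA (fun h => ha1 (congrArg Subtype.val h))
  apply le_antisymm
  · intro x hx
    have h2 : (⟨x, hx⟩ : A) ∈ Subgroup.zpowers (⟨a, ha⟩ : A) := by rw [h1]; trivial
    obtain ⟨k, hk⟩ := Subgroup.mem_zpowers_iff.mp h2
    exact Subgroup.mem_zpowers_iff.mpr ⟨k, by simpa using congrArg Subtype.val hk⟩
  · exact Subgroup.zpowers_le.mpr ha

/-- the three cardinalities of a minimal nontrivial best offender -/
theorem Setup.min_cards [Finite G] [Fact p.Prime] (S : Setup p V H) {A : Subgroup G} (hAH : A ≤ H)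
    (hA : Cfsg.IsBestOffenderOn p V A) (hAV : ⁅V, A⁆ ≠ ⊥)
    (hmin : ∀ B : Subgroup G, B ≤ A → Cfsg.IsBestOffenderOn p V B → ⁅V, B⁆ ≠ ⊥ → B = A) :
    Nat.card A = p ∧ Nat.card ↥⁅V, A⁆ = p ∧ (CVV V A).relIndex V = p := by
  have hc := S.card_min hAH hA hAV hmin
  have h0 := S.card_best hAH hA
  rw [hc] at h0
  have hpos : 0 < Nat.card (CVV V A) := Nat.card_pos
  refine ⟨hc, ?_, ?_⟩
  · have hA1 : A ≠ ⊥ := by
      rintro rfl
      exact hAV (Subgroup.commutator_bot_right V)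
    obtain ⟨⟨a, ha⟩, ha1'⟩ := Subgroup.ne_bot_iff_exists_ne_one.mp hA1
    have ha1 : a ≠ 1 := fun h' => ha1' (Subtype.ext h')
    have hz := eq_zpowers_of_card_prime hc ha ha1
    have h1 := card_comm_zpowers (fun x hx y hy => ea_comm S.hV hx hy) (S.hHV (hAH ha))
    rw [← hz, ← h0, mul_comm] at h1
    exact Nat.eq_of_mul_eq_mul_right hpos h1
  · have h3 := Subgroup.relIndex_mul_relIndex ⊥ (CVV V A) V bot_le inf_le_left
    rw [Subgroup.relIndex_bot_left, Subgroup.relIndex_bot_left, ← h0, mul_comm] at h3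
    exact Nat.eq_of_mul_eq_mul_right hpos h3

end Cfsg.Agent.Lib.Helper3.KS93
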