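import Mathlib

namespace Cfsg.Agent.Lib.Helper3.NilCop

/-- in a nilpotent group, elements of finite coprime orders commute -/
theorem commute_of_coprime (G : Type*) [Group G] [Group.IsNilpotent G] :
    ∀ a k : G, IsOfFinOrder a → IsOfFinOrder k → (orderOf a).Coprime (orderOf k) →
      a * k = k * a := by
  refine Group.nilpotent_center_quotient_ind
    (P := fun G _ _ => ∀ a k : G, IsOfFinOrder a → IsOfFinOrder k →
      (orderOf a).Coprime (orderOf k) → a * k = k * a) G ?_ ?_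
  · intro G _ _ a k _ _ _; exact Subsingleton.elim _ _
  · intro G _ _ ih a k ha hk hc
    have h1 := ih (QuotientGroup.mk a) (QuotientGroup.mk k)
      ((QuotientGroup.mk' (Subgroup.center G)).isOfFinOrder ha)
      ((QuotientGroup.mk' (Subgroup.center G)).isOfFinOrder hk)
      (Nat.Coprime.of_dvd (orderOf_map_dvd (QuotientGroup.mk' (Subgroup.center G)) a)
        (orderOf_map_dvd (QuotientGroup.mk' (Subgroup.center G)) k) hc)
    have hz : a * k * a⁻¹ * k⁻¹ ∈ Subgroup.center G := by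
      rw [← QuotientGroup.eq_one_iff]
      rw [QuotientGroup.mk_mul, QuotientGroup.mk_mul, QuotientGroup.mk_mul, QuotientGroup.mk_inv,
        QuotientGroup.mk_inv, h1]
      group
    have hzc : ∀ y : G, (a * k * a⁻¹ * k⁻¹) * y = y * (a * k * a⁻¹ * k⁻¹) := fun y =>
      (Subgroup.mem_center_iff.1 hz y).symm
    have e1 : a * k * a⁻¹ = (a * k * a⁻¹ * k⁻¹) * k := by group
    have e2 : k * a⁻¹ * k⁻¹ = a⁻¹ * (a * k * a⁻¹ * k⁻¹) := by group
    have h2 : (a * k * a⁻¹ * k⁻¹) ^ orderOf k = 1 := by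
      have h3 : (a * k * a⁻¹) ^ orderOf k = 1 := by
        rw [conj_pow, pow_orderOf_eq_one]; group
      rw [e1, (show Commute (a * k * a⁻¹ * k⁻¹) k from hzc k).mul_pow, pow_orderOf_eq_one,
        mul_one] at h3
      exact h3
    have h3 : (a * k * a⁻¹ * k⁻¹) ^ orderOf a = 1 := by
      have h4 : (k * a⁻¹ * k⁻¹) ^ orderOf a = 1 := by
        rw [conj_pow, inv_pow, pow_orderOf_eq_one]; group
      rw [e2, (show Commute a⁻¹ (a * k * a⁻¹ * k⁻¹) from (hzc a⁻¹).symm).mul_pow, inv_pow,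
        pow_orderOf_eq_one, inv_one, one_mul] at h4
      exact h4
    have h5 : orderOf (a * k * a⁻¹ * k⁻¹) ∣ 1 := by
      rw [← Nat.Coprime.gcd_eq_one hc]
      exact Nat.dvd_gcd (orderOf_dvd_of_pow_eq_one h3) (orderOf_dvd_of_pow_eq_one h2)
    have h6 : a * k * a⁻¹ * k⁻¹ = 1 := orderOf_eq_one_iff.1 (Nat.dvd_one.1 h5)
    calc a * k = (a * k * a⁻¹ * k⁻¹) * (k * a) := by group
      _ = k * a := by rw [h6, one_mul]

theorem crt_zpowers {A B : Type*} [Group A] [Group B] {g : A} {h : B} {M m : ℕ}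
    (hg : g ^ M = 1) (hh : h ^ m = 1) (hc : Nat.Coprime M m) (s t : ℤ) :
    (g ^ s, h ^ t) ∈ Subgroup.zpowers ((g, h) : A × B) := by
  obtain ⟨α, β, hαβ⟩ := Nat.isCoprime_iff_coprime.2 hc
  rw [Subgroup.mem_zpowers_iff]
  refine ⟨s * (β * m) + t * (α * M), ?_⟩
  have e1 : s * (β * m) + t * (α * M) = s + (M : ℤ) * ((t - s) * α) := by
    linear_combination s * hαβ
  have e2 : s * (β * m) + t * (α * M) = t + (m : ℤ) * ((s - t) * β) := by
    linear_combination t * hαβ
  apply Prod.ext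
  · change g ^ (s * (β * m) + t * (α * M)) = g ^ s
    rw [e1, zpow_add, zpow_mul, zpow_natCast, hg, one_zpow, mul_one]
  · change h ^ (s * (β * m) + t * (α * M)) = h ^ t
    rw [e2, zpow_add, zpow_mul, zpow_natCast, hh, one_zpow, mul_one]

end Cfsg.Agent.Lib.Helper3.NilCop
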