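import Cfsg.Agent.Lib.Helper3.Bar5
import Cfsg.Agent.Lib.Helper9.PSolv

set_option autoImplicit false
open scoped commutatorElement

namespace Cfsg.Agent.Lib.Helper3.PLocal

open Cfsg.Agent.Lib.Helper1 Cfsg.Agent.Lib.Helper9.PSolv

universe u

variable {G : Type u} [Group G]

theorem ups_odd (p n : ℕ) (hn : ¬ Even n) :
    (Cfsg.upperPSeries p G (n + 1)).1 =
      (Cfsg.pCore p (G ⧸ (Cfsg.upperPSeries p G n).1)).comap (QuotientGroup.mk' _) := by
  rw [Cfsg.upperPSeries]
  simp only [hn, if_false]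

theorem ups_even (p n : ℕ) (hn : Even n) :
    (Cfsg.upperPSeries p G (n + 1)).1 =
      (Cfsg.pPrimeCore p (G ⧸ (Cfsg.upperPSeries p G n).1)).comap (QuotientGroup.mk' _) := by
  rw [Cfsg.upperPSeries]
  simp only [hn, if_true]

theorem card_map_mk' (U M : Subgroup G) [U.Normal] :
    Nat.card (M.map (QuotientGroup.mk' U)) = U.relIndex M := by
  have := Subgroup.relIndex_ker (QuotientGroup.mk' U) (K := M)
  rw [QuotientGroup.ker_mk'] at this
  exact this.symm

/-- the quotient by the preimage of `O_{p'}(G / U)` has trivial `p'`-core -/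
theorem pPrimeCore_quot_eq_bot [Finite G] (p : ℕ) (U N : Subgroup G) [U.Normal] [N.Normal]
    (hN : N = (Cfsg.pPrimeCore p (G ⧸ U)).comap (QuotientGroup.mk' U)) :
    Cfsg.pPrimeCore p (G ⧸ N) = ⊥ := by
  have hUN : U ≤ N := by
    rw [hN]
    intro x hx
    change QuotientGroup.mk' U x ∈ Cfsg.pPrimeCore p (G ⧸ U)
    have : QuotientGroup.mk' U x = 1 := (QuotientGroup.eq_one_iff x).2 hx
    rw [this]; exact Subgroup.one_mem _
  have hMn : ((Cfsg.pPrimeCore p (G ⧸ N)).comap (QuotientGroup.mk' N)).Normal :=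
    (Cfsg.pPrimeCore_normal p _).comap _
  generalize hM : (Cfsg.pPrimeCore p (G ⧸ N)).comap (QuotientGroup.mk' N) = M at *
  have hNM : N ≤ M := by
    rw [← hM]
    intro x hx
    change QuotientGroup.mk' N x ∈ Cfsg.pPrimeCore p (G ⧸ N)
    have : QuotientGroup.mk' N x = 1 := (QuotientGroup.eq_one_iff x).2 hx
    rw [this]; exact Subgroup.one_mem _
  have e1 : M.map (QuotientGroup.mk' N) = Cfsg.pPrimeCore p (G ⧸ N) := by
    rw [← hM]; exact Subgroup.map_comap_eq_self_of_surjective (QuotientGroup.mk'_surjective N) _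
  have e2 : N.map (QuotientGroup.mk' U) = Cfsg.pPrimeCore p (G ⧸ U) := by
    rw [hN]; exact Subgroup.map_comap_eq_self_of_surjective (QuotientGroup.mk'_surjective U) _
  have c1 : (N.relIndex M).Coprime p := by
    rw [← card_map_mk', e1]; exact pPrimeCore_coprime p
  have c2 : (U.relIndex N).Coprime p := by
    rw [← card_map_mk', e2]; exact pPrimeCore_coprime p
  have c3 : (Nat.card (M.map (QuotientGroup.mk' U))).Coprime p := by
    rw [card_map_mk', ← Subgroup.relIndex_mul_relIndex U N M hUN hNM]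
    exact Nat.Coprime.mul_left c2 c1
  have h1 : M.map (QuotientGroup.mk' U) ≤ Cfsg.pPrimeCore p (G ⧸ U) :=
    le_pPrimeCore (hMn.map _ (QuotientGroup.mk'_surjective U)) c3
  have h2 : M ≤ N := by
    rw [hN]
    exact Subgroup.map_le_iff_le_comap.1 h1
  rw [← e1, eq_bot_iff]
  calc M.map (QuotientGroup.mk' N) ≤ N.map (QuotientGroup.mk' N) := Subgroup.map_mono h2
    _ = ⊥ := by rw [QuotientGroup.map_mk'_self]

theorem ups_hall_higman [Finite G] {p : ℕ} [Fact p.Prime] (hsol : Cfsg.IsPSolvable p G) (k : ℕ) :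
    Subgroup.centralizer (Cfsg.pCore p (G ⧸ (Cfsg.upperPSeries p G (2 * k + 1)).1) :
      Set (G ⧸ (Cfsg.upperPSeries p G (2 * k + 1)).1)) ≤
      Cfsg.pCore p (G ⧸ (Cfsg.upperPSeries p G (2 * k + 1)).1) :=
  hall_higman (quotient (Fact.out : p.Prime) hsol _)
    (pPrimeCore_quot_eq_bot p (Cfsg.upperPSeries p G (2 * k)).1 _ (ups_even p (2 * k) (by simp)))

theorem ups_map_eq (p k : ℕ) :
    (Cfsg.upperPSeries p G (2 * k + 2)).1.map
      (QuotientGroup.mk' (Cfsg.upperPSeries p G (2 * k + 1)).1) =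
      Cfsg.pCore p (G ⧸ (Cfsg.upperPSeries p G (2 * k + 1)).1) := by
  rw [ups_odd p (2 * k + 1) (by simp)]
  exact Subgroup.map_comap_eq_self_of_surjective (QuotientGroup.mk'_surjective _) _

theorem ups_mono_succ (p n : ℕ) :
    (Cfsg.upperPSeries p G n).1 ≤ (Cfsg.upperPSeries p G (n + 1)).1 := by
  intro x hx
  have h1 : QuotientGroup.mk' (Cfsg.upperPSeries p G n).1 x = 1 := (QuotientGroup.eq_one_iff x).2 hx
  by_cases hn : Even n
  · rw [ups_even p n hn, Subgroup.mem_comap, h1]; exact Subgroup.one_mem _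
  · rw [ups_odd p n hn, Subgroup.mem_comap, h1]; exact Subgroup.one_mem _

/-- the key induction for `l_p(G) ≤ c_p(G)` -/
theorem ups_eq_top_of_lcs_le [Finite G] {p : ℕ} [Fact p.Prime] (hsol : Cfsg.IsPSolvable p G)
    (S : Sylow p G) : ∀ (c k : ℕ),
      (S : Subgroup G).lowerCentralSeries c ≤ (Cfsg.upperPSeries p G (2 * k)).1 →
      (Cfsg.upperPSeries p G (2 * (k + c) + 1)).1 = ⊤ := by
  intro c
  induction c with
  | zero =>
    intro k h
    rw [Subgroup.lowerCentralSeries_zero] at h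
    rw [show 2 * (k + 0) + 1 = 2 * k + 1 from rfl, ups_even p (2 * k) (by simp)]
    have h1 : Cfsg.pPrimeCore p (G ⧸ (Cfsg.upperPSeries p G (2 * k)).1) = ⊤ := by
      rw [eq_top_iff]
      apply le_pPrimeCore inferInstance
      rw [Subgroup.card_top, ← Subgroup.index_eq_card]
      have h2 : (Cfsg.upperPSeries p G (2 * k)).1.index ∣ (S : Subgroup G).index :=
        Subgroup.index_dvd_of_le h
      exact Nat.Coprime.coprime_dvd_left h2
        ((Nat.Prime.coprime_iff_not_dvd (Fact.out : p.Prime)).2 S.not_dvd_index).symm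
    rw [h1, Subgroup.comap_top]
  | succ c ih =>
    intro k h
    have e : 2 * (k + (c + 1)) + 1 = 2 * ((k + 1) + c) + 1 := by ring
    rw [e]
    apply ih (k + 1)
    have e2 : 2 * (k + 1) = 2 * k + 2 := by ring
    rw [e2]
    intro x hx
    rw [ups_odd p (2 * k + 1) (by simp), Subgroup.mem_comap]
    apply ups_hall_higman hsol k
    rw [Subgroup.mem_centralizer_iff]
    intro y hy
    have hsurj := QuotientGroup.mk'_surjective (Cfsg.upperPSeries p G (2 * k + 1)).1
    have h1 : Cfsg.pCore p (G ⧸ (Cfsg.upperPSeries p G (2 * k + 1)).1) ≤ S.mapSurjective hsurj :=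
      PLocal.normal_pgroup_le_sylow _ (Cfsg.pCore_normal p _) (pCore_isPGroup p)
    have h2 : y ∈ ((S.mapSurjective hsurj : Sylow p _) : Subgroup _) := h1 hy
    rw [Sylow.coe_mapSurjective] at h2
    obtain ⟨s, hs, rfl⟩ := h2
    have h3 : ⁅x, s⁆ ∈ (S : Subgroup G).lowerCentralSeries (c + 1) := by
      rw [Subgroup.lowerCentralSeries_succ]
      exact Subgroup.commutator_mem_commutator hx hs
    have h4 : ⁅x, s⁆ ∈ (Cfsg.upperPSeries p G (2 * k + 1)).1 := ups_mono_succ p (2 * k) (h h3)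
    have h5 : QuotientGroup.mk' (Cfsg.upperPSeries p G (2 * k + 1)).1 ⁅x, s⁆ = 1 :=
      (QuotientGroup.eq_one_iff _).2 h4
    rw [map_commutatorElement, commutatorElement_eq_one_iff_mul_comm] at h5
    exact h5.symm

end Cfsg.Agent.Lib.Helper3.PLocal
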