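import Mathlib
import Cfsg.Prelude.Def_LocalEven
import Cfsg.Agent.Lib.Helper1.Coprime
import Cfsg.Agent.Lib.Helper3.Invol

set_option autoImplicit false
open scoped Pointwise

/-! Recognising the symmetric group of degree four as a section. -/

namespace Cfsg.Agent.Lib.Helper3.S4Rec

open Cfsg.Agent.Lib.Helper1

theorem s4_type {K : Type*} [Group K] [Finite K] (W L : Subgroup K) [hWn : W.Normal]
    (hW4 : Nat.card W = 4) (hWc : ∀ x ∈ W, ∀ y ∈ W, x * y = y * x)
    (hWL : W ⊓ L = ⊥) (hsup : W ⊔ L = ⊤) {a b u v : K} (ha : a ∈ L) (hb : b ∈ L)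
    (ha2 : a * a = 1) (hu : u ∈ W) (hv : v ∈ W) (hau : a * u * a⁻¹ = u) (hav : a * v * a⁻¹ ≠ v)
    (hbu : b * u * b⁻¹ ≠ u) :
    Nonempty (K ⧸ L.normalCore ≃* Equiv.Perm (Fin 4)) := by
  classical
  set φ := MulAction.toPermHom K (K ⧸ L) with hφ
  have hker : L.normalCore = φ.ker := Subgroup.normalCore_eq_ker L
  have hcompl : Subgroup.IsComplement' W L := by
    apply Subgroup.isComplement'_of_disjoint_and_mul_eq_univ (disjoint_iff.2 hWL)
    rw [← Subgroup.normal_mul, hsup]; rfl
  have hidx : Nat.card (K ⧸ L) = 4 := by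
    have := hcompl.index_eq_card
    rw [hW4] at this
    exact this
  have hperm : Nat.card (Equiv.Perm (K ⧸ L)) = 24 := by
    rw [Nat.card_perm, hidx]; rfl
  -- the kernel centralizes `W`
  have hCL : φ.ker ≤ L := hker ▸ Subgroup.normalCore_le L
  have hCW : ∀ c ∈ φ.ker, ∀ w ∈ W, c * w * c⁻¹ = w := by
    intro c hc w hw
    have h1 : c * w * c⁻¹ * w⁻¹ ∈ W := W.mul_mem (hWn.conj_mem w hw c) (W.inv_mem hw)
    have h2 : c * w * c⁻¹ * w⁻¹ ∈ φ.ker := by
      have h3 : w * c⁻¹ * w⁻¹ ∈ φ.ker :=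
        (inferInstance : φ.ker.Normal).conj_mem c⁻¹ (φ.ker.inv_mem hc) w
      have : c * w * c⁻¹ * w⁻¹ = c * (w * c⁻¹ * w⁻¹) := by group
      rw [this]
      exact φ.ker.mul_mem hc h3
    have h4 : c * w * c⁻¹ * w⁻¹ ∈ W ⊓ L := ⟨h1, hCL h2⟩
    rw [hWL, Subgroup.mem_bot] at h4
    exact mul_inv_eq_one.1 h4
  have ha1 : a ≠ 1 := by
    rintro rfl
    apply hav; group
  have hza : ∀ x ∈ Subgroup.zpowers a, x = 1 ∨ x = a := by
    rintro _ ⟨k, rfl⟩
    rcases Int.even_or_odd' k with ⟨m, rfl | rfl⟩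
    · left
      change a ^ (2 * m) = 1
      rw [zpow_mul, zpow_two, ha2, one_zpow]
    · right
      change a ^ (2 * m + 1) = a
      rw [zpow_add, zpow_mul, zpow_two, ha2, one_zpow, one_mul, zpow_one]
  set P : Subgroup K := W ⊔ Subgroup.zpowers a with hP
  have hPmem : ∀ x ∈ P, ∃ w ∈ W, x = w ∨ x = w * a := by
    intro x hx
    have h1 : x ∈ ((W : Set K) * (Subgroup.zpowers a : Set K)) := by
      rw [← Subgroup.normal_mul]; exact hx
    obtain ⟨w, hw, z, hz, rfl⟩ := h1
    refine ⟨w, hw, ?_⟩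
    rcases hza z hz with rfl | rfl
    · left; exact mul_one w
    · right; rfl
  have hzaL : Subgroup.zpowers a ≤ L := Subgroup.zpowers_le.2 ha
  have hPcard : Nat.card P = 8 := by
    have h1 := card_sup_mul_card_inf' (Subgroup.zpowers a) W (by
      rw [Subgroup.normalizer_eq_top]; exact le_top)
    have h2 : Subgroup.zpowers a ⊓ W = ⊥ := by
      rw [eq_bot_iff, ← hWL]
      exact le_inf inf_le_right (inf_le_left.trans hzaL)
    have h3 : orderOf a = 2 := orderOf_eq_prime (by rw [pow_two]; exact ha2) ha1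
    rw [h2, Subgroup.card_bot, mul_one, Nat.card_zpowers, h3, hW4, sup_comm] at h1
    exact h1
  have hPker : ∀ x ∈ P, φ x = 1 → x = 1 := by
    intro x hx hx1
    have hxk : x ∈ φ.ker := hx1
    obtain ⟨w, hw, h | h⟩ := hPmem x hx
    · subst h
      have : x ∈ W ⊓ L := ⟨hw, hCL hxk⟩
      rwa [hWL, Subgroup.mem_bot] at this
    · subst h
      exfalso
      have h1 : w ∈ W ⊓ L := by
        refine ⟨hw, ?_⟩
        have : w = (w * a) * a⁻¹ := by group
        rw [this]
        exact L.mul_mem (hCL hxk) (L.inv_mem ha)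
      rw [hWL, Subgroup.mem_bot] at h1
      subst h1
      rw [one_mul] at hxk
      exact hav (hCW a hxk v hv)
  have hinj : Function.Injective (φ.comp P.subtype) := by
    rw [injective_iff_map_eq_one]
    intro x hx
    exact Subtype.ext (hPker x.1 x.2 hx)
  have hmapcard : Nat.card (P.map φ) = 8 := by
    have h1 : (φ.comp P.subtype).range = P.map φ := by
      rw [MonoidHom.range_eq_map, ← Subgroup.map_map, ← MonoidHom.range_eq_map, Subgroup.range_subtype]
    rw [← h1, ← hPcard]
    exact (Nat.card_congr (MonoidHom.ofInjective hinj).toEquiv).symm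
  have hle : P.map φ ≤ φ.range := by
    rintro _ ⟨x, _, rfl⟩
    exact ⟨x, rfl⟩
  have hne : P.map φ ≠ φ.range := by
    intro he
    have h1 : φ b ∈ P.map φ := by rw [he]; exact ⟨b, rfl⟩
    obtain ⟨x, hx, hxb⟩ := h1
    have hc : x⁻¹ * b ∈ φ.ker := by
      rw [MonoidHom.mem_ker, map_mul, map_inv, hxb, inv_mul_cancel]
    have h2 := hCW _ hc u hu
    have h3 : b * u * b⁻¹ = x * ((x⁻¹ * b) * u * (x⁻¹ * b)⁻¹) * x⁻¹ := by group
    rw [h2] at h3
    apply hbu
    rw [h3]
    obtain ⟨w, hw, h | h⟩ := hPmem x hx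
    · subst h
      rw [hWc x hw u hu]; group
    · subst h
      have : w * a * u * (w * a)⁻¹ = w * (a * u * a⁻¹) * w⁻¹ := by group
      rw [this, hau, hWc w hw u hu]; group
  have h8 : 8 ∣ Nat.card φ.range := hmapcard ▸ Subgroup.card_dvd_of_le hle
  have h24 : Nat.card φ.range ∣ 24 := hperm ▸ Subgroup.card_subgroup_dvd_card φ.range
  have hne8 : Nat.card φ.range ≠ 8 := by
    intro h
    apply hne
    exact Subgroup.eq_of_le_of_card_ge hle (by rw [h, hmapcard])
  have hcard : Nat.card φ.range = 24 := by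
    obtain ⟨k, hk⟩ := h8
    rw [hk] at h24 hne8 ⊢
    have hk3 : k ∣ 3 := by
      have : 8 * k ∣ 8 * 3 := h24
      exact Nat.dvd_of_mul_dvd_mul_left (by norm_num) this
    rcases (Nat.dvd_prime Nat.prime_three).1 hk3 with rfl | rfl
    · exact absurd rfl hne8
    · rfl
  have htop : φ.range = ⊤ := Subgroup.eq_top_of_card_eq _ (by rw [hcard, hperm])
  have hsurj : Function.Surjective φ := MonoidHom.range_eq_top.1 htop
  have e1 : K ⧸ L.normalCore ≃* K ⧸ φ.ker := QuotientGroup.quotientMulEquivOfEq hker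
  have e2 : K ⧸ φ.ker ≃* Equiv.Perm (K ⧸ L) := QuotientGroup.quotientKerEquivOfSurjective φ hsurj
  have e3 : (K ⧸ L) ≃ Fin 4 := Finite.equivFinOfCardEq hidx
  exact ⟨(e1.trans e2).trans e3.permCongrHom⟩

theorem involves_s4 {G : Type*} [Group G] [Finite G] (W D : Subgroup G)
    (hDW : D ≤ Subgroup.normalizer (W : Set G))
    (hW4 : Nat.card W = 4) (hWc : ∀ x ∈ W, ∀ y ∈ W, x * y = y * x)
    (hWD : W ⊓ D = ⊥) {a b u v : G} (ha : a ∈ D) (hb : b ∈ D)
    (ha2 : a * a = 1) (hu : u ∈ W) (hv : v ∈ W) (hau : a * u * a⁻¹ = u) (hav : a * v * a⁻¹ ≠ v)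
    (hbu : b * u * b⁻¹ ≠ u) :
    Cfsg.Involves (Equiv.Perm (Fin 4)) G := by
  set K : Subgroup G := D ⊔ W with hK
  have hWK : W ≤ K := le_sup_right
  have hDK : D ≤ K := le_sup_left
  haveI hn : (W.subgroupOf K).Normal := Subgroup.normal_subgroupOf_sup_of_le_normalizer hDW
  have h1 : Nat.card (W.subgroupOf K) = 4 := by rw [card_subgroupOf hWK, hW4]
  have h2 : W.subgroupOf K ⊓ D.subgroupOf K = ⊥ := by
    rw [eq_bot_iff]
    rintro x ⟨hx1, hx2⟩
    have : (x : G) ∈ W ⊓ D := ⟨hx1, hx2⟩
    rw [hWD, Subgroup.mem_bot] at this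
    exact Subgroup.mem_bot.2 (Subtype.ext this)
  have h3 : W.subgroupOf K ⊔ D.subgroupOf K = ⊤ := by
    rw [← Subgroup.subgroupOf_sup hWK hDK, sup_comm, Subgroup.subgroupOf_self]
  obtain ⟨e⟩ := s4_type (K := ↥K) (W.subgroupOf K) (D.subgroupOf K) h1
    (fun x hx y hy => Subtype.ext (hWc x.1 hx y.1 hy)) h2 h3
    (a := ⟨a, hDK ha⟩) (b := ⟨b, hDK hb⟩) (u := ⟨u, hWK hu⟩) (v := ⟨v, hWK hv⟩)
    ha hb (Subtype.ext ha2) hu hv (Subtype.ext hau) (fun h => hav (congrArg Subtype.val h))
    (fun h => hbu (congrArg Subtype.val h))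
  set R : Subgroup G := ((D.subgroupOf K).normalCore).map K.subtype with hR
  have hRK : R.subgroupOf K = (D.subgroupOf K).normalCore :=
    Subgroup.comap_map_eq_self_of_injective K.subtype_injective _
  have hRn : (R.subgroupOf K).Normal := by rw [hRK]; infer_instance
  exact ⟨K, R, hRn, ⟨(QuotientGroup.quotientMulEquivOfEq hRK).trans e⟩⟩

theorem zpowers_invol {G : Type*} [Group G] {a : G} (ha2 : a * a = 1) :
    ∀ x ∈ Subgroup.zpowers a, x = 1 ∨ x = a := by
  rintro _ ⟨k, rfl⟩
  rcases Int.even_or_odd' k with ⟨m, rfl | rfl⟩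
  · left
    change a ^ (2 * m) = 1
    rw [zpow_mul, zpow_two, ha2, one_zpow]
  · right
    change a ^ (2 * m + 1) = a
    rw [zpow_add, zpow_mul, zpow_two, ha2, one_zpow, one_mul, zpow_one]

/-- the standard relations of `S₃` acting on a four-group force a section `S₄` -/
theorem involves_of_rel {G : Type*} [Group G] [Finite G] {a b u v : G}
    (ha2 : a * a = 1) (hb2 : b * b = 1) (hu2 : u * u = 1) (hv2 : v * v = 1) (huv : u * v = v * u)
    (hu1 : u ≠ 1) (hv1 : v ≠ 1) (hne : u ≠ v)
    (hau : a * u * a⁻¹ = u) (hav : a * v * a⁻¹ = u * v) (hbv : b * v * b⁻¹ = v)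
    (hbu : b * u * b⁻¹ = u * v) :
    Cfsg.Involves (Equiv.Perm (Fin 4)) G := by
  set W : Subgroup G := Subgroup.zpowers u ⊔ Subgroup.zpowers v with hW
  set D : Subgroup G := Subgroup.closure ({a, b} : Set G) with hD
  have hcent : Subgroup.zpowers v ≤ Subgroup.centralizer (Subgroup.zpowers u : Set G) := by
    rw [Subgroup.zpowers_le, Subgroup.mem_centralizer_iff]
    rintro _ ⟨k, rfl⟩
    have : Commute u v := huv
    exact (this.zpow_left k).eq
  have hnorm : Subgroup.zpowers v ≤ Subgroup.normalizer (Subgroup.zpowers u : Set G) :=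
    hcent.trans (Subgroup.centralizer_le_normalizer _)
  have huW : u ∈ W := (le_sup_left : Subgroup.zpowers u ≤ W) (Subgroup.mem_zpowers u)
  have hvW : v ∈ W := (le_sup_right : Subgroup.zpowers v ≤ W) (Subgroup.mem_zpowers v)
  have hmem : ∀ x ∈ W, x = 1 ∨ x = u ∨ x = v ∨ x = u * v := by
    intro x hx
    have h1 : x ∈ ((Subgroup.zpowers u : Set G) * (Subgroup.zpowers v : Set G)) := by
      rw [← Subgroup.coe_mul_of_right_le_normalizer_left _ _ hnorm]; exact hx
    obtain ⟨s, hs, t, ht, rfl⟩ := h1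
    rcases zpowers_invol hu2 s hs with rfl | rfl <;> rcases zpowers_invol hv2 t ht with rfl | rfl
    · left; exact mul_one _
    · right; right; left; exact one_mul _
    · right; left; exact mul_one _
    · right; right; right; rfl
  have hW4 : Nat.card W = 4 := by
    have h1 := card_sup_mul_card_inf' (Subgroup.zpowers v) (Subgroup.zpowers u) hnorm
    have h2 : Subgroup.zpowers v ⊓ Subgroup.zpowers u = ⊥ := by
      rw [eq_bot_iff]
      rintro x ⟨hx1, hx2⟩
      rw [Subgroup.mem_bot]
      rcases zpowers_invol hv2 x hx1 with h | h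
      · exact h
      · rcases zpowers_invol hu2 x hx2 with h' | h'
        · exact h'
        · exact absurd (h'.symm.trans h) hne
    have h3 : orderOf u = 2 := orderOf_eq_prime (by rw [pow_two]; exact hu2) hu1
    have h4 : orderOf v = 2 := orderOf_eq_prime (by rw [pow_two]; exact hv2) hv1
    rw [h2, Subgroup.card_bot, mul_one, Nat.card_zpowers, Nat.card_zpowers, h3, h4, sup_comm] at h1
    exact h1
  have hWc : ∀ x ∈ W, ∀ y ∈ W, x * y = y * x := by
    have e1 : u * (u * v) = u * v * u := by rw [mul_assoc, ← huv]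
    have e2 : v * (u * v) = u * v * v := by rw [← mul_assoc, huv]
    intro x hx y hy
    rcases hmem x hx with rfl | rfl | rfl | rfl <;> rcases hmem y hy with rfl | rfl | rfl | rfl <;>
      first
      | rfl
      | simp only [one_mul, mul_one]
      | exact huv
      | exact huv.symm
      | exact e1
      | exact e1.symm
      | exact e2
      | exact e2.symm
  have hauv : a * (u * v) * a⁻¹ = v := by
    have : a * (u * v) * a⁻¹ = (a * u * a⁻¹) * (a * v * a⁻¹) := by group
    rw [this, hau, hav, ← mul_assoc, hu2, one_mul]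
  have hbuv : b * (u * v) * b⁻¹ = u := by
    have : b * (u * v) * b⁻¹ = (b * u * b⁻¹) * (b * v * b⁻¹) := by group
    rw [this, hbu, hbv, mul_assoc, hv2, mul_one]
  have haN : a ∈ Subgroup.normalizer (W : Set G) := by
    apply Subgroup.mem_normalizer_fintype
    intro x hx
    rcases hmem x hx with rfl | rfl | rfl | rfl
    · simp
    · rw [hau]; exact huW
    · rw [hav]; exact W.mul_mem huW hvW
    · rw [hauv]; exact hvW
  have hbN : b ∈ Subgroup.normalizer (W : Set G) := by
    apply Subgroup.mem_normalizer_fintype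
    intro x hx
    rcases hmem x hx with rfl | rfl | rfl | rfl
    · simp
    · rw [hbu]; exact W.mul_mem huW hvW
    · rw [hbv]; exact hvW
    · rw [hbuv]; exact huW
  have hDW : D ≤ Subgroup.normalizer (W : Set G) := by
    rw [hD, Subgroup.closure_le]
    rintro x (rfl | hx)
    · exact haN
    · rw [Set.mem_singleton_iff] at hx; subst hx; exact hbN
  have hyu : (a * b) * u * (a * b)⁻¹ = v := by
    have : (a * b) * u * (a * b)⁻¹ = a * (b * u * b⁻¹) * a⁻¹ := by group
    rw [this, hbu, hauv]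
  have hyv : (a * b) * v * (a * b)⁻¹ = u * v := by
    have : (a * b) * v * (a * b)⁻¹ = a * (b * v * b⁻¹) * a⁻¹ := by group
    rw [this, hbv, hav]
  have hyuv : (a * b) * (u * v) * (a * b)⁻¹ = u := by
    have : (a * b) * (u * v) * (a * b)⁻¹ = a * (b * (u * v) * b⁻¹) * a⁻¹ := by group
    rw [this, hbuv, hau]
  have hWD : W ⊓ D = ⊥ := by
    rw [eq_bot_iff]
    rintro d ⟨hdW, hdD⟩
    rw [Subgroup.mem_bot]
    obtain ⟨k, hk | hk⟩ := (Cfsg.Agent.Lib.Helper3.Invol.mem_closure_iff ha2 hb2 d).1 hdD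
    · have hc : (a * b) * d * (a * b)⁻¹ = d := by
        rw [hk]
        have : Commute (a * b) ((a * b) ^ k) := (Commute.refl _).zpow_right k
        rw [this.eq]; group
      rcases hmem d hdW with h | h | h | h
      · exact h
      · exfalso; rw [h, hyu] at hc; exact hne hc.symm
      · exfalso; rw [h, hyv] at hc
        apply hu1
        exact mul_right_cancel (hc.trans (one_mul v).symm)
      · exfalso; rw [h, hyuv] at hc
        apply hv1
        exact (mul_left_cancel (hc.symm.trans (mul_one u).symm))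
    · exfalso
      set z : G := (a * b) ^ k with hz
      have hai : a⁻¹ = a := inv_eq_of_mul_eq_one_left ha2
      have hzd : z = d * a := by rw [hk, mul_assoc, ha2, mul_one]
      have hzu : z * u * z⁻¹ = u := by
        have : z * u * z⁻¹ = d * (a * u * a⁻¹) * d⁻¹ := by rw [hzd]; group
        rw [this, hau, hWc d hdW u huW]; group
      have hzv : z * v * z⁻¹ = u * v := by
        have : z * v * z⁻¹ = d * (a * v * a⁻¹) * d⁻¹ := by rw [hzd]; group
        rw [this, hav, hWc d hdW (u * v) (W.mul_mem huW hvW)]; group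
      have hcomm : Commute (a * b) z := (Commute.refl _).zpow_right k
      have hzv' : z * v * z⁻¹ = v := by
        have e : z * ((a * b) * u * (a * b)⁻¹) * z⁻¹ = (z * (a * b)) * u * (z * (a * b))⁻¹ := by
          group
        rw [← hyu, e, ← hcomm.eq]
        have e2 : (a * b * z) * u * (a * b * z)⁻¹ = (a * b) * (z * u * z⁻¹) * (a * b)⁻¹ := by group
        rw [e2, hzu]
      rw [hzv'] at hzv
      apply hu1
      exact (mul_right_cancel (hzv.symm.trans (one_mul v).symm))
  have haD : a ∈ D := Subgroup.subset_closure (by simp)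
  have hbD : b ∈ D := Subgroup.subset_closure (by simp)
  refine involves_s4 W D hDW hW4 hWc hWD haD hbD ha2 huW hvW hau ?_ ?_
  · rw [hav]
    intro h
    exact hu1 (mul_right_cancel (h.trans (one_mul v).symm))
  · rw [hbu]
    intro h
    exact hv1 (mul_left_cancel (h.trans (mul_one u).symm))

theorem involves_of_surjective {H G G' : Type*} [Group H] [Group G] [Group G'] (f : G →* G')
    (hf : Function.Surjective f) (h : Cfsg.Involves H G') : Cfsg.Involves H G := by
  obtain ⟨K', R', hn, ⟨e⟩⟩ := h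
  set K : Subgroup G := K'.comap f with hK
  have hs : Function.Surjective (f.subgroupComap K') :=
    f.subgroupComap_surjective_of_surjective K' hf
  set ψ : K →* K' ⧸ R'.subgroupOf K' :=
    (QuotientGroup.mk' (R'.subgroupOf K')).comp (f.subgroupComap K') with hψ
  have hψs : Function.Surjective ψ := (QuotientGroup.mk'_surjective _).comp hs
  set R : Subgroup G := ψ.ker.map K.subtype with hR
  have hRK : R.subgroupOf K = ψ.ker :=
    Subgroup.comap_map_eq_self_of_injective K.subtype_injective _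
  have hRn : (R.subgroupOf K).Normal := by rw [hRK]; infer_instance
  exact ⟨K, R, hRn, ⟨((QuotientGroup.quotientMulEquivOfEq hRK).trans
    (QuotientGroup.quotientKerEquivOfSurjective ψ hψs)).trans e⟩⟩

end Cfsg.Agent.Lib.Helper3.S4Rec
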