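import Mathlib
import Cfsg.Agent.Lib.Helper3.S4Rec
import Cfsg.Agent.Lib.Helper3.KS93
import Cfsg.Agent.Lib.Helper9.ChP2

set_option autoImplicit false
open scoped commutatorElement Pointwise

/-! Solvable `S₄`-free groups: the final configuration. -/

namespace Cfsg.Agent.Lib.Helper3.S4Free

open Cfsg.Agent.Lib.Helper1 Cfsg.Agent.Lib.Helper3.PLocal Cfsg.Agent.Lib.Helper3.KS93
  Cfsg.Agent.Lib.Helper3.S4Rec
open Cfsg.Agent.Lib.Helper6.Subn Cfsg.Agent.Lib.Helper6.Quasi Cfsg.Agent.Lib.Helper6.FStar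
  Cfsg.Agent.Lib.Helper6.PAct Cfsg.Agent.Lib.Helper6.Ores Cfsg.Agent.Lib.Helper9.ChP2

variable {G : Type*} [Group G]

/-- `Ω₁(Z(O))` for the prime two -/
def omZ (O : Subgroup G) : Subgroup G where
  carrier := {x | x ∈ O ∧ x ∈ Subgroup.centralizer (O : Set G) ∧ x * x = 1}
  one_mem' := ⟨O.one_mem, Subgroup.one_mem _, by simp⟩
  mul_mem' := by
    rintro x y ⟨hx1, hx2, hx3⟩ ⟨hy1, hy2, hy3⟩
    refine ⟨O.mul_mem hx1 hy1, Subgroup.mul_mem _ hx2 hy2, ?_⟩
    have hc : y * x = x * y := (Subgroup.mem_centralizer_iff.1 hx2) y hy1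
    calc x * y * (x * y) = x * (y * x) * y := by group
      _ = x * (x * y) * y := by rw [hc]
      _ = (x * x) * (y * y) := by group
      _ = 1 := by rw [hx3, hy3, one_mul]
  inv_mem' := by
    rintro x ⟨h1, h2, h3⟩
    refine ⟨O.inv_mem h1, Subgroup.inv_mem _ h2, ?_⟩
    rw [← mul_inv_rev, h3, inv_one]

theorem omZ_le (O : Subgroup G) : omZ O ≤ O := fun _ h => h.1

theorem omZ_comm {O : Subgroup G} {x q : G} (hx : x ∈ omZ O) (hq : q ∈ O) : q * x = x * q :=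
  (Subgroup.mem_centralizer_iff.1 hx.2.1) q hq

theorem omZ_sq {O : Subgroup G} {x : G} (hx : x ∈ omZ O) : x * x = 1 := hx.2.2

theorem omZ_inv {O : Subgroup G} {x : G} (hx : x ∈ omZ O) : x⁻¹ = x :=
  inv_eq_of_mul_eq_one_left hx.2.2

theorem omZ_ea (O : Subgroup G) : Cfsg.IsElementaryAbelian 2 (omZ O) := by
  rw [ea_iff]
  exact ⟨fun a ha b hb => omZ_comm hb ha.1, fun a ha => by rw [pow_two]; exact ha.2.2⟩

theorem omZ_norm [Finite G] (O : Subgroup G) : Nz O ≤ Nz (omZ O) := by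
  intro g hg
  apply Subgroup.mem_normalizer_fintype
  rintro x ⟨h1, h2, h3⟩
  refine ⟨conj_mem_of_normalizer hg h1, conj_mem_of_normalizer (Nz_le_Nz_Cz O hg) h2, ?_⟩
  calc g * x * g⁻¹ * (g * x * g⁻¹) = g * (x * x) * g⁻¹ := by group
    _ = 1 := by rw [h3]; group

/-- an element stabilizing a normal chain `1 ≤ Y ≤ O` lies in `O` -/
theorem chain [Finite G] {H O Y : Subgroup G} (hHO : H ≤ Nz O) (hO2 : IsPGroup 2 O)
    (hchar : H ⊓ Cz O ≤ O)
    (hmax : ∀ R : Subgroup G, R ≤ H → H ≤ Nz R → IsPGroup 2 R → R ≤ O)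
    (hYO : Y ≤ O) (hHY : H ≤ Nz Y) {x : G} (hx : x ∈ H) (h1 : ∀ q ∈ O, ⁅q, x⁆ ∈ Y)
    (h2 : x ∈ Cz Y) : x ∈ O := by
  haveI : Fact (Nat.Prime 2) := ⟨Nat.prime_two⟩
  set R : Subgroup G := H ⊓ (stab O Y ⊓ Cz Y) with hR
  have hRn : H ≤ Nz R :=
    le_Nz_inf Subgroup.le_normalizer
      (le_Nz_inf ((le_inf hHO hHY).trans (le_Nz_stab O Y)) (hHY.trans (Nz_le_Nz_Cz Y)))
  have hRp : IsPGroup 2 R := by
    apply isPGroup_of_p'_trivial
    rintro v ⟨hvH, hvs, hvc⟩ hvo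
    have h3 : v ∈ Cz O := by
      apply mem_Cz_of_step (hO2.to_le hYO) hvo hvc
      intro q hq
      have e : ⁅q, v⁆ = (v * q * v⁻¹ * q⁻¹)⁻¹ := by rw [commutatorElement_def]; group
      rw [e]
      exact Y.inv_mem (hvs.2 q hq)
    exact eq_one_of_pGroup_of_coprime hO2 (hchar ⟨hvH, h3⟩) hvo
  apply hmax R inf_le_left hRn hRp
  refine ⟨hx, ⟨⟨hHO hx, hHY hx⟩, fun q hq => ?_⟩, h2⟩
  have e : x * q * x⁻¹ * q⁻¹ = (⁅q, x⁆)⁻¹ := by rw [commutatorElement_def]; group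
  rw [e]
  exact Y.inv_mem (h1 q hq)

/-- if `a` fixes the centre `v` of the transvection `b` and `ab` has odd order on `W`,
then `a` and `b` act in the same way -/
theorem same_action {W : Subgroup G} {a b v : G} {m : ℕ} (ha2 : a * a = 1)
    (haW : a ∈ Nz W) (hv2 : v * v = 1)
    (hb : ∀ w ∈ W, b * w * b⁻¹ = w ∨ b * w * b⁻¹ = w * v)
    (hav : a * v * a⁻¹ = v) (hbv : b * v * b⁻¹ = v) (hm : Odd m) (hy : (a * b) ^ m ∈ Cz W) :
    ∀ w ∈ W, a * w * a⁻¹ = b * w * b⁻¹ := by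
  have hai : a⁻¹ = a := inv_eq_of_mul_eq_one_left ha2
  set y : G := a * b with hyd
  have hyv : y * v * y⁻¹ = v := by
    have : y * v * y⁻¹ = a * (b * v * b⁻¹) * a⁻¹ := by rw [hyd]; group
    rw [this, hbv, hav]
  have L1 : ∀ w ∈ W, y * w * y⁻¹ = a * w * a⁻¹ ∨ y * w * y⁻¹ = a * w * a⁻¹ * v := by
    intro w hw
    have e : y * w * y⁻¹ = a * (b * w * b⁻¹) * a⁻¹ := by rw [hyd]; group
    rcases hb w hw with h | h
    · left; rw [e, h]
    · right
      rw [e, h]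
      have : a * (w * v) * a⁻¹ = a * w * a⁻¹ * (a * v * a⁻¹) := by group
      rw [this, hav]
  have haa : ∀ w : G, a * (a * w * a⁻¹) * a⁻¹ = w := by
    intro w
    calc a * (a * w * a⁻¹) * a⁻¹ = (a * a) * w * (a * a)⁻¹ := by group
      _ = w := by rw [ha2]; group
  have L2 : ∀ w ∈ W, y * (y * w * y⁻¹) * y⁻¹ = w ∨ y * (y * w * y⁻¹) * y⁻¹ = w * v := by
    intro w hw
    have hw' : a * w * a⁻¹ ∈ W := conj_mem_of_normalizer haW hw
    rcases L1 w hw with h | h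
    · rw [h]
      rcases L1 _ hw' with h' | h'
      · left; rw [h', haa]
      · right; rw [h', haa]
    · rw [h]
      have e : y * (a * w * a⁻¹ * v) * y⁻¹ = y * (a * w * a⁻¹) * y⁻¹ * (y * v * y⁻¹) := by group
      rw [e, hyv]
      rcases L1 _ hw' with h' | h'
      · right; rw [h', haa]
      · left; rw [h', haa, mul_assoc, hv2, mul_one]
  have L4 : ∀ w ∈ W, y ^ 4 * w * (y ^ 4)⁻¹ = w := by
    intro w hw
    have e : y ^ 4 * w * (y ^ 4)⁻¹ = y * (y * (y * (y * w * y⁻¹) * y⁻¹) * y⁻¹) * y⁻¹ := by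
      have e4 : y ^ 4 = y * y * y * y := by simp only [pow_succ, pow_zero, one_mul]
      rw [e4]; group
    rw [e]
    rcases L2 w hw with h | h
    · rw [h]
      exact h
    · rw [h]
      have e2 : y * (y * (w * v) * y⁻¹) * y⁻¹ =
          y * (y * w * y⁻¹) * y⁻¹ * (y * (y * v * y⁻¹) * y⁻¹) := by group
      rw [e2, h, hyv, hyv, mul_assoc, hv2, mul_one]
  have h4 : y ^ 4 ∈ Cz W := by
    rw [Subgroup.mem_centralizer_iff]
    intro w hw
    have := L4 w hw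
    calc w * y ^ 4 = (y ^ 4 * w * (y ^ 4)⁻¹) * y ^ 4 := by rw [this]
      _ = y ^ 4 * w := by group
  have hcop : Nat.Coprime 4 m := by
    have : Nat.Coprime 2 m := (Nat.coprime_two_left).2 hm
    exact Nat.Coprime.pow_left 2 this
  have hyC : y ∈ Cz W := by
    have h5 := Nat.gcd_eq_gcd_ab 4 m
    rw [hcop] at h5
    have h6 : y = (y ^ 4) ^ (Nat.gcdA 4 m) * (y ^ m) ^ (Nat.gcdB 4 m) := by
      rw [← zpow_natCast y 4, ← zpow_natCast y m, ← zpow_mul, ← zpow_mul, ← zpow_add, ← h5]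
      simp
    rw [h6]
    exact Subgroup.mul_mem _ (Subgroup.zpow_mem _ h4 _) (Subgroup.zpow_mem _ hy _)
  intro w hw
  have h7 : w * y = y * w := (Subgroup.mem_centralizer_iff.1 hyC) w hw
  have h8 : a * (b * w * b⁻¹) * a⁻¹ = w := by
    calc a * (b * w * b⁻¹) * a⁻¹ = (y * w) * y⁻¹ := by rw [hyd]; group
      _ = w := by rw [← h7]; group
  calc a * w * a⁻¹ = a * (a * (b * w * b⁻¹) * a⁻¹) * a⁻¹ := by rw [h8]
    _ = b * w * b⁻¹ := haa _

theorem final_config [Finite G] (hS4 : ¬ Cfsg.Involves (Equiv.Perm (Fin 4)) G)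
    {H O K A : Subgroup G} {a : G}
    (hHO : H ≤ Nz O) (hO2 : IsPGroup 2 O) (hchar : H ⊓ Cz O ≤ O)
    (hmax : ∀ R : Subgroup G, R ≤ H → H ≤ Nz R → IsPGroup 2 R → R ≤ O)
    (hHK : H ≤ Nz K) (hgen : H = K ⊔ A)
    (hodd : ∀ y ∈ K, ∃ m, Odd m ∧ y ^ m ∈ O)
    (hA : Cfsg.IsElementaryAbelian 2 A) (ha : a ∈ A) (haO : a ∉ O)
    (hidx : ∀ x ∈ A, x ∈ O ∨ x * a ∈ O)
    (hcl : ⁅⁅O ⊔ A, O ⊔ A⁆, O ⊔ A⁆ = ⊥)
    (hbig : ∀ B : Subgroup G, B ≤ O ⊔ A → Cfsg.IsElementaryAbelian 2 B →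
      Nat.card B ≤ Nat.card A) : False := by
  haveI : Fact (Nat.Prime 2) := ⟨Nat.prime_two⟩
  have hAH : A ≤ H := hgen ▸ le_sup_right
  have hKH : K ≤ H := hgen ▸ le_sup_left
  have haH : a ∈ H := hAH ha
  have ha2 : a * a = 1 := by
    have := hA.2 a ha
    rwa [pow_two] at this
  have hai : a⁻¹ = a := inv_eq_of_mul_eq_one_left ha2
  set T : Subgroup G := O ⊔ A with hT
  set W : Subgroup G := omZ O with hW
  have hWO : W ≤ O := omZ_le O
  have hHW : H ≤ Nz W := hHO.trans (omZ_norm O)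
  have hWc : ∀ x ∈ W, ∀ y ∈ W, x * y = y * x := fun x hx y hy => omZ_comm hy hx.1
  set Z : Subgroup G := CVV W (Subgroup.zpowers a) with hZ
  have F1 : ∀ q ∈ O, ⁅q, a⁆ ∈ Z := by
    intro q hq
    have hcO : ⁅q, a⁆ ∈ O := comm_mem_of_normalizer (hHO haH) hq
    have hcT : ⁅q, a⁆ ∈ ⁅T, T⁆ :=
      Subgroup.commutator_mem_commutator ((le_sup_left : O ≤ T) hq) ((le_sup_right : A ≤ T) ha)
    have hcc : ∀ t ∈ T, ⁅q, a⁆ * t = t * ⁅q, a⁆ := by
      intro t ht
      have : ⁅⁅q, a⁆, t⁆ ∈ ⁅⁅T, T⁆, T⁆ := Subgroup.commutator_mem_commutator hcT ht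
      rw [hcl, Subgroup.mem_bot] at this
      exact commutatorElement_eq_one_iff_mul_comm.1 this
    have hca : ⁅q, a⁆ * a = a * ⁅q, a⁆ := hcc a ((le_sup_right : A ≤ T) ha)
    have hc2 : ⁅q, a⁆ * ⁅q, a⁆ = 1 := by
      have e1 : q * a * q⁻¹ = ⁅q, a⁆ * a := by rw [commutatorElement_def]; group
      have e2 : (⁅q, a⁆ * a) * (⁅q, a⁆ * a) = 1 := by
        rw [← e1]
        calc q * a * q⁻¹ * (q * a * q⁻¹) = q * (a * a) * q⁻¹ := by group
          _ = 1 := by rw [ha2]; group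
      calc ⁅q, a⁆ * ⁅q, a⁆ = ⁅q, a⁆ * ⁅q, a⁆ * (a * a) := by rw [ha2, mul_one]
        _ = ⁅q, a⁆ * (⁅q, a⁆ * a) * a := by group
        _ = ⁅q, a⁆ * (a * ⁅q, a⁆) * a := by rw [hca]
        _ = (⁅q, a⁆ * a) * (⁅q, a⁆ * a) := by group
        _ = 1 := e2
    refine ⟨⟨hcO, ?_, hc2⟩, mem_centralizer_zpowers_iff.2 hca⟩
    rw [Subgroup.mem_centralizer_iff]
    intro o ho
    exact (hcc o ((le_sup_left : O ≤ T) ho)).symm
  have F2 : a ∉ Cz W := by
    intro h
    exact haO (chain hHO hO2 hchar hmax hWO hHW haH (fun q hq => (F1 q hq).1) h)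
  have hZW : Z < W := by
    apply lt_of_le_of_ne inf_le_left
    intro h
    apply F2
    rw [Subgroup.mem_centralizer_iff]
    intro w hw
    have : w ∈ W ⊓ Subgroup.centralizer (Subgroup.zpowers a : Set G) := by rw [h]; exact hw
    exact mem_centralizer_zpowers_iff.1 this.2
  have h2Z : 2 * Nat.card Z ≤ Nat.card W := card_mul_le_of_lt (ea_isPGroup (omZ_ea O)) hZW
  set A0 : Subgroup G := A ⊓ O with hA0d
  have hA0 : Cfsg.IsElementaryAbelian 2 A0 := ea_mono hA inf_le_left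
  have hB : Cfsg.IsElementaryAbelian 2 (A0 ⊔ W) :=
    ea_sup hA0 (omZ_ea O) (fun x hx w hw => omZ_comm hw hx.2)
  have hBT : A0 ⊔ W ≤ T := sup_le (inf_le_left.trans le_sup_right) (hWO.trans le_sup_left)
  have hc1 := hbig _ hBT hB
  have hc2 := card_sup_mul_card_inf' A0 W ((inf_le_left.trans hAH).trans hHW)
  have hc3 : Nat.card (A0 ⊓ W : Subgroup G) ≤ Nat.card Z := by
    apply Subgroup.card_le_of_le
    rintro x ⟨hx1, hx2⟩
    exact ⟨hx2, mem_centralizer_zpowers_iff.2 (ea_comm hA hx1.1 ha)⟩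
  have hoa : orderOf a = 2 := orderOf_eq_prime (by rw [pow_two]; exact ha2) (by
    rintro rfl
    exact haO O.one_mem)
  have hc4 : Nat.card A = 2 * Nat.card A0 := by
    have h1 := card_sup_mul_card_inf' (Subgroup.zpowers a) A0
      (le_Nz_inf ((Subgroup.zpowers_le.2 ha).trans Subgroup.le_normalizer)
        ((Subgroup.zpowers_le.2 haH).trans hHO))
    have h2 : Subgroup.zpowers a ⊓ A0 = ⊥ := by
      rw [eq_bot_iff]
      rintro x ⟨hx1, hx2⟩
      rw [Subgroup.mem_bot]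
      rcases zpowers_invol ha2 x hx1 with h | h
      · exact h
      · exact absurd (h ▸ hx2.2) haO
    have h3 : Subgroup.zpowers a ⊔ A0 = A := by
      apply le_antisymm (sup_le (Subgroup.zpowers_le.2 ha) inf_le_left)
      intro x hx
      rcases hidx x hx with h | h
      · exact (le_sup_right : A0 ≤ _) ⟨hx, h⟩
      · have e : x = a⁻¹ * (a * x) := by group
        rw [e]
        apply Subgroup.mul_mem
        · exact (le_sup_left : Subgroup.zpowers a ≤ _)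
            (Subgroup.inv_mem _ (Subgroup.mem_zpowers a))
        · apply (le_sup_right : A0 ≤ _)
          rw [ea_comm hA ha hx]
          exact ⟨A.mul_mem hx ha, h⟩
    rw [h2, h3, Subgroup.card_bot, mul_one, Nat.card_zpowers, hoa] at h1
    exact h1
  have hWZ : Nat.card W = 2 * Nat.card Z := by
    apply le_antisymm _ h2Z
    have hpos : 0 < Nat.card A0 := Nat.card_pos
    have h5 : Nat.card A0 * Nat.card W ≤ Nat.card A0 * (2 * Nat.card Z) := by
      calc Nat.card A0 * Nat.card W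
          = Nat.card (A0 ⊔ W : Subgroup G) * Nat.card (A0 ⊓ W : Subgroup G) := hc2.symm
        _ ≤ Nat.card A * Nat.card Z := Nat.mul_le_mul hc1 hc3
        _ = Nat.card A0 * (2 * Nat.card Z) := by rw [hc4]; ring
    exact Nat.le_of_mul_le_mul_left h5 hpos
  have hX2 : Nat.card ↥⁅W, Subgroup.zpowers a⁆ = 2 := by
    have h1 := card_comm_zpowers hWc (hHW haH)
    rw [hWZ, mul_comm] at h1
    exact Nat.eq_of_mul_eq_mul_right (Nat.card_pos (α := Z)) h1
  have hAZ : A ≤ Nz Z :=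
    le_Nz_inf (hAH.trans hHW)
      (Cfsg.Agent.Lib.Helper3.CopGen.norm_centralizer hA.1 (Subgroup.zpowers_le.2 ha))
  have F4 : ∃ k ∈ K, k ∉ Nz Z := by
    by_contra hcon
    push Not at hcon
    have hHZ : H ≤ Nz Z := by
      rw [hgen]
      exact sup_le hcon hAZ
    apply haO
    refine chain hHO hO2 hchar hmax (inf_le_left.trans hWO) hHZ haH F1 ?_
    rw [Subgroup.mem_centralizer_iff]
    intro z hz
    exact mem_centralizer_zpowers_iff.1 hz.2
  obtain ⟨k, hkK, hkZ⟩ := F4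
  obtain ⟨w₀, hw₀W, hw₀Z⟩ := SetLike.exists_of_lt hZW
  set u : G := ⁅w₀, a⁆ with hu
  have huX : u ∈ ⁅W, Subgroup.zpowers a⁆ :=
    Subgroup.commutator_mem_commutator hw₀W (Subgroup.mem_zpowers a)
  have hu1 : u ≠ 1 := by
    intro h
    apply hw₀Z
    exact ⟨hw₀W, mem_centralizer_zpowers_iff.2 (commutatorElement_eq_one_iff_mul_comm.1 h)⟩
  have hXu : ⁅W, Subgroup.zpowers a⁆ = Subgroup.zpowers u := eq_zpowers_of_card_prime hX2 huX hu1
  have huZ : u ∈ Z := F1 w₀ (hWO hw₀W)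
  have huW : u ∈ W := huZ.1
  have hu2 : u * u = 1 := omZ_sq huW
  have hua : u * a = a * u := mem_centralizer_zpowers_iff.1 huZ.2
  have hau : a * u * a⁻¹ = u := by rw [← hua]; group
  have Ha : ∀ w ∈ W, a * w * a⁻¹ = w ∨ a * w * a⁻¹ = w * u := by
    intro w hw
    have h1 : ⁅w, a⁆ ∈ Subgroup.zpowers u := by
      rw [← hXu]
      exact Subgroup.commutator_mem_commutator hw (Subgroup.mem_zpowers a)
    have hwi : w⁻¹ = w := omZ_inv hw
    have e : a * w * a⁻¹ = w * ⁅w, a⁆ := by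
      rw [commutatorElement_def, hwi]
      calc a * w * a⁻¹ = (w * w) * a * w * a⁻¹ := by rw [omZ_sq hw, one_mul]
        _ = w * (w * a * w * a⁻¹) := by group
    rcases zpowers_invol hu2 _ h1 with h | h
    · left; rw [e, h, mul_one]
    · right; rw [e, h]
  have hkH : k ∈ H := hKH hkK
  have hkW : k ∈ Nz W := hHW hkH
  set b : G := k * a * k⁻¹ with hb
  set v : G := k * u * k⁻¹ with hv
  have hb2 : b * b = 1 := by
    calc b * b = k * (a * a) * k⁻¹ := by rw [hb]; group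
      _ = 1 := by rw [ha2]; group
  have hv2 : v * v = 1 := by
    calc v * v = k * (u * u) * k⁻¹ := by rw [hv]; group
      _ = 1 := by rw [hu2]; group
  have hvW : v ∈ W := conj_mem_of_normalizer hkW huW
  have hv1 : v ≠ 1 := by
    intro h
    apply hu1
    calc u = k⁻¹ * v * k := by rw [hv]; group
      _ = 1 := by rw [h]; group
  have hbH : b ∈ H := H.mul_mem (H.mul_mem hkH haH) (H.inv_mem hkH)
  have Hb : ∀ w ∈ W, b * w * b⁻¹ = w ∨ b * w * b⁻¹ = w * v := by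
    intro w hw
    have hw' : k⁻¹ * w * k ∈ W := conj_mem_of_normalizer' hkW hw
    have e : b * w * b⁻¹ = k * (a * (k⁻¹ * w * k) * a⁻¹) * k⁻¹ := by rw [hb]; group
    rcases Ha _ hw' with h | h
    · left; rw [e, h]; group
    · right; rw [e, h, hv]; group
  have hbv : b * v * b⁻¹ = v := by
    calc b * v * b⁻¹ = k * (a * u * a⁻¹) * k⁻¹ := by rw [hb, hv]; group
      _ = v := by rw [hau]
  have hyK : a * b ∈ K := by
    have e : a * b = (a * k * a⁻¹) * k⁻¹ := by rw [hb, hai]; group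
    rw [e]
    exact K.mul_mem (conj_mem_of_normalizer (hHK haH) hkK) (K.inv_mem hkK)
  obtain ⟨m, hm, hym⟩ := hodd _ hyK
  have hOW : O ≤ Cz W := by
    intro o ho
    rw [Subgroup.mem_centralizer_iff]
    intro w hw
    exact (omZ_comm hw ho).symm
  have hyC : (a * b) ^ m ∈ Cz W := hOW hym
  have hyC' : (b * a) ^ m ∈ Cz W := by
    have e : b * a = (a * b)⁻¹ := by
      rw [mul_inv_rev, hai, inv_eq_of_mul_eq_one_left hb2]
    rw [e, inv_pow]
    exact Subgroup.inv_mem _ hyC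
  have hdiff : ¬ ∀ w ∈ W, a * w * a⁻¹ = b * w * b⁻¹ := by
    intro h
    apply hkZ
    apply Subgroup.mem_normalizer_fintype
    intro z hz
    have hzW : k * z * k⁻¹ ∈ W := conj_mem_of_normalizer hkW hz.1
    refine ⟨hzW, mem_centralizer_zpowers_iff.2 ?_⟩
    have hza : z * a = a * z := mem_centralizer_zpowers_iff.1 hz.2
    have h1 := h _ hzW
    have h2 : b * (k * z * k⁻¹) * b⁻¹ = k * z * k⁻¹ := by
      calc b * (k * z * k⁻¹) * b⁻¹ = k * (a * z) * a⁻¹ * k⁻¹ := by rw [hb]; group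
        _ = k * z * k⁻¹ := by rw [← hza]; group
    rw [h2] at h1
    calc k * z * k⁻¹ * a = (a * (k * z * k⁻¹) * a⁻¹) * a := by rw [h1]
      _ = a * (k * z * k⁻¹) := by group
  have hav : a * v * a⁻¹ = v * u := by
    rcases Ha v hvW with h | h
    · exact absurd (same_action ha2 (hHW haH) hv2 Hb h hbv hm hyC) hdiff
    · exact h
  have hbu : b * u * b⁻¹ = u * v := by
    rcases Hb u huW with h | h
    · exfalso
      apply hdiff
      intro w hw
      exact (same_action hb2 (hHW hbH) hu2 Ha h hau hm hyC' w hw).symm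
    · exact h
  have huv : u * v = v * u := hWc u huW v hvW
  have hne : u ≠ v := by
    intro h
    rw [← h, hau] at hav
    exact hu1 (mul_left_cancel (hav.symm.trans (mul_one u).symm))
  exact hS4 (involves_of_rel ha2 hb2 hu2 hv2 huv hu1 hv1 hne hau (hav.trans huv.symm) hbv hbu)

end Cfsg.Agent.Lib.Helper3.S4Free
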