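import Mathlib
import Cfsg.Agent.Lib.Helper3.S4Free
import Cfsg.Agent.Lib.Helper6.PRed
import Cfsg.Agent.Lib.Helper1.FittingSolv

set_option autoImplicit false
open scoped commutatorElement Pointwise

/-! Solvable `S₄`-free groups: reduction to the final configuration. -/

namespace Cfsg.Agent.Lib.Helper3.S4Red

open Cfsg.Agent.Lib.Helper1 Cfsg.Agent.Lib.Helper3.PLocal Cfsg.Agent.Lib.Helper3.KS93
  Cfsg.Agent.Lib.Helper3.S4Rec Cfsg.Agent.Lib.Helper3.S4Free Cfsg.Agent.Lib.Helper3.CopGen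
open Cfsg.Agent.Lib.Helper6.Subn Cfsg.Agent.Lib.Helper6.Quasi Cfsg.Agent.Lib.Helper6.FStar
  Cfsg.Agent.Lib.Helper6.PAct Cfsg.Agent.Lib.Helper6.Ores Cfsg.Agent.Lib.Helper9.ChP2
  Cfsg.Agent.Lib.Helper6.Rad Cfsg.Agent.Lib.Helper6.CharP

variable {G : Type*} [Group G]

theorem mem_of_coprime_pow {N : Subgroup G} {x : G} {r s : ℕ} (h : r.Coprime s) (hr : x ^ r ∈ N)
    (hs : x ^ s ∈ N) : x ∈ N := by
  have h5 := Nat.gcd_eq_gcd_ab r s
  rw [h] at h5
  have h6 : x = (x ^ r) ^ (Nat.gcdA r s) * (x ^ s) ^ (Nat.gcdB r s) := by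
    rw [← zpow_natCast x r, ← zpow_natCast x s, ← zpow_mul, ← zpow_mul, ← zpow_add, ← h5]
    simp
  rw [h6]
  exact Subgroup.mul_mem _ (Subgroup.zpow_mem _ hr _) (Subgroup.zpow_mem _ hs _)

theorem pCore_quot_bot [Finite G] (p : ℕ) [Fact p.Prime] [(Cfsg.pCore p G).Normal] :
    Cfsg.pCore p (G ⧸ Cfsg.pCore p G) = ⊥ := by
  rw [Cfsg.Agent.Lib.Helper6.PRed.pCore_quot_eq_bot_iff]
  intro D hD h
  apply le_pCore hD
  rintro ⟨x, hx⟩
  obtain ⟨k, hk⟩ := h x hx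
  obtain ⟨j, hj⟩ := (pCore_isPGroup (G := G) p) ⟨_, hk⟩
  refine ⟨k + j, Subtype.ext ?_⟩
  have hj' : (x ^ p ^ k) ^ p ^ j = 1 := congrArg Subtype.val hj
  change x ^ p ^ (k + j) = 1
  rw [pow_add, pow_mul, hj']

theorem red [Finite G] [Group.IsSolvable G] (A : Subgroup G)
    (hA : Cfsg.IsElementaryAbelian 2 A) (hAO : ¬ A ≤ Cfsg.pCore 2 G) :
    ∃ (K B : Subgroup G) (a : G), Cfsg.pCore 2 G ≤ K ∧ A ≤ Nz K ∧
      (∀ y ∈ K, ∃ m, Odd m ∧ y ^ m ∈ Cfsg.pCore 2 G) ∧ B ≤ A ∧ a ∈ A ∧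
      (∀ x ∈ A, ∃ i : ℤ, x * a ^ i ∈ B) ∧
      ⁅K, B⁆ ≤ Cfsg.pCore 2 G ∧ ¬ ⁅K, A⁆ ≤ Cfsg.pCore 2 G := by
  haveI : Fact (Nat.Prime 2) := ⟨Nat.prime_two⟩
  haveI hOn : (Cfsg.pCore 2 G).Normal := Cfsg.Agent.Lib.Helper1.pCore_normal 2
  set O := Cfsg.pCore 2 G with hO
  set π := QuotientGroup.mk' O with hπ
  have hπs : Function.Surjective π := QuotientGroup.mk'_surjective O
  have hker : ∀ x : G, π x = 1 ↔ x ∈ O := fun x => QuotientGroup.eq_one_iff x
  have hX : Cfsg.pCore 2 (G ⧸ O) = ⊥ := pCore_quot_bot 2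
  set K₀ := Cfsg.pPrimeCore 2 (G ⧸ O) with hK₀
  haveI hK₀n : K₀.Normal := Cfsg.Agent.Lib.Helper1.pPrimeCore_normal 2
  have hK₀c : (Nat.card K₀).Coprime 2 := pPrimeCore_coprime 2
  have hF : Cfsg.fittingSubgroup (G ⧸ O) ≤ K₀ := by
    rw [fitting_eq_iSup_pCore]
    apply iSup_le
    intro q
    by_cases hq : (q : ℕ) = 2
    · rw [hq, hX]; exact bot_le
    · exact pCore_le_pPrimeCore Nat.prime_two q.2 hq
  have hC : Cz K₀ ≤ K₀ :=
    (Subgroup.centralizer_le (by exact_mod_cast hF)).trans (centralizer_fitting_le.trans hF)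
  set Ab := A.map π with hAb
  have hAbe : Cfsg.IsElementaryAbelian 2 Ab := ea_map π hA
  have hAbK : Ab ≤ Nz K₀ := by
    intro x _
    change x ∈ Subgroup.normalizer (K₀ : Set (G ⧸ O))
    rw [Subgroup.normalizer_eq_top]; trivial
  have hcop : (Nat.card Ab).Coprime (Nat.card K₀) := by
    obtain ⟨n, hn⟩ := IsPGroup.iff_card.1 (ea_isPGroup hAbe)
    rw [hn]
    exact Nat.Coprime.pow_left _ hK₀c.symm
  have hgen := gen Ab K₀ hAbe.1 hAbK hcop
  have hex : ∃ Bb, CoCyc Ab Bb ∧ ¬ Ab ≤ Cz (K₀ ⊓ Cz Bb) := by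
    by_contra hcon
    push Not at hcon
    have h1 : K₀ ≤ Cz Ab := by
      rw [← hgen]
      apply iSup₂_le
      intro Bb hBb
      exact Subgroup.le_centralizer_iff.1 (hcon Bb hBb)
    have h2 : Ab ≤ K₀ := (Subgroup.le_centralizer_iff.1 h1).trans hC
    have h3 : Ab ≤ Ab ⊓ K₀ := le_inf le_rfl h2
    rw [Subgroup.inf_eq_bot_of_coprime hcop] at h3
    apply hAO
    intro x hx
    have : π x ∈ (⊥ : Subgroup (G ⧸ O)) := h3 ⟨x, hx, rfl⟩
    exact (hker x).1 (Subgroup.mem_bot.1 this)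
  obtain ⟨Bb, ⟨hBbA, ab, hab, hsup⟩, hnc⟩ := hex
  obtain ⟨a, ha, rfl⟩ := hab
  set K₁ := K₀ ⊓ Cz Bb with hK₁
  refine ⟨K₁.comap π, A ⊓ Bb.comap π, a, ?_, ?_, ?_, inf_le_left, ha, ?_, ?_, ?_⟩
  · intro x hx
    change π x ∈ K₁
    rw [(hker x).2 hx]
    exact K₁.one_mem
  · have h1 : Ab ≤ Nz K₁ := le_Nz_inf hAbK (norm_centralizer hAbe.1 hBbA)
    intro x hx
    exact Subgroup.le_normalizer_comap π (h1 ⟨x, hx, rfl⟩)
  · intro y hy
    have hy0 : π y ∈ K₀ := hy.1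
    refine ⟨orderOf (π y), ?_, ?_⟩
    · have h1 : orderOf (π y) ∣ Nat.card K₀ := Subgroup.orderOf_dvd_natCard _ hy0
      exact (Nat.coprime_two_left).1 (Nat.Coprime.coprime_dvd_left h1 hK₀c).symm
    · rw [← hker, map_pow, pow_orderOf_eq_one]
  · intro x hx
    have h1 : π x ∈ Bb ⊔ Subgroup.zpowers (π a) := by rw [hsup]; exact ⟨x, hx, rfl⟩
    have hn : Subgroup.zpowers (π a) ≤ Nz Bb := by
      rw [Subgroup.zpowers_le]
      have h2 : π a ∈ Cz Bb := by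
        rw [Subgroup.mem_centralizer_iff]
        intro z hz
        exact ea_comm hAbe (hBbA hz) ⟨a, ha, rfl⟩
      exact Subgroup.centralizer_le_normalizer _ h2
    have h3 : π x ∈ ((Bb : Set (G ⧸ O)) * (Subgroup.zpowers (π a) : Set (G ⧸ O))) := by
      rw [← Subgroup.coe_mul_of_right_le_normalizer_left _ _ hn]; exact h1
    obtain ⟨s, hs, _, ⟨j, rfl⟩, hst⟩ := h3
    refine ⟨-j, A.mul_mem hx (A.zpow_mem ha _), ?_⟩
    change π (x * a ^ (-j)) ∈ Bb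
    have hst' : s * π a ^ j = π x := hst
    rw [map_mul, map_zpow, ← hst', zpow_neg, mul_assoc, mul_inv_cancel, mul_one]
    exact hs
  · rw [Subgroup.commutator_le]
    intro k hk b hb
    rw [← hker, map_commutatorElement, commutatorElement_eq_one_iff_mul_comm]
    exact ((Subgroup.mem_centralizer_iff.1 hk.2) (π b) hb.2).symm
  · intro hle
    apply hnc
    rintro _ ⟨x, hx, rfl⟩
    rw [Subgroup.mem_centralizer_iff]
    intro kb hkb
    obtain ⟨k, rfl⟩ := hπs kb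
    have h1 : ⁅k, x⁆ ∈ O := hle (Subgroup.commutator_mem_commutator hkb hx)
    rw [← hker, map_commutatorElement, commutatorElement_eq_one_iff_mul_comm] at h1
    exact h1

theorem core [Finite G] [Group.IsSolvable G] (hS4 : ¬ Cfsg.Involves (Equiv.Perm (Fin 4)) G)
    (hchar : Subgroup.centralizer (Cfsg.pCore 2 G : Set G) ≤ Cfsg.pCore 2 G)
    (hcl : ∀ P : Subgroup G, IsPGroup 2 P → ⁅⁅P, P⁆, P⁆ = ⊥) (A : Subgroup G)
    (hA : Cfsg.IsElementaryAbelian 2 A)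
    (hbig : ∀ B : Subgroup G, Cfsg.IsElementaryAbelian 2 B → Nat.card B ≤ Nat.card A) :
    A ≤ Cfsg.pCore 2 G := by
  haveI : Fact (Nat.Prime 2) := ⟨Nat.prime_two⟩
  by_contra hAO
  obtain ⟨K, B, a, hOK, hAK, hodd, hBA, ha, hdec, hKB, hKA⟩ := red A hA hAO
  have hOn : (Cfsg.pCore 2 G).Normal := Cfsg.Agent.Lib.Helper1.pCore_normal 2
  set O := Cfsg.pCore 2 G with hO
  have hOp : IsPGroup 2 O := pCore_isPGroup 2
  have hNO : ∀ X : Subgroup G, X ≤ Nz O := by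
    intro X x _
    change x ∈ Subgroup.normalizer (O : Set G)
    rw [Subgroup.normalizer_eq_top]; trivial
  set H : Subgroup G := K ⊔ A with hH
  set O₁ : Subgroup G := Op 2 H with hO₁
  have hKH : K ≤ H := le_sup_left
  have hAH : A ≤ H := le_sup_right
  have hHO₁ : H ≤ Nz O₁ := le_Nz_Op 2 H
  have hO₁p : IsPGroup 2 O₁ := Op_isPGroup 2 H
  have hmax : ∀ R : Subgroup G, R ≤ H → H ≤ Nz R → IsPGroup 2 R → R ≤ O₁ :=
    fun R h1 h2 h3 => le_Rd h1 h2 h3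
  have hOO₁ : O ≤ O₁ := hmax O (hOK.trans hKH) (hNO H) hOp
  have hchar₁ : H ⊓ Cz O₁ ≤ O₁ := by
    have h1 : ChP 2 (⊤ : Subgroup G) := (chP_top_bridge 2).1 hchar
    have h2 : Op 2 (⊤ : Subgroup G) ≤ H := by
      rw [← pCore_eq]; exact hOK.trans hKH
    exact ChP.of_Op_le h1 h2 le_top
  have hHK : H ≤ Nz K := sup_le Subgroup.le_normalizer hAK
  have ha2 : a * a = 1 := by
    have := hA.2 a ha
    rwa [pow_two] at this
  have hBO₁ : B ≤ O₁ := by
    have hR : O ⊔ B ≤ O₁ := by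
      apply hmax
      · exact sup_le (hOK.trans hKH) (hBA.trans hAH)
      · apply sup_le
        · intro k hk
          apply Subgroup.mem_normalizer_fintype
          intro x hx
          have hx' : x ∈ ((O : Set G) * (B : Set G)) := by
            rw [← Subgroup.normal_mul]; exact hx
          obtain ⟨o, ho, b, hb, rfl⟩ := hx'
          have e : k * (o * b) * k⁻¹ = (k * o * k⁻¹) * ⁅k, b⁆ * b := by
            rw [commutatorElement_def]; group
          change k * (o * b) * k⁻¹ ∈ O ⊔ B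
          rw [e]
          apply Subgroup.mul_mem _ (Subgroup.mul_mem _ _ _) ((le_sup_right : B ≤ O ⊔ B) hb)
          · exact (le_sup_left : O ≤ O ⊔ B) (hOn.conj_mem o ho k)
          · exact (le_sup_left : O ≤ O ⊔ B) (hKB (Subgroup.commutator_mem_commutator hk hb))
        · apply le_Nz_sup (hNO A)
          intro x hx
          have h2 : x ∈ Cz B := by
            rw [Subgroup.mem_centralizer_iff]
            intro z hz
            exact ea_comm hA (hBA hz) hx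
          exact Subgroup.centralizer_le_normalizer _ h2
      · rw [sup_comm]
        exact IsPGroup.to_sup_of_normal_right' ((ea_isPGroup hA).to_le hBA) hOp (hNO B)
    exact le_sup_right.trans hR
  have haO₁ : a ∉ O₁ := by
    intro haO
    apply hKA
    have hAO₁ : A ≤ O₁ := by
      intro x hx
      obtain ⟨i, hi⟩ := hdec x hx
      have e : x = (x * a ^ i) * (a ^ i)⁻¹ := by group
      rw [e]
      exact O₁.mul_mem (hBO₁ hi) (O₁.inv_mem (O₁.zpow_mem haO i))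
    rw [Subgroup.commutator_le]
    intro k hk x hx
    have h1 : ⁅k, x⁆ ∈ K := comm_mem_of_normalizer (hAK hx) hk
    have h2 : ⁅k, x⁆ ∈ O₁ := by
      have e : ⁅k, x⁆ = (k * x * k⁻¹) * x⁻¹ := by rw [commutatorElement_def]
      rw [e]
      exact O₁.mul_mem (conj_mem_of_normalizer (hHO₁ (hKH hk)) (hAO₁ hx)) (O₁.inv_mem (hAO₁ hx))
    obtain ⟨m, hm, hm'⟩ := hodd _ h1
    obtain ⟨j, hj⟩ := hO₁p ⟨_, h2⟩
    have hj' : ⁅k, x⁆ ^ 2 ^ j = 1 := congrArg Subtype.val hj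
    exact mem_of_coprime_pow (Nat.Coprime.pow_left j ((Nat.coprime_two_left).2 hm))
      (by rw [hj']; exact O.one_mem) hm'
  have hidx : ∀ x ∈ A, x ∈ O₁ ∨ x * a ∈ O₁ := by
    intro x hx
    obtain ⟨i, hi⟩ := hdec x hx
    rcases zpowers_invol ha2 (a ^ i) ⟨i, rfl⟩ with h | h
    · left; rw [h, mul_one] at hi; exact hBO₁ hi
    · right; rw [h] at hi; exact hBO₁ hi
  have hTp : IsPGroup 2 (O₁ ⊔ A : Subgroup G) := by
    rw [sup_comm]
    exact IsPGroup.to_sup_of_normal_right' (ea_isPGroup hA) hO₁p (hAH.trans hHO₁)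
  exact final_config hS4 hHO₁ hO₁p hchar₁ hmax hHK hH
    (fun y hy => by
      obtain ⟨m, hm, hm'⟩ := hodd y hy
      exact ⟨m, hm, hOO₁ hm'⟩) hA ha haO₁ hidx (hcl _ hTp) (fun B _ hB => hbig B hB)

end Cfsg.Agent.Lib.Helper3.S4Red
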