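import Cfsg.Agent.Lib.Helper3.WS2

set_option autoImplicit false
open scoped commutatorElement

namespace Cfsg.Agent.Lib.Helper3.WS

open Cfsg.Agent.Lib.Helper3.PLocal Cfsg.Agent.Lib.Helper1

universe u

variable {G : Type u} [Group G] [Finite G] {p : ℕ} [Fact p.Prime]

/-- `Ω₁(Z(S))` -/
abbrev OZS (p : ℕ) (S : Subgroup G) : Subgroup G :=
  Cfsg.omegaOne p (S ⊓ Subgroup.centralizer (S : Set G))

/-- the subgroup generated by the `Ω₁(Z(S))` -/
abbrev VZ (p : ℕ) (G : Type u) [Group G] : Subgroup G :=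
  ⨆ S : Sylow p G, Cfsg.omegaOne p ((S : Subgroup G) ⊓ Subgroup.centralizer ((S : Subgroup G) : Set G))

omit [Finite G] [Fact p.Prime] in
theorem VZ_normal : (VZ p G).Normal := by
  have key : ∀ g : G, (VZ p G).map (MulAut.conj g).toMonoidHom ≤ VZ p G := by
    intro g
    rw [Subgroup.map_iSup]
    apply iSup_le
    intro S
    refine le_trans ?_ (le_iSup _ (g • S))
    rw [omegaOne_map p _ (MulAut.conj g).injective]
    apply omegaOne_mono
    rintro _ ⟨x, hx, rfl⟩
    have e : ((g • S : Sylow p G) : Subgroup G) = (S : Subgroup G).map (MulAut.conj g).toMonoidHom := rfl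
    rw [e]
    refine Subgroup.mem_inf.2 ⟨⟨x, hx.1, rfl⟩, ?_⟩
    rw [Subgroup.mem_centralizer_iff]
    rintro _ ⟨y, hy, rfl⟩
    have := (Subgroup.mem_centralizer_iff.1 hx.2) y hy
    simp only [MulEquiv.coe_toMonoidHom]
    rw [← map_mul, ← map_mul, this]
  constructor
  intro n hn g
  exact key g ⟨n, hn, rfl⟩

open Cfsg.Agent.Lib.Helper6.Ores Cfsg.Agent.Lib.Helper6.Basic in
theorem frattini_J (C : Subgroup G) [C.Normal] (hJC : Cfsg.thompsonSubgroup p G ≤ C) (S : Sylow p G)
    (g : G) : ∃ m ∈ C, ∃ n ∈ Subgroup.normalizer (Cfsg.thompsonSubgroupOf p (S : Subgroup G) : Set G),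
      g = m * n := by
  have hT : Syl p ((S : Subgroup G) ⊓ C) C :=
    (syl_of_sylow S).inf_normal le_top (by
      change ⊤ ≤ Subgroup.normalizer (C : Set G)
      rw [Subgroup.normalizer_eq_top])
  obtain ⟨m, hm, n, hn, rfl⟩ := hT.frattini (K := ⊤) (by
      change ⊤ ≤ Subgroup.normalizer (C : Set G)
      rw [Subgroup.normalizer_eq_top]) (Subgroup.mem_top g)
  refine ⟨m, hm, n, ?_, rfl⟩
  obtain ⟨A₀, hA₀, hle⟩ := exists_AA_le_sylow S
  have hA₀C : A₀ ≤ C := (le_thompson hA₀).trans hJC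
  have e : Cfsg.thompsonSubgroupOf p (S : Subgroup G) =
      Cfsg.thompsonSubgroupOf p ((S : Subgroup G) ⊓ C) := by
    rw [thompsonOf_eq hA₀ hle, thompsonOf_eq hA₀ (le_inf hle hA₀C)]
    congr 1
    ext A
    constructor
    · rintro ⟨h1, h2⟩
      exact ⟨h1, le_inf h2 ((le_thompson h1).trans hJC)⟩
    · rintro ⟨h1, h2⟩
      exact ⟨h1, h2.trans inf_le_left⟩
  rw [e]
  exact le_normalizer_J _ hn

theorem factorizable_iff (hO : Cfsg.pPrimeCore p G = ⊥) : Cfsg.IsThompsonFactorizable p G ↔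
    Cfsg.thompsonSubgroup p G ≤ Subgroup.centralizer (VZ p G : Set G) := by
  have hVn : (VZ p G).Normal := VZ_normal
  constructor
  · intro hf
    rw [thompson_eq_iSup_sylow]
    apply iSup_le
    intro S
    have h1 : VZ p G ≤ Subgroup.centralizer (Cfsg.thompsonSubgroupOf p (S : Subgroup G) : Set G) := by
      apply iSup_le
      intro S'
      obtain ⟨g, rfl⟩ := MulAction.exists_smul_eq G S S'
      have e : ((g • S : Sylow p G) : Subgroup G) =
          (S : Subgroup G).map (MulAut.conj g).toMonoidHom := rfl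
      unfold Cfsg.omegaOne
      rw [Subgroup.closure_le, e]
      rintro y ⟨⟨⟨y0, hy0, rfl⟩, hyC⟩, hyp⟩
      have hy0C : y0 ∈ Subgroup.centralizer ((S : Subgroup G) : Set G) := by
        rw [Subgroup.mem_centralizer_iff]
        intro s hs
        have := (Subgroup.mem_centralizer_iff.1 hyC) _ ⟨s, hs, rfl⟩
        apply (MulAut.conj g).injective
        simpa using this
      have hy0p : y0 ^ p = 1 := by
        apply (MulAut.conj g).injective
        rw [map_pow, map_one]
        exact hyp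
      obtain ⟨x, hx, c, hc, n, hn, hg⟩ := hf S g⁻¹
      rw [hO, Subgroup.mem_bot] at hx
      subst hx
      have hg' : g = n⁻¹ * c⁻¹ := by
        rw [← inv_inv g, hg]; group
      have hcy : y0 * c = c * y0 := (Subgroup.mem_centralizer_iff.1 hc) y0
        (Subgroup.subset_closure ⟨Subgroup.mem_inf.2 ⟨hy0, hy0C⟩, hy0p⟩)
      rw [SetLike.mem_coe, Subgroup.mem_centralizer_iff]
      intro j hj
      have hj' : n * j * n⁻¹ ∈ (S : Subgroup G) :=
        Subgroup.map_subtype_le _ (conj_mem_of_normalizer hn hj)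
      have h2 : n * j * n⁻¹ * y0 = y0 * (n * j * n⁻¹) := (Subgroup.mem_centralizer_iff.1 hy0C) _ hj'
      have e2 : (MulAut.conj g).toMonoidHom y0 = n⁻¹ * y0 * n := by
        change g * y0 * g⁻¹ = _
        rw [hg']
        calc n⁻¹ * c⁻¹ * y0 * (n⁻¹ * c⁻¹)⁻¹ = n⁻¹ * c⁻¹ * (y0 * c) * n := by group
          _ = n⁻¹ * c⁻¹ * (c * y0) * n := by rw [hcy]
          _ = n⁻¹ * y0 * n := by group
      rw [e2]
      calc j * (n⁻¹ * y0 * n) = n⁻¹ * (n * j * n⁻¹ * y0) * n := by group
        _ = n⁻¹ * (y0 * (n * j * n⁻¹)) * n := by rw [h2]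
        _ = n⁻¹ * y0 * n * j := by group
    intro j hj
    rw [Subgroup.mem_centralizer_iff]
    intro v hv
    exact ((Subgroup.mem_centralizer_iff.1 (h1 hv)) j hj).symm
  · intro hJ S g
    obtain ⟨m, hm, n, hn, rfl⟩ := frattini_J _ hJ S g
    refine ⟨1, one_mem _, m, ?_, n, hn, by group⟩
    refine Subgroup.centralizer_le ?_ hm
    exact_mod_cast le_iSup (fun S : Sylow p G => Cfsg.omegaOne p ((S : Subgroup G) ⊓
      Subgroup.centralizer ((S : Subgroup G) : Set G))) S

end Cfsg.Agent.Lib.Helper3.WS
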