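import Cfsg.Agent.Lib.Helper3.TF
import Cfsg.Agent.Lib.Helper3.Bar5

set_option autoImplicit false
open scoped commutatorElement

namespace Cfsg.Agent.Lib.Helper3.WS

open Cfsg.Agent.Lib.Helper3.PLocal Cfsg.Agent.Lib.Helper1

universe u

variable {G : Type u} [Group G] [Finite G] {p : ℕ} [Fact p.Prime]

theorem injOn_bar {O : Subgroup G} [O.Normal] (hO : (Nat.card O).Coprime p) {S : Subgroup G}
    (hS : IsPGroup p S) : Set.InjOn (QuotientGroup.mk' O) S := by
  intro a ha b hb hab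
  have h1 : a⁻¹ * b ∈ O := QuotientGroup.eq.1 hab
  have h2 : a⁻¹ * b ∈ S ⊓ O := Subgroup.mem_inf.2 ⟨S.mul_mem (S.inv_mem ha) hb, h1⟩
  rw [pgroup_inf_p' hS hO, Subgroup.mem_bot] at h2
  exact (inv_mul_eq_one.1 h2)

theorem map_OZS {O : Subgroup G} [O.Normal] (hO : (Nat.card O).Coprime p) {S : Subgroup G}
    (hS : IsPGroup p S) :
    (OZS p S).map (QuotientGroup.mk' O) = OZS p (S.map (QuotientGroup.mk' O)) := by
  have hinj := injOn_bar hO hS
  unfold OZS Cfsg.omegaOne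
  rw [MonoidHom.map_closure]
  congr 1
  ext y
  constructor
  · rintro ⟨x, ⟨hx, hxp⟩, rfl⟩
    refine ⟨Subgroup.mem_inf.2 ⟨⟨x, hx.1, rfl⟩, ?_⟩, by rw [← map_pow, hxp, map_one]⟩
    rw [Subgroup.mem_centralizer_iff]
    rintro _ ⟨s, hs, rfl⟩
    rw [← map_mul, ← map_mul, (Subgroup.mem_centralizer_iff.1 hx.2) s hs]
  · rintro ⟨⟨⟨x, hx, rfl⟩, hxC⟩, hxp⟩
    refine ⟨x, ⟨Subgroup.mem_inf.2 ⟨hx, ?_⟩, ?_⟩, rfl⟩
    · rw [Subgroup.mem_centralizer_iff]
      intro s hs
      apply hinj (S.mul_mem hs hx) (S.mul_mem hx hs)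
      rw [map_mul, map_mul]
      exact (Subgroup.mem_centralizer_iff.1 hxC) _ ⟨s, hs, rfl⟩
    · apply hinj (S.pow_mem hx p) S.one_mem
      rw [map_pow, map_one]
      exact hxp

theorem map_J {O : Subgroup G} [O.Normal] (hO : (Nat.card O).Coprime p) {S : Subgroup G}
    (hS : IsPGroup p S) :
    (Cfsg.thompsonSubgroupOf p S).map (QuotientGroup.mk' O) =
      Cfsg.thompsonSubgroupOf p (S.map (QuotientGroup.mk' O)) :=
  (inducedFunctor_map_of_injOn (charP_J p) (QuotientGroup.mk' O) S hS (injOn_bar hO hS)).symm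

theorem exists_sylow_map {O : Subgroup G} [O.Normal] (T : Sylow p (G ⧸ O)) :
    ∃ S : Sylow p G, (S : Subgroup G).map (QuotientGroup.mk' O) = T := by
  obtain ⟨S₀⟩ : Nonempty (Sylow p G) := inferInstance
  obtain ⟨y, hy⟩ := MulAction.exists_smul_eq (G ⧸ O)
    (S₀.mapSurjective (QuotientGroup.mk'_surjective O)) T
  obtain ⟨x, rfl⟩ := QuotientGroup.mk'_surjective O y
  refine ⟨x • S₀, ?_⟩
  rw [← hy]
  have e1 : ((x • S₀ : Sylow p G) : Subgroup G) = (S₀ : Subgroup G).map (MulAut.conj x).toMonoidHom := rfl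
  have e2 : ((QuotientGroup.mk' O x • S₀.mapSurjective (QuotientGroup.mk'_surjective O) :
      Sylow p (G ⧸ O)) : Subgroup (G ⧸ O)) =
      ((S₀ : Subgroup G).map (QuotientGroup.mk' O)).map
        (MulAut.conj (QuotientGroup.mk' O x)).toMonoidHom := rfl
  rw [e1, e2, Subgroup.map_map, Subgroup.map_map]
  congr 1

theorem factorizable_bar : Cfsg.IsThompsonFactorizable p G ↔
    Cfsg.IsThompsonFactorizable p (G ⧸ Cfsg.pPrimeCore p G) := by
  have hO : (Nat.card (Cfsg.pPrimeCore p G)).Coprime p := pPrimeCore_coprime p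
  constructor
  · intro h T y
    obtain ⟨S, hS⟩ := exists_sylow_map T
    obtain ⟨g, rfl⟩ := QuotientGroup.mk'_surjective _ y
    obtain ⟨x, hx, c, hc, n, hn, rfl⟩ := h S g
    refine ⟨1, one_mem _, QuotientGroup.mk' _ c, ?_, QuotientGroup.mk' _ n, ?_, ?_⟩
    · rw [← hS]
      have h1 := map_OZS hO S.2
      unfold OZS at h1
      rw [← h1, Subgroup.mem_centralizer_iff]
      rintro _ ⟨t, ht, rfl⟩
      rw [← map_mul, ← map_mul, (Subgroup.mem_centralizer_iff.1 hc) t ht]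
    · rw [← hS, ← map_J hO S.2]
      apply Subgroup.mem_normalizer_fintype
      rintro _ ⟨t, ht, rfl⟩
      exact ⟨n * t * n⁻¹, conj_mem_of_normalizer hn ht, by simp⟩
    · have hx1 : QuotientGroup.mk' (Cfsg.pPrimeCore p G) x = 1 := (QuotientGroup.eq_one_iff x).2 hx
      rw [map_mul, map_mul, hx1]
  · intro h S g
    obtain ⟨x, _, c, hc, n, hn, e⟩ := h (S.mapSurjective (QuotientGroup.mk'_surjective _))
      (QuotientGroup.mk' _ g)
    have hx1 : x = 1 := by
      have h0 : Cfsg.pPrimeCore p (G ⧸ Cfsg.pPrimeCore p G) = ⊥ := pPrimeCore_quotient_eq_bot p _ rfl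
      rename_i hx
      rw [h0, Subgroup.mem_bot] at hx
      exact hx
    subst hx1
    have eS : ((S.mapSurjective (QuotientGroup.mk'_surjective (Cfsg.pPrimeCore p G)) :
        Sylow p (G ⧸ Cfsg.pPrimeCore p G)) : Subgroup (G ⧸ Cfsg.pPrimeCore p G)) =
        (S : Subgroup G).map (QuotientGroup.mk' _) := rfl
    rw [eS] at hc hn
    have h1 := map_OZS hO S.2
    unfold OZS at h1
    rw [← h1] at hc
    rw [← map_J hO S.2] at hn
    have hOZp : IsPGroup p (OZS p (S : Subgroup G)) :=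
      S.2.to_le ((omegaOne_le p _).trans inf_le_left)
    have hJp : IsPGroup p (Cfsg.thompsonSubgroupOf p (S : Subgroup G)) :=
      S.2.to_le (Subgroup.map_subtype_le _)
    have hc' : c ∈ (Subgroup.centralizer (OZS p (S : Subgroup G) : Set G)).map
        (QuotientGroup.mk' (Cfsg.pPrimeCore p G)) := by
      rw [map_centralizer_bar hOZp]; exact hc
    have hn' : n ∈ (Subgroup.normalizer (Cfsg.thompsonSubgroupOf p (S : Subgroup G) : Set G)).map
        (QuotientGroup.mk' (Cfsg.pPrimeCore p G)) := by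
      rw [map_normalizer_bar hJp]; exact hn
    obtain ⟨c₀, hc₀, rfl⟩ := hc'
    obtain ⟨n₀, hn₀, rfl⟩ := hn'
    refine ⟨g * (c₀ * n₀)⁻¹, ?_, c₀, hc₀, n₀, hn₀, by group⟩
    rw [← QuotientGroup.eq_one_iff]
    change QuotientGroup.mk' _ (g * (c₀ * n₀)⁻¹) = 1
    rw [map_mul, e, map_inv, map_mul]
    group

end Cfsg.Agent.Lib.Helper3.WS
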