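import Cfsg.Agent.Lib.Helper3.UniqP4

namespace Cfsg.Agent.Lib.Helper3.UniqP

theorem comm_of_cyclic {C : Type*} [Group C] [IsCyclic C] (a b : C) : a * b = b * a := by
  obtain ⟨g, hg⟩ := IsCyclic.exists_generator (α := C)
  obtain ⟨i, rfl⟩ := Subgroup.mem_zpowers_iff.1 (hg a)
  obtain ⟨j, rfl⟩ := Subgroup.mem_zpowers_iff.1 (hg b)
  rw [← zpow_add, ← zpow_add, add_comm]

theorem exists_noncomm_sylow {X : Type*} [Group X] [Finite X] {p : ℕ} [Fact p.Prime]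
    (S : Sylow p X) (Q : Subgroup X) (hQ : IsPGroup p Q)
    {a b : X} (ha : a ∈ Q) (hb : b ∈ Q) (hab : a * b ≠ b * a) :
    ∃ a ∈ S, ∃ b ∈ S, a * b ≠ b * a := by
  obtain ⟨S', hS'⟩ := hQ.exists_le_sylow
  obtain ⟨g, hg⟩ := MulAction.exists_smul_eq X S' S
  have hS : (S : Subgroup X) = (S' : Subgroup X).map (MulAut.conj g).toMonoidHom := by
    rw [← hg, Sylow.coe_subgroup_smul]; rfl
  refine ⟨g * a * g⁻¹, ?_, g * b * g⁻¹, ?_, ?_⟩
  · show _ ∈ (S : Subgroup X)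
    rw [hS]; exact ⟨a, hS' ha, rfl⟩
  · show _ ∈ (S : Subgroup X)
    rw [hS]; exact ⟨b, hS' hb, rfl⟩
  · intro h
    apply hab
    have h1 : g * (a * b) * g⁻¹ = g * (b * a) * g⁻¹ := by
      have e1 : g * (a * b) * g⁻¹ = g * a * g⁻¹ * (g * b * g⁻¹) := by group
      have e2 : g * (b * a) * g⁻¹ = g * b * g⁻¹ * (g * a * g⁻¹) := by group
      rw [e1, e2, h]
    exact mul_left_cancel (mul_right_cancel h1)

theorem quat_of_unique_invol {X : Type*} [Group X] [Finite X] (S : Sylow 2 X)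
    (hz : ∀ g h : X, orderOf g = 2 → orderOf h = 2 → g = h)
    (hna : ∃ a ∈ S, ∃ b ∈ S, a * b ≠ b * a) :
    ∃ k, 1 ≤ k ∧ Nonempty ((S : Subgroup X) ≃* QuaternionGroup (2 ^ k)) := by
  have hu : ∀ H K : Subgroup (S : Subgroup X), Nat.card H = 2 → Nat.card K = 2 → H = K := by
    intro H K hH hK
    obtain ⟨x, hx, rfl⟩ := eq_zpowers_of_card_prime H hH
    obtain ⟨y, hy, rfl⟩ := eq_zpowers_of_card_prime K hK
    have : x = y := Subtype.ext (hz _ _ (by rw [Subgroup.orderOf_coe, hx])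
      (by rw [Subgroup.orderOf_coe, hy]))
    rw [this]
  obtain ⟨a, ha, b, hb, hab⟩ := hna
  rcases main 2 S.2 hu with h | ⟨-, n, ⟨e⟩⟩
  · exfalso
    apply hab
    exact congrArg Subtype.val (comm_of_cyclic (⟨a, ha⟩ : (S : Subgroup X)) ⟨b, hb⟩)
  · obtain _ | n := n
    · exfalso
      apply hab
      haveI : IsCyclic (QuaternionGroup (2 ^ 0)) := QuaternionGroup.quaternionGroup_one_isCyclic
      have h1 := comm_of_cyclic (e ⟨a, ha⟩) (e ⟨b, hb⟩)
      rw [← map_mul, ← map_mul] at h1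
      exact congrArg Subtype.val (e.injective h1)
    · exact ⟨n + 1, by omega, ⟨e⟩⟩

theorem two_group_of_invert {G : Type*} [Group G] {i j : G} (hi : i ^ 4 = 1) (hj : j ^ 4 = 1)
    (h : j * i * j⁻¹ = i⁻¹) : IsPGroup 2 (Subgroup.zpowers j ⊔ Subgroup.zpowers i : Subgroup G) := by
  have key : ∀ x : G, x ^ 4 = 1 → IsPGroup 2 (Subgroup.zpowers x) := by
    intro x hx
    obtain ⟨b, _, hb⟩ := (Nat.dvd_prime_pow Nat.prime_two).1
      (orderOf_dvd_of_pow_eq_one (show x ^ 2 ^ 2 = 1 from hx))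
    exact IsPGroup.of_card (n := b) (by rw [Nat.card_zpowers, hb])
  apply IsPGroup.to_sup_of_normal_right' (key j hj) (key i hi)
  rw [Subgroup.zpowers_le, Subgroup.mem_normalizer_iff]
  have h' : j⁻¹ * i * j = i⁻¹ := by
    have e : i = j⁻¹ * i⁻¹ * j := by rw [← h]; group
    calc j⁻¹ * i * j = (j⁻¹ * i⁻¹ * j)⁻¹ := by group
      _ = i⁻¹ := by rw [← e]
  intro x
  constructor
  · intro hx
    obtain ⟨t, rfl⟩ := Subgroup.mem_zpowers_iff.1 hx
    rw [← conj_zpow, h]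
    exact Subgroup.zpow_mem _ (inv_mem (Subgroup.mem_zpowers i)) _
  · intro hx
    obtain ⟨t, ht⟩ := Subgroup.mem_zpowers_iff.1 hx
    have e : x = j⁻¹ * i ^ t * j⁻¹⁻¹ := by rw [ht]; group
    rw [e, ← conj_zpow, inv_inv, h']
    exact Subgroup.zpow_mem _ (inv_mem (Subgroup.mem_zpowers i)) _

end Cfsg.Agent.Lib.Helper3.UniqP
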