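import Cfsg.Agent.Lib.Helper3.UniqP5

namespace Cfsg.Agent.Lib.Helper3.UniqP

theorem cyclic_or_quat_of_fpf_hom {L M : Type*} [Group L] [Finite L] [Group M] [Finite M]
    [Nontrivial M] (q : ℕ) [Fact q.Prime] (hL : IsPGroup q L) (φ : L →* MulAut M)
    (hfpf : ∀ l : L, l ≠ 1 → ∀ m : M, φ l m = m → m = 1) :
    IsCyclic L ∨ (q = 2 ∧ ∃ n : ℕ, Nonempty (L ≃* QuaternionGroup (2 ^ n))) := by
  haveI : Finite (M ⋊[φ] L) := Finite.of_equiv _ SemidirectProduct.equivProd.symm
  have e : L ≃* (SemidirectProduct.inr : L →* M ⋊[φ] L).range :=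
    MonoidHom.ofInjective SemidirectProduct.inr_injective
  have hQ : IsPGroup q (SemidirectProduct.inr : L →* M ⋊[φ] L).range := hL.of_equiv e
  have hV : (SemidirectProduct.inl : M →* M ⋊[φ] L).range ≠ ⊥ := by
    intro h
    obtain ⟨m, hm⟩ := exists_ne (1 : M)
    apply hm
    have h1 : (SemidirectProduct.inl m : M ⋊[φ] L) ∈
        (SemidirectProduct.inl : M →* M ⋊[φ] L).range := ⟨m, rfl⟩
    rw [h, Subgroup.mem_bot] at h1
    exact SemidirectProduct.inl_injective (by rw [h1, map_one])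
  haveI hVn : ((SemidirectProduct.inl : M →* M ⋊[φ] L).range).Normal := by
    rw [SemidirectProduct.range_inl_eq_ker_rightHom]; infer_instance
  have hf : ∀ a ∈ (SemidirectProduct.inr : L →* M ⋊[φ] L).range, a ≠ 1 →
      (SemidirectProduct.inl : M →* M ⋊[φ] L).range ⊓ Subgroup.centralizer {a} = ⊥ := by
    rintro _ ⟨l, rfl⟩ hl1
    rw [eq_bot_iff]
    rintro _ ⟨⟨m, rfl⟩, hc⟩
    replace hc : (SemidirectProduct.inl m : M ⋊[φ] L) ∈
        Subgroup.centralizer {(SemidirectProduct.inr l : M ⋊[φ] L)} := hc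
    rw [Subgroup.mem_centralizer_singleton_iff] at hc
    have hl : l ≠ 1 := by
      rintro rfl
      exact hl1 (map_one _)
    have h1 : (SemidirectProduct.inl (φ l m) : M ⋊[φ] L) = SemidirectProduct.inl m := by
      rw [SemidirectProduct.inl_aut, map_inv, ← hc]; group
    have h2 := hfpf l hl m (SemidirectProduct.inl_injective h1)
    rw [h2, map_one]
    exact Subgroup.one_mem _
  rcases cyclic_or_quat_of_fpf q _ _ hQ hV (by rw [Subgroup.normalizer_eq_top]; exact le_top)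
    hf
    with h | ⟨h2, n, ⟨f⟩⟩
  · left; exact isCyclic_of_surjective e.symm e.symm.surjective
  · right; exact ⟨h2, n, ⟨e.trans f⟩⟩

end Cfsg.Agent.Lib.Helper3.UniqP
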