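import Cfsg.Agent.Lib.Helper3.UniqP5

namespace Cfsg.Agent.Lib.Helper3.UniqP

variable {F : Type*} [Field F]

theorem sl2_invol (h2 : (2 : F) ≠ 0) (g : Matrix.SpecialLinearGroup (Fin 2) F) (hg : g ^ 2 = 1)
    (hg1 : g ≠ 1) : (g : Matrix (Fin 2) (Fin 2) F) = -1 := by
  have hdet := g.2
  rw [Matrix.det_fin_two] at hdet
  have hsq : (g : Matrix (Fin 2) (Fin 2) F) * (g : Matrix (Fin 2) (Fin 2) F) = 1 := by
    have := congrArg Subtype.val hg
    rwa [pow_two] at this
  have e00 := congrFun (congrFun hsq 0) 0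
  have e01 := congrFun (congrFun hsq 0) 1
  have e10 := congrFun (congrFun hsq 1) 0
  have e11 := congrFun (congrFun hsq 1) 1
  simp only [Matrix.mul_apply, Fin.sum_univ_two, Matrix.one_apply_eq, ne_eq, zero_ne_one,
    not_false_eq_true, Matrix.one_apply_ne, one_ne_zero] at e00 e01 e10 e11
  have hg1' : ¬ ((g : Matrix (Fin 2) (Fin 2) F) 0 0 = 1 ∧ (g : Matrix (Fin 2) (Fin 2) F) 0 1 = 0 ∧
      (g : Matrix (Fin 2) (Fin 2) F) 1 0 = 0 ∧ (g : Matrix (Fin 2) (Fin 2) F) 1 1 = 1) := by
    rintro ⟨h1, h2, h3, h4⟩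
    apply hg1
    apply Subtype.ext
    ext i j
    fin_cases i <;> fin_cases j <;> simp [h1, h2, h3, h4]
  suffices H : (g : Matrix (Fin 2) (Fin 2) F) 0 0 = -1 ∧ (g : Matrix (Fin 2) (Fin 2) F) 0 1 = 0 ∧
      (g : Matrix (Fin 2) (Fin 2) F) 1 0 = 0 ∧ (g : Matrix (Fin 2) (Fin 2) F) 1 1 = -1 by
    obtain ⟨h1, h2, h3, h4⟩ := H
    ext i j
    fin_cases i <;> fin_cases j <;> simp [h1, h2, h3, h4]
  generalize (g : Matrix (Fin 2) (Fin 2) F) 0 0 = a at *
  generalize (g : Matrix (Fin 2) (Fin 2) F) 0 1 = b at *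
  generalize (g : Matrix (Fin 2) (Fin 2) F) 1 0 = c at *
  generalize (g : Matrix (Fin 2) (Fin 2) F) 1 1 = d at *
  have ht : a + d ≠ 0 := by
    intro ht
    apply h2
    have hd : d = -a := by linear_combination ht
    subst hd
    linear_combination -(e00 + hdet)
  have hb : b = 0 := by
    have : b * (a + d) = 0 := by linear_combination e01
    exact (mul_eq_zero.1 this).resolve_right ht
  have hc : c = 0 := by
    have : c * (a + d) = 0 := by linear_combination e10
    exact (mul_eq_zero.1 this).resolve_right ht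
  subst hb hc
  have ha : (a - 1) * (a + 1) = 0 := by linear_combination e00
  rcases mul_eq_zero.1 ha with h | h
  · exfalso
    have ha1 : a = 1 := by linear_combination h
    subst ha1
    exact hg1' ⟨rfl, rfl, rfl, by linear_combination hdet⟩
  · have ha1 : a = -1 := by linear_combination h
    subst ha1
    exact ⟨rfl, rfl, rfl, by linear_combination -hdet⟩

theorem sl2_unique_invol (h2 : (2 : F) ≠ 0) (g h : Matrix.SpecialLinearGroup (Fin 2) F)
    (hg : orderOf g = 2) (hh : orderOf h = 2) : g = h := by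
  have key : ∀ x : Matrix.SpecialLinearGroup (Fin 2) F, orderOf x = 2 →
      (x : Matrix (Fin 2) (Fin 2) F) = -1 := by
    intro x hx
    apply sl2_invol h2 x (by have := pow_orderOf_eq_one x; rwa [hx] at this)
    intro h1
    rw [h1, orderOf_one] at hx
    norm_num at hx
  exact Subtype.ext ((key g hg).trans (key h hh).symm)

/-- a quaternion pair in `SL₂` -/
theorem sl2_exists_q8 (h2 : (2 : F) ≠ 0) {α β : F} (hαβ : α ^ 2 + β ^ 2 = -1) :
    ∃ i j : Matrix.SpecialLinearGroup (Fin 2) F, i ^ 4 = 1 ∧ j ^ 4 = 1 ∧ j * i * j⁻¹ = i⁻¹ ∧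
      i * j ≠ j * i := by
  let i : Matrix.SpecialLinearGroup (Fin 2) F := ⟨!![0, 1; -1, 0], by simp [Matrix.det_fin_two]⟩
  let j : Matrix.SpecialLinearGroup (Fin 2) F := ⟨!![α, β; β, -α], by
    rw [Matrix.det_fin_two]; simp; linear_combination -hαβ⟩
  have hii : (i * i : Matrix.SpecialLinearGroup (Fin 2) F).1 = -1 := by
    show !![0, 1; -1, 0] * !![0, 1; -1, 0] = (-1 : Matrix (Fin 2) (Fin 2) F)
    ext a b
    fin_cases a <;> fin_cases b <;> simp [Matrix.mul_apply, Fin.sum_univ_two]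
  have hjj : (j * j : Matrix.SpecialLinearGroup (Fin 2) F).1 = -1 := by
    show !![α, β; β, -α] * !![α, β; β, -α] = (-1 : Matrix (Fin 2) (Fin 2) F)
    ext a b
    fin_cases a <;> fin_cases b <;> simp [Matrix.mul_apply, Fin.sum_univ_two]
    · linear_combination hαβ
    · ring
    · ring
    · linear_combination hαβ
  have h4 : ∀ x : Matrix.SpecialLinearGroup (Fin 2) F, (x * x).1 = -1 → x ^ 4 = 1 := by
    intro x hx
    apply Subtype.ext
    have e : x ^ 4 = (x * x) * (x * x) := by
      rw [show (4 : ℕ) = 2 + 2 from rfl, pow_add, pow_two]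
    rw [e]
    show (x * x).1 * (x * x).1 = 1
    rw [hx]; simp
  have hiji : i * j * i = j := by
    apply Subtype.ext
    show !![0, 1; -1, 0] * !![α, β; β, -α] * !![0, 1; -1, 0] = !![α, β; β, -α]
    ext a b
    fin_cases a <;> fin_cases b <;> simp [Matrix.mul_apply, Fin.sum_univ_two]
  refine ⟨i, j, h4 i hii, h4 j hjj, ?_, ?_⟩
  · have e : j * i = i⁻¹ * j := by
      rw [eq_inv_mul_iff_mul_eq, ← mul_assoc, hiji]
    rw [e]; group
  · intro h
    have h1 := congrArg Subtype.val h
    have h1' : !![0, 1; -1, 0] * !![α, β; β, -α] = !![α, β; β, -α] * !![0, 1; -1, 0] := h1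
    have e00 := congrFun (congrFun h1' 0) 0
    have e01 := congrFun (congrFun h1' 0) 1
    simp [Matrix.mul_apply, Fin.sum_univ_two] at e00 e01
    have hβ : β = 0 := by
      have : 2 * β = 0 := by linear_combination e00
      exact (mul_eq_zero.1 this).resolve_left h2
    have hα : α = 0 := by
      have : 2 * α = 0 := by linear_combination -e01
      exact (mul_eq_zero.1 this).resolve_left h2
    rw [hα, hβ] at hαβ
    have : (2 : F) = 0 := by linear_combination 2 * hαβ
    exact h2 this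

end Cfsg.Agent.Lib.Helper3.UniqP
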