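import Cfsg.Agent.Lib.Helper3.Thompson
import Cfsg.Agent.Lib.Helper1.FunctStab

set_option autoImplicit false
open scoped commutatorElement

namespace Cfsg.Agent.Lib.Helper3.WS

open Cfsg.Agent.Lib.Helper3.PLocal

universe u

section gen

variable {G : Type*} [Group G]

theorem ea_closure {p : ℕ} {s : Set G} (hc : ∀ a ∈ s, ∀ b ∈ s, a * b = b * a)
    (hp : ∀ a ∈ s, a ^ p = 1) : Cfsg.IsElementaryAbelian p (Subgroup.closure s) := by
  have hcomm : ∀ a ∈ Subgroup.closure s, ∀ b ∈ Subgroup.closure s, a * b = b * a := by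
    intro a ha b hb
    have h1 : Subgroup.closure s ≤ Subgroup.centralizer (s : Set G) := by
      rw [Subgroup.closure_le]
      intro x hx
      rw [SetLike.mem_coe, Subgroup.mem_centralizer_iff]
      intro y hy
      exact hc y hy x hx
    have h2 : Subgroup.closure s ≤ Subgroup.centralizer (Subgroup.closure s : Set G) := by
      rw [Subgroup.closure_le]
      intro x hx
      rw [SetLike.mem_coe, Subgroup.mem_centralizer_iff]
      intro y hy
      exact ((Subgroup.mem_centralizer_iff.1 (h1 hy)) x hx).symm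
    exact (Subgroup.mem_centralizer_iff.1 (h2 hb)) a ha
  rw [ea_iff]
  refine ⟨hcomm, ?_⟩
  intro a ha
  induction ha using Subgroup.closure_induction with
  | mem x hx => exact hp x hx
  | one => exact one_pow _
  | mul x y hx hy ihx ihy =>
    rw [(show Commute x y from hcomm x hx y hy).mul_pow, ihx, ihy, one_mul]
  | inv x hx ih => rw [inv_pow, ih, inv_one]

theorem closure_normal {s : Set G} (h : ∀ x ∈ s, ∀ g : G, g * x * g⁻¹ ∈ s) :
    (Subgroup.closure s).Normal := by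
  constructor
  intro n hn g
  induction hn using Subgroup.closure_induction with
  | mem x hx => exact Subgroup.subset_closure (h x hx g)
  | one => simp
  | mul x y _ _ ihx ihy =>
    have : g * (x * y) * g⁻¹ = (g * x * g⁻¹) * (g * y * g⁻¹) := by group
    rw [this]; exact mul_mem ihx ihy
  | inv x _ ih =>
    have : g * x⁻¹ * g⁻¹ = (g * x * g⁻¹)⁻¹ := by group
    rw [this]; exact inv_mem ih

theorem omegaOne_le (p : ℕ) (H : Subgroup G) : Cfsg.omegaOne p H ≤ H := by
  unfold Cfsg.omegaOne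
  rw [Subgroup.closure_le]
  intro x hx
  exact hx.1

theorem omegaOne_mono (p : ℕ) {H K : Subgroup G} (h : H ≤ K) :
    Cfsg.omegaOne p H ≤ Cfsg.omegaOne p K :=
  Subgroup.closure_mono fun _ hx => ⟨h hx.1, hx.2⟩

theorem omegaOne_map {G' : Type*} [Group G'] (p : ℕ) (f : G →* G') (hf : Function.Injective f)
    (H : Subgroup G) : (Cfsg.omegaOne p H).map f = Cfsg.omegaOne p (H.map f) := by
  unfold Cfsg.omegaOne
  rw [MonoidHom.map_closure]
  congr 1
  ext y
  constructor
  · rintro ⟨x, ⟨hx, hxp⟩, rfl⟩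
    exact ⟨⟨x, hx, rfl⟩, by rw [← map_pow, hxp, map_one]⟩
  · rintro ⟨⟨x, hx, rfl⟩, hxp⟩
    refine ⟨x, ⟨hx, hf ?_⟩, rfl⟩
    rw [map_pow, hxp, map_one]

theorem ea_omegaOne {p : ℕ} {H : Subgroup G} (hH : ∀ a ∈ H, ∀ b ∈ H, a * b = b * a) :
    Cfsg.IsElementaryAbelian p (Cfsg.omegaOne p H) :=
  ea_closure (fun a ha b hb => hH a ha.1 b hb.1) (fun a ha => ha.2)

/-- elementwise quadratic action -/
def QE (V : Subgroup G) (a : G) : Prop := ∀ v ∈ V, ⁅v, a⁆ * a = a * ⁅v, a⁆

theorem QE.of_quad {V : Subgroup G} {a : G}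
    (h : ⁅⁅V, Subgroup.zpowers a⁆, Subgroup.zpowers a⁆ = ⊥) : QE V a := fun _ hv =>
  mem_centralizer_of_comm_bot h
    (Subgroup.commutator_mem_commutator hv (Subgroup.mem_zpowers a)) (Subgroup.mem_zpowers a)

theorem QE.quad [Finite G] {V : Subgroup G} {a : G} (h : QE V a) :
    ⁅⁅V, Subgroup.zpowers a⁆, Subgroup.zpowers a⁆ = ⊥ := by
  rw [Subgroup.commutator_eq_bot_iff_le_centralizer, Subgroup.commutator_le]
  intro v hv z hz
  obtain ⟨n, rfl⟩ := (mem_powers_iff_mem_zpowers.2 hz)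
  have h1 := conj_pow_of_quadratic (h v hv) n
  have h2 : ⁅v, a ^ n⁆ = ⁅v, a⁆ ^ n := by
    have : ⁅v, a ^ n⁆ = v * (a ^ n * v * (a ^ n)⁻¹)⁻¹ := by
      rw [commutatorElement_def]; group
    rw [this, h1, mul_inv_rev, mul_inv_cancel_left, inv_pow, inv_inv]
  simp only at h2 ⊢
  rw [h2, mem_centralizer_zpowers_iff]
  exact ((show Commute ⁅v, a⁆ a from h v hv).pow_left n).eq

theorem QE.congr {V : Subgroup G} {a b : G} (hb : ∀ v ∈ V, b * v * b⁻¹ ∈ V)
    (hab : ∀ v ∈ V, a * v * a⁻¹ = b * v * b⁻¹) (h : QE V b) : QE V a := by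
  intro v hv
  have e1 : ⁅v, a⁆ = ⁅v, b⁆ := by
    have h1 : ∀ x : G, ⁅v, x⁆ = v * (x * v⁻¹ * x⁻¹) := by
      intro x; rw [commutatorElement_def]; group
    rw [h1, h1, hab _ (V.inv_mem hv)]
  have hc : ⁅v, b⁆ ∈ V := by
    have h1 : ⁅v, b⁆ = v * (b * v⁻¹ * b⁻¹) := by rw [commutatorElement_def]; group
    rw [h1]
    exact V.mul_mem hv (hb _ (V.inv_mem hv))
  rw [e1]
  have h2 := hab _ hc
  have h3 : b * ⁅v, b⁆ * b⁻¹ = ⁅v, b⁆ := by rw [← h v hv]; group
  rw [h3] at h2
  calc ⁅v, b⁆ * a = (a * ⁅v, b⁆ * a⁻¹) * a := by rw [h2]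
    _ = a * ⁅v, b⁆ := by group

theorem QE.conj {V : Subgroup G} [V.Normal] {a : G} (h : QE V a) (g : G) : QE V (g * a * g⁻¹) := by
  intro v hv
  have h1 := h (g⁻¹ * v * g) (by
    have := (inferInstance : V.Normal).conj_mem v hv g⁻¹
    rwa [inv_inv] at this)
  have e : ⁅v, g * a * g⁻¹⁆ = g * ⁅g⁻¹ * v * g, a⁆ * g⁻¹ := by
    simp only [commutatorElement_def]; group
  rw [e]
  calc g * ⁅g⁻¹ * v * g, a⁆ * g⁻¹ * (g * a * g⁻¹) = g * (⁅g⁻¹ * v * g, a⁆ * a) * g⁻¹ := by group
    _ = g * (a * ⁅g⁻¹ * v * g, a⁆) * g⁻¹ := by rw [h1]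
    _ = g * a * g⁻¹ * (g * ⁅g⁻¹ * v * g, a⁆ * g⁻¹) := by group

theorem QE.mono {V W : Subgroup G} {a : G} (h : QE V a) (hW : W ≤ V) : QE W a :=
  fun v hv => h v (hW hv)

theorem QE.map {G' : Type*} [Group G'] (f : G →* G') {V : Subgroup G} {a : G} (h : QE V a) :
    QE (V.map f) (f a) := by
  rintro _ ⟨v, hv, rfl⟩
  rw [← map_commutatorElement, ← map_mul, ← map_mul, h v hv]

theorem QE.of_map {G' : Type*} [Group G'] (f : G →* G') (hf : Function.Injective f)
    {V : Subgroup G} {a : G} (h : QE (V.map f) (f a)) : QE V a := by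
  intro v hv
  apply hf
  have := h (f v) ⟨v, hv, rfl⟩
  rwa [← map_commutatorElement, ← map_mul, ← map_mul] at this

end gen

section fam

variable {S : Type u} [Group S]

/-- the family whose infimum is `W(S)` -/
def Fam (p : ℕ) (S : Type u) [Group S] : Set (Subgroup S) :=
  {W | Cfsg.omegaOne p (Subgroup.center S) ≤ W ∧
    ∀ (H : Type u) [Group H] (τ : S →* H), Cfsg.IsStableEmbedding p τ → (W.map τ).Normal}

theorem W_eq (p : ℕ) : Cfsg.stableNormalClosure p S = sInf (Fam p S) := rfl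

theorem W_le {p : ℕ} {U : Subgroup S} (h : U ∈ Fam p S) : Cfsg.stableNormalClosure p S ≤ U :=
  sInf_le h

theorem ea_OZJ (p : ℕ) : Cfsg.IsElementaryAbelian p (Cfsg.omegaCenterThompson p S) := by
  apply ea_omegaOne
  intro a ha b hb
  exact (Subgroup.mem_centralizer_iff.1 hb.2) a ha.1

theorem OZJ_mem [Finite S] (p : ℕ) : Cfsg.omegaCenterThompson p S ∈ Fam p S := by
  constructor
  · apply Subgroup.closure_mono
    rintro x ⟨hx, hxp⟩
    have hc : x ∈ Subgroup.centralizer (Cfsg.thompsonSubgroup p S : Set S) :=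
      Subgroup.center_le_centralizer _ hx
    exact ⟨⟨mem_thompson_of_centralizes x hc hxp, hc⟩, hxp⟩
  · intro H _ τ hτ
    obtain ⟨hinj, _, _, _, hJ, _⟩ := hτ
    unfold Cfsg.omegaCenterThompson Cfsg.omegaOne
    rw [MonoidHom.map_closure]
    apply closure_normal
    rintro _ ⟨x, ⟨⟨hxJ, hxC⟩, hxp⟩, rfl⟩ h
    obtain ⟨y, hy, hyx⟩ := hJ.conj_mem _ ⟨x, hxJ, rfl⟩ h
    refine ⟨y, ⟨⟨hy, ?_⟩, ?_⟩, hyx⟩
    · change y ∈ Subgroup.centralizer (Cfsg.thompsonSubgroup p S : Set S)
      rw [Subgroup.mem_centralizer_iff]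
      intro j hj
      obtain ⟨j', hj', hjj⟩ := hJ.conj_mem _ ⟨j, hj, rfl⟩ h⁻¹
      apply hinj
      have e1 : τ j = h * τ j' * h⁻¹ := by rw [hjj]; group
      have e2 : j' * x = x * j' := (Subgroup.mem_centralizer_iff.1 hxC) j' hj'
      rw [map_mul, map_mul, hyx, e1]
      calc h * τ j' * h⁻¹ * (h * τ x * h⁻¹) = h * τ (j' * x) * h⁻¹ := by rw [map_mul]; group
        _ = h * τ (x * j') * h⁻¹ := by rw [e2]
        _ = h * τ x * h⁻¹ * (h * τ j' * h⁻¹) := by rw [map_mul]; group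
    · apply hinj
      rw [map_pow, hyx, conj_pow, ← map_pow, hxp, map_one]
      group

theorem W_mem [Finite S] (p : ℕ) : Cfsg.stableNormalClosure p S ∈ Fam p S := by
  constructor
  · exact le_sInf fun W hW => hW.1
  · intro H _ τ hτ
    constructor
    rintro _ ⟨x, hx, rfl⟩ h
    have h0 := (OZJ_mem (S := S) p).2 H τ hτ
    obtain ⟨y, _, hyx⟩ := h0.conj_mem _ ⟨x, W_le (OZJ_mem p) hx, rfl⟩ h
    refine ⟨y, ?_, hyx⟩
    rw [W_eq, SetLike.mem_coe, Subgroup.mem_sInf]
    intro W hW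
    obtain ⟨y', hy', hyx'⟩ := (hW.2 H τ hτ).conj_mem _ ⟨x, W_le hW hx, rfl⟩ h
    have : y' = y := hτ.1 (hyx'.trans hyx.symm)
    rwa [← this]

theorem W_le_OZJ [Finite S] (p : ℕ) :
    Cfsg.stableNormalClosure p S ≤ Cfsg.omegaCenterThompson p S := W_le (OZJ_mem p)

theorem ea_W [Finite S] (p : ℕ) : Cfsg.IsElementaryAbelian p (Cfsg.stableNormalClosure p S) :=
  ea_mono (ea_OZJ p) (W_le_OZJ p)

theorem thompson_map_equiv {S' : Type u} [Group S'] (p : ℕ) (η : S ≃* S') :
    (Cfsg.thompsonSubgroup p S).map η.toMonoidHom = Cfsg.thompsonSubgroup p S' := by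
  have key : ∀ {T T' : Type u} [Group T] [Group T'] (e : T ≃* T'),
      (Cfsg.thompsonSubgroup p T).map e.toMonoidHom ≤ Cfsg.thompsonSubgroup p T' := by
    intro T T' _ _ e
    rw [Subgroup.map_le_iff_le_comap]
    apply sSup_le
    intro A hA
    rw [← Subgroup.map_le_iff_le_comap]
    exact le_thompson (AA_map_equiv e hA)
  apply le_antisymm (key η)
  have h := Subgroup.map_mono (f := η.toMonoidHom) (key η.symm)
  rw [Subgroup.map_map] at h
  have e : η.toMonoidHom.comp η.symm.toMonoidHom = MonoidHom.id S' := by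
    ext x; simp
  rwa [e, Subgroup.map_id] at h

theorem map_centralizer_equiv {S' : Type*} [Group S'] (η : S ≃* S') (K : Subgroup S) :
    (Subgroup.centralizer (K : Set S)).map η.toMonoidHom =
      Subgroup.centralizer ((K.map η.toMonoidHom : Subgroup S') : Set S') := by
  ext y
  constructor
  · rintro ⟨x, hx, rfl⟩
    rw [Subgroup.mem_centralizer_iff]
    rintro _ ⟨k, hk, rfl⟩
    have := (Subgroup.mem_centralizer_iff.1 hx) k hk
    simp only [MulEquiv.coe_toMonoidHom]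
    rw [← map_mul, ← map_mul, this]
  · intro hy
    refine ⟨η.symm y, ?_, by simp⟩
    rw [SetLike.mem_coe, Subgroup.mem_centralizer_iff]
    intro k hk
    apply η.injective
    have := (Subgroup.mem_centralizer_iff.1 hy) (η k) ⟨k, hk, rfl⟩
    rw [map_mul, map_mul, MulEquiv.apply_symm_apply]
    exact this

theorem OZJ_map_equiv {S' : Type u} [Group S'] (p : ℕ) (η : S ≃* S') :
    (Cfsg.omegaCenterThompson p S).map η.toMonoidHom = Cfsg.omegaCenterThompson p S' := by
  unfold Cfsg.omegaCenterThompson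
  rw [omegaOne_map p _ η.injective, Subgroup.map_inf_eq _ _ _ η.injective,
    map_centralizer_equiv, thompson_map_equiv]

theorem center_map_equiv {S' : Type*} [Group S'] (η : S ≃* S') :
    (Subgroup.center S).map η.toMonoidHom = Subgroup.center S' := by
  ext y
  constructor
  · rintro ⟨x, hx, rfl⟩
    rw [Subgroup.mem_center_iff]
    intro g
    have := (Subgroup.mem_center_iff.1 hx) (η.symm g)
    have h2 := congrArg η this
    simpa using h2
  · intro hy
    refine ⟨η.symm y, ?_, by simp⟩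
    rw [SetLike.mem_coe, Subgroup.mem_center_iff]
    intro g
    apply η.injective
    have := (Subgroup.mem_center_iff.1 hy) (η g)
    simpa using this

theorem stable_comp {S' H : Type u} [Group S'] [Group H] {p : ℕ} (η : S ≃* S') {τ : S' →* H}
    (hτ : Cfsg.IsStableEmbedding p τ) : Cfsg.IsStableEmbedding p (τ.comp η.toMonoidHom) := by
  obtain ⟨h1, h2, ⟨P, h3⟩, h4, h5, h6⟩ := hτ
  refine ⟨h1.comp η.injective, h2, ⟨P, ?_⟩, h4, ?_, ?_⟩
  · rw [h3, MonoidHom.range_comp, (MonoidHom.range_eq_top (f := η.toMonoidHom)).2 η.surjective,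
      ← MonoidHom.range_eq_map]
  · rw [← Subgroup.map_map, thompson_map_equiv]; exact h5
  · intro V _ hV
    rw [← Subgroup.map_map, OZJ_map_equiv] at hV
    exact h6 V hV

theorem Fam_map {S' : Type u} [Group S'] {p : ℕ} (η : S ≃* S') {W : Subgroup S}
    (hW : W ∈ Fam p S) : W.map η.toMonoidHom ∈ Fam p S' := by
  constructor
  · rw [← center_map_equiv η, ← omegaOne_map p _ η.injective]
    exact Subgroup.map_mono hW.1
  · intro H _ τ hτ
    rw [Subgroup.map_map]
    exact hW.2 H _ (stable_comp η hτ)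

theorem W_map_equiv [Finite S] {S' : Type u} [Group S'] (p : ℕ) (η : S ≃* S') :
    (Cfsg.stableNormalClosure p S).map η.toMonoidHom = Cfsg.stableNormalClosure p S' := by
  have : Finite S' := Finite.of_equiv S η.toEquiv
  apply le_antisymm
  · have h := W_le (Fam_map η.symm (W_mem (S := S') p))
    have h2 := Subgroup.map_mono (f := η.toMonoidHom) h
    rw [Subgroup.map_map] at h2
    have e : η.toMonoidHom.comp η.symm.toMonoidHom = MonoidHom.id S' := by
      ext x; simp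
    rwa [e, Subgroup.map_id] at h2
  · exact W_le (Fam_map η (W_mem p))

theorem W_characteristic [Finite S] (p : ℕ) : (Cfsg.stableNormalClosure p S).Characteristic := by
  rw [Subgroup.characteristic_iff_map_eq]
  intro φ
  exact W_map_equiv p φ

end fam

section stab

open Cfsg.Agent.Lib.Helper1

theorem exists_sylow_rep {H : Type*} [Group H] [Finite H] {p : ℕ} [Fact p.Prime] (P : Sylow p H)
    (C : Subgroup H) [C.Normal] {a : H}
    (ha : (QuotientGroup.mk a : H ⧸ C) ∈ Cfsg.pCore p (H ⧸ C)) : ∃ s ∈ P, ∃ c ∈ C, a = s * c := by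
  have h1 := pCore_le_sylow (P.mapSurjective (QuotientGroup.mk'_surjective C)) ha
  obtain ⟨s, hs, hsa⟩ := h1
  refine ⟨s, hs, s⁻¹ * a, ?_, by group⟩
  exact QuotientGroup.eq.1 hsa

theorem stable_rep {H : Type*} [Group H] [Finite H] {p : ℕ} [Fact p.Prime] (P : Sylow p H)
    (V : Subgroup H) [V.Normal] (hst : Cfsg.IsPStableOn p V) {a : H} (ha : QE V a) (g : H) :
    ∃ s ∈ P, ∃ c ∈ Subgroup.centralizer (V : Set H), g * a * g⁻¹ = s * c ∧ QE V s := by
  obtain ⟨s, hs, c, hc, e⟩ := exists_sylow_rep P _ (hst _ (ha.conj g).quad)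
  refine ⟨s, hs, c, hc, e, ?_⟩
  refine QE.congr (b := g * a * g⁻¹) (fun v hv => (inferInstance : V.Normal).conj_mem v hv _) ?_
    (ha.conj g)
  intro v hv
  rw [e]
  have h1 : v * c = c * v := (Subgroup.mem_centralizer_iff.1 hc) v hv
  calc s * v * s⁻¹ = s * (v * c) * c⁻¹ * s⁻¹ := by group
    _ = s * (c * v) * c⁻¹ * s⁻¹ := by rw [h1]
    _ = s * c * v * (s * c)⁻¹ := by group

theorem quad_trivial {S : Type u} [Group S] [Finite S] {p : ℕ} [Fact p.Prime] {x : S}
    (hq : QE (Cfsg.stableNormalClosure p S) x) :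
    ∀ w ∈ Cfsg.stableNormalClosure p S, w * x = x * w := by
  set W := Cfsg.stableNormalClosure p S with hW
  have hU : W ⊓ Subgroup.centralizer {y : S | QE W y} ∈ Fam p S := by
    constructor
    · refine le_inf (W_mem p).1 ?_
      exact (omegaOne_le p _).trans (Subgroup.center_le_centralizer _)
    · intro H _ τ hτ
      have hfin : Finite H := hτ.2.1
      obtain ⟨P, hP⟩ := hτ.2.2.1
      have hVn : (W.map τ).Normal := (W_mem p).2 H τ hτ
      have hst : Cfsg.IsPStableOn p (W.map τ) :=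
        hτ.2.2.2.2.2 (W.map τ) (Subgroup.map_mono (W_le_OZJ p))
      constructor
      rintro _ ⟨u, ⟨huW, huC⟩, rfl⟩ g
      obtain ⟨w, hw, hwu⟩ := hVn.conj_mem _ ⟨u, huW, rfl⟩ g
      refine ⟨w, ⟨hw, ?_⟩, hwu⟩
      change w ∈ Subgroup.centralizer {y : S | QE W y}
      rw [Subgroup.mem_centralizer_iff]
      intro y hy
      obtain ⟨s', hs', c, hc, e, hqs⟩ := stable_rep P (W.map τ) hst (QE.map τ hy) g⁻¹
      have hs'' : s' ∈ τ.range := by rw [← hP]; exact hs'
      obtain ⟨s, rfl⟩ := hs''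
      have hsQ : QE W s := QE.of_map τ hτ.1 hqs
      have h1 : s * u = u * s := (Subgroup.mem_centralizer_iff.1 huC) s hsQ
      have h2 : τ u * c = c * τ u := (Subgroup.mem_centralizer_iff.1 hc) _ ⟨u, huW, rfl⟩
      apply hτ.1
      rw [map_mul, map_mul, hwu]
      have e' : τ y = g * (τ s * c) * g⁻¹ := by rw [← e]; group
      have h3 : τ s * τ u = τ u * τ s := by rw [← map_mul, ← map_mul, h1]
      rw [e']
      calc g * (τ s * c) * g⁻¹ * (g * τ u * g⁻¹) = g * (τ s * (c * τ u)) * g⁻¹ := by group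
        _ = g * (τ s * (τ u * c)) * g⁻¹ := by rw [h2]
        _ = g * ((τ s * τ u) * c) * g⁻¹ := by group
        _ = g * ((τ u * τ s) * c) * g⁻¹ := by rw [h3]
        _ = g * τ u * g⁻¹ * (g * (τ s * c) * g⁻¹) := by group
  intro w hw
  have h1 := (W_le hU hw).2
  exact ((Subgroup.mem_centralizer_iff.1 h1) x hq).symm

end stab

end Cfsg.Agent.Lib.Helper3.WS
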