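import Cfsg.Agent.Lib.Helper3.WS
import Cfsg.Agent.S0607
import Cfsg.Agent.S0622
import Cfsg.Agent.Lib.Helper9.ChP2
import Cfsg.Agent.Lib.Helper1.FrattiniAct

set_option autoImplicit false
open scoped commutatorElement

namespace Cfsg.Agent.Lib.Helper3.WS

open Cfsg.Agent.Lib.Helper3.PLocal Cfsg.Agent.Lib.Helper1

universe u

theorem charP_W (p : ℕ) [Fact p.Prime] : Cfsg.IsCharPFunctor.{u} p (Cfsg.stableNormalClosure p) :=
  ⟨fun _ _ _ hQ hnt => (Cfsg.Agent.S0622.result hQ).2.2.2.1 hnt,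
    fun _ _ _ _ _ _ φ => W_map_equiv p φ⟩

theorem charP_J (p : ℕ) [Fact p.Prime] : Cfsg.IsCharPFunctor.{u} p (Cfsg.thompsonSubgroup p) := by
  refine ⟨fun Q _ _ hQ hnt => ?_, fun _ _ _ _ _ _ φ => thompson_map_equiv p φ⟩
  apply thompson_ne_bot
  obtain ⟨n, hn⟩ := IsPGroup.iff_card.1 hQ
  rw [hn]
  apply dvd_pow_self
  rintro rfl
  rw [pow_zero] at hn
  have := Finite.one_lt_card (α := Q)
  omega

variable {G : Type u} [Group G] [Finite G] {p : ℕ} [Fact p.Prime]

/-- `W(S)` inside `G` -/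
abbrev WG (p : ℕ) (S : Subgroup G) : Subgroup G :=
  (Cfsg.stableNormalClosure p ↥S).map S.subtype

theorem WG_le (S : Subgroup G) : WG p S ≤ S := Subgroup.map_subtype_le _

theorem ea_WG (S : Subgroup G) : Cfsg.IsElementaryAbelian p (WG p S) := ea_map _ (ea_W p)

theorem le_normalizer_WG (S : Subgroup G) :
    Subgroup.normalizer (S : Set G) ≤ Subgroup.normalizer (WG p S : Set G) := by
  have := W_characteristic (S := ↥S) p
  exact normalizer_le_normalizer_map_of_characteristic _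

theorem quad_trivial_amb {S : Subgroup G} {x : G} (hx : x ∈ S) (hq : QE (WG p S) x) :
    ∀ w ∈ WG p S, w * x = x * w := by
  have h1 : QE (Cfsg.stableNormalClosure p ↥S) (⟨x, hx⟩ : ↥S) :=
    QE.of_map S.subtype S.subtype_injective hq
  rintro _ ⟨w, hw, rfl⟩
  exact congrArg Subtype.val (quad_trivial h1 w hw)

theorem sectionKernel_isPGroup
    (hc : Subgroup.centralizer (Cfsg.pCore p G : Set G) ≤ Cfsg.pCore p G)
    [((frattini ↥(Cfsg.pCore p G)).map (Cfsg.pCore p G).subtype).Normal] :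
    IsPGroup p ↥(Cfsg.sectionKernel (Cfsg.pCore p G)
      ((frattini ↥(Cfsg.pCore p G)).map (Cfsg.pCore p G).subtype)) := by
  apply Cfsg.Agent.Lib.Helper6.PAct.isPGroup_of_p'_trivial
  intro x hx hcop
  have hPn : (Cfsg.pCore p G).Normal := Cfsg.Agent.Lib.Helper1.pCore_normal p
  have hP := pCore_isPGroup (G := G) p
  have h1 : Subgroup.zpowers x ≤ Subgroup.centralizer (Cfsg.pCore p G : Set G) := by
    apply centralizes_of_frattini
    · rw [Subgroup.normalizer_eq_top]; exact le_top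
    · rw [Nat.card_zpowers]
      obtain ⟨k, hk⟩ := IsPGroup.iff_card.1 (hP.to_subgroup (frattini ↥(Cfsg.pCore p G)))
      rw [hk]
      exact hcop.pow_right k
    · intro a ha k hk
      have ha' : a ∈ Cfsg.sectionKernel (Cfsg.pCore p G)
          ((frattini ↥(Cfsg.pCore p G)).map (Cfsg.pCore p G).subtype) :=
        (Subgroup.zpowers_le.2 hx) ha
      unfold Cfsg.sectionKernel at ha'
      rw [Subgroup.mem_comap, Subgroup.mem_centralizer_iff] at ha'
      have h2 := ha' _ ⟨k, hk, rfl⟩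
      rw [← QuotientGroup.eq_one_iff]
      have h3 : ∀ y : G, (QuotientGroup.mk' ((frattini ↥(Cfsg.pCore p G)).map
          (Cfsg.pCore p G).subtype)) y = (y : G ⧸ _) := fun _ => rfl
      rw [h3, h3] at h2
      rw [QuotientGroup.mk_mul, QuotientGroup.mk_mul, QuotientGroup.mk_mul, ← h2,
        QuotientGroup.mk_inv, QuotientGroup.mk_inv]
      group
  exact Cfsg.Agent.Lib.Helper6.PAct.eq_one_of_pGroup_of_coprime hP
    (hc (h1 (Subgroup.mem_zpowers x))) hcop

theorem conj_mem_WG {S : Subgroup G} {s w : G} (hs : s ∈ S) (hw : w ∈ WG p S) :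
    s * w * s⁻¹ ∈ WG p S :=
  conj_mem_of_normalizer (le_normalizer_WG S (Subgroup.le_normalizer hs)) hw

theorem WG_le_pCore (hst : Cfsg.IsActionPStable p G)
    (hc : Subgroup.centralizer (Cfsg.pCore p G : Set G) ≤ Cfsg.pCore p G) (S : Sylow p G) :
    WG p (S : Subgroup G) ≤ Cfsg.pCore p G := by
  intro w hw
  have hPS : Cfsg.pCore p G ≤ S := pCore_le_sylow S
  have hQ : QE (Cfsg.pCore p G) w := by
    intro v hv
    have h1 : ⁅v, w⁆ ∈ WG p (S : Subgroup G) := by
      have : ⁅v, w⁆ = (v * w * v⁻¹) * w⁻¹ := by rw [commutatorElement_def]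
      rw [this]
      exact mul_mem (conj_mem_WG (hPS hv) hw) (inv_mem hw)
    exact ea_comm (ea_WG _) h1 hw
  obtain ⟨D, hDn, hKD, ⟨k, hk⟩, hwD⟩ := hst.2.1 w (by rw [hQ.quad]; exact bot_le)
  have hDp : IsPGroup p D := by
    obtain ⟨j, hj⟩ := IsPGroup.iff_card.1 (sectionKernel_isPGroup hc)
    apply IsPGroup.of_card (n := j + k)
    rw [← Cfsg.Agent.Lib.Helper6.Ores.relIndex_mul_card' hKD, hk, hj, pow_add, mul_comm]
  exact le_pCore hDn hDp hwD

/-- conjugates of `W(S)` commute -/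
theorem WG_conj_comm (hst : Cfsg.IsActionPStable p G)
    (hc : Subgroup.centralizer (Cfsg.pCore p G : Set G) ≤ Cfsg.pCore p G) (S : Sylow p G)
    {w w' : G} (hw : w ∈ WG p (S : Subgroup G)) (hw' : w' ∈ WG p (S : Subgroup G)) (g : G) :
    w * (g * w' * g⁻¹) = (g * w' * g⁻¹) * w := by
  have hPS : Cfsg.pCore p G ≤ S := pCore_le_sylow S
  have hPn : (Cfsg.pCore p G).Normal := Cfsg.Agent.Lib.Helper1.pCore_normal p
  have hWP := WG_le_pCore hst hc S
  have hx : g * w' * g⁻¹ ∈ (S : Subgroup G) := hPS (hPn.conj_mem _ (hWP hw') g)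
  refine quad_trivial_amb hx ?_ w hw
  intro v hv
  -- `⁅v, x⁆ ∈ g W g⁻¹`
  have hv' : g⁻¹ * v * g ∈ (S : Subgroup G) := by
    have := hPS (hPn.conj_mem _ (hWP hv) g⁻¹)
    rwa [inv_inv] at this
  have h1 : ⁅g⁻¹ * v * g, w'⁆ ∈ WG p (S : Subgroup G) := by
    have : ⁅g⁻¹ * v * g, w'⁆ = ((g⁻¹ * v * g) * w' * (g⁻¹ * v * g)⁻¹) * w'⁻¹ := by
      rw [commutatorElement_def]
    rw [this]
    exact mul_mem (conj_mem_WG hv' hw') (inv_mem hw')
  have h2 := ea_comm (ea_WG _) h1 hw'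
  have e : ⁅v, g * w' * g⁻¹⁆ = g * ⁅g⁻¹ * v * g, w'⁆ * g⁻¹ := by
    simp only [commutatorElement_def]; group
  rw [e]
  calc g * ⁅g⁻¹ * v * g, w'⁆ * g⁻¹ * (g * w' * g⁻¹) = g * (⁅g⁻¹ * v * g, w'⁆ * w') * g⁻¹ := by group
    _ = g * (w' * ⁅g⁻¹ * v * g, w'⁆) * g⁻¹ := by rw [h2]
    _ = g * w' * g⁻¹ * (g * ⁅g⁻¹ * v * g, w'⁆ * g⁻¹) := by group

/-- the normal closure of `W(S)`, as a closure -/
def VG (p : ℕ) (S : Subgroup G) : Subgroup G :=
  Subgroup.closure {x | ∃ w ∈ WG p S, ∃ g : G, x = g * w * g⁻¹}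

instance VG_normal (S : Subgroup G) : (VG p S).Normal := by
  apply closure_normal
  rintro _ ⟨w, hw, g, rfl⟩ h
  exact ⟨w, hw, h * g, by group⟩

theorem WG_le_VG (S : Subgroup G) : WG p S ≤ VG p S := fun w hw =>
  Subgroup.subset_closure ⟨w, hw, 1, by simp⟩

theorem ea_VG (hst : Cfsg.IsActionPStable p G)
    (hc : Subgroup.centralizer (Cfsg.pCore p G : Set G) ≤ Cfsg.pCore p G) (S : Sylow p G) :
    Cfsg.IsElementaryAbelian p (VG p (S : Subgroup G)) := by
  apply ea_closure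
  · rintro _ ⟨w, hw, g, rfl⟩ _ ⟨w', hw', g', rfl⟩
    have h := WG_conj_comm hst hc S hw hw' (g⁻¹ * g')
    calc g * w * g⁻¹ * (g' * w' * g'⁻¹) = g * (w * (g⁻¹ * g' * w' * (g⁻¹ * g')⁻¹)) * g⁻¹ := by group
      _ = g * ((g⁻¹ * g' * w' * (g⁻¹ * g')⁻¹) * w) * g⁻¹ := by rw [h]
      _ = g' * w' * g'⁻¹ * (g * w * g⁻¹) := by group
  · rintro _ ⟨w, hw, g, rfl⟩
    rw [conj_pow, (ea_WG _).2 w hw]
    group

/-- quadratic action on `V` is trivial -/
theorem VG_quad_trivial (hst : Cfsg.IsActionPStable p G)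
    (hc : Subgroup.centralizer (Cfsg.pCore p G : Set G) ≤ Cfsg.pCore p G) (S : Sylow p G)
    {a : G} (ha : QE (VG p (S : Subgroup G)) a) :
    a ∈ Subgroup.centralizer (VG p (S : Subgroup G) : Set G) := by
  have hs := hst.1 (VG p (S : Subgroup G)) (ea_VG hst hc S)
  have h1 : VG p (S : Subgroup G) ≤ Subgroup.centralizer (Subgroup.zpowers a : Set G) := by
    unfold VG
    rw [Subgroup.closure_le]
    rintro _ ⟨w, hw, g, rfl⟩
    rw [SetLike.mem_coe, mem_centralizer_zpowers_iff]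
    obtain ⟨s, hsS, c, hcC, e, hqs⟩ := stable_rep S _ hs ha g⁻¹
    have h2 := quad_trivial_amb hsS (hqs.mono (WG_le_VG _)) w hw
    have h3 : w * c = c * w := (Subgroup.mem_centralizer_iff.1 hcC) w (WG_le_VG _ hw)
    have e' : a = g * (s * c) * g⁻¹ := by rw [← e]; group
    rw [e']
    calc g * w * g⁻¹ * (g * (s * c) * g⁻¹) = g * ((w * s) * c) * g⁻¹ := by group
      _ = g * ((s * w) * c) * g⁻¹ := by rw [h2]
      _ = g * (s * (w * c)) * g⁻¹ := by group
      _ = g * (s * (c * w)) * g⁻¹ := by rw [h3]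
      _ = g * (s * c) * g⁻¹ * (g * w * g⁻¹) := by group
  rw [Subgroup.mem_centralizer_iff]
  intro v hv
  exact mem_centralizer_zpowers_iff.1 (h1 hv)

theorem thompson_le_centralizer_VG (hst : Cfsg.IsActionPStable p G)
    (hc : Subgroup.centralizer (Cfsg.pCore p G : Set G) ≤ Cfsg.pCore p G) (S : Sylow p G) :
    Cfsg.thompsonSubgroup p G ≤ Subgroup.centralizer (VG p (S : Subgroup G) : Set G) := by
  apply sSup_le
  intro A hA
  have hV := ea_VG hst hc S
  obtain ⟨_, h2, h3⟩ := Cfsg.Agent.S0607.result (VG p (S : Subgroup G)) hV A hA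
  by_contra hcon
  have hne : ⁅VG p (S : Subgroup G), A⁆ ≠ ⊥ := by
    intro h
    apply hcon
    rw [Subgroup.commutator_comm, Subgroup.commutator_eq_bot_iff_le_centralizer] at h
    exact h
  apply h3 hne
  rw [Subgroup.commutator_comm, Subgroup.commutator_eq_bot_iff_le_centralizer]
  intro a ha
  apply VG_quad_trivial hst hc S
  intro v hv
  exact mem_centralizer_of_comm_bot h2 (Subgroup.commutator_mem_commutator hv ha) ha

theorem le_normalizer_J (S : Subgroup G) :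
    Subgroup.normalizer (S : Set G) ≤ Subgroup.normalizer (Cfsg.thompsonSubgroupOf p S : Set G) := by
  have := thompson_characteristic (G := ↥S) p
  exact normalizer_le_normalizer_map_of_characteristic _

theorem le_NJ (S : Subgroup G) :
    S ≤ Subgroup.normalizer (Cfsg.thompsonSubgroupOf p S : Set G) :=
  Subgroup.le_normalizer.trans (le_normalizer_J S)

open Cfsg.Agent.Lib.Helper6.CharP Cfsg.Agent.Lib.Helper6.Ores in
theorem stable_incl (hst : Cfsg.IsActionPStable p G)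
    (hc : Subgroup.centralizer (Cfsg.pCore p G : Set G) ≤ Cfsg.pCore p G) (S : Sylow p G) :
    Cfsg.IsStableEmbedding p (Subgroup.inclusion (le_NJ (p := p) (S : Subgroup G))) := by
  refine ⟨Subgroup.inclusion_injective _, inferInstance, ⟨S.subtype (le_NJ _), ?_⟩, ?_, ?_, ?_⟩
  · rw [Subgroup.inclusion_range]
    rfl
  · rw [chP_bridge]
    apply Cfsg.Agent.Lib.Helper9.ChP2.chP_of_Op_le ((chP_top_bridge p).1 hc)
    exact (Cfsg.Agent.Lib.Helper9.ChP2.Op_top_le_sylow S).trans (le_NJ _)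
  · constructor
    rintro _ ⟨x, hx, rfl⟩ n
    have h1 : (x : G) ∈ Cfsg.thompsonSubgroupOf p (S : Subgroup G) := ⟨x, hx, rfl⟩
    obtain ⟨y, hy, hyx⟩ := conj_mem_of_normalizer n.2 h1
    exact ⟨y, hy, Subtype.ext hyx⟩
  · intro V _ hV
    apply hst.2.2 S V
    have h1 := Subgroup.map_mono (f := (Subgroup.normalizer
      (Cfsg.thompsonSubgroupOf p (S : Subgroup G) : Set G)).subtype) hV
    rw [Subgroup.map_map, Subgroup.subtype_comp_inclusion] at h1
    exact h1

theorem NJ_le_normalizer_WG (hst : Cfsg.IsActionPStable p G)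
    (hc : Subgroup.centralizer (Cfsg.pCore p G : Set G) ≤ Cfsg.pCore p G) (S : Sylow p G) :
    Subgroup.normalizer (Cfsg.thompsonSubgroupOf p (S : Subgroup G) : Set G) ≤
      Subgroup.normalizer (WG p (S : Subgroup G) : Set G) := by
  have hn := (W_mem (S := ↥(S : Subgroup G)) p).2 _ _ (stable_incl hst hc S)
  rw [Subgroup.le_normalizer_iff]
  rintro n hn' _ ⟨w, hw, rfl⟩
  obtain ⟨y, hy, hyx⟩ := hn.conj_mem _ ⟨w, hw, rfl⟩ ⟨n, hn'⟩
  exact ⟨y, hy, congrArg Subtype.val hyx⟩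

open Cfsg.Agent.Lib.Helper6.Ores Cfsg.Agent.Lib.Helper6.Basic in
theorem WG_normal (hst : Cfsg.IsActionPStable p G)
    (hc : Subgroup.centralizer (Cfsg.pCore p G : Set G) ≤ Cfsg.pCore p G) (S : Sylow p G) :
    (WG p (S : Subgroup G)).Normal := by
  rw [← Subgroup.normalizer_eq_top_iff, eq_top_iff]
  intro g _
  have hJC := thompson_le_centralizer_VG hst hc S
  set C := Subgroup.centralizer (VG p (S : Subgroup G) : Set G) with hC
  have hCn : C.Normal := inferInstance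
  have hT : Syl p ((S : Subgroup G) ⊓ C) C :=
    (syl_of_sylow S).inf_normal le_top (by
      change ⊤ ≤ Subgroup.normalizer (C : Set G)
      rw [Subgroup.normalizer_eq_top])
  obtain ⟨m, hm, n, hn, rfl⟩ := hT.frattini (K := ⊤) (by
      change ⊤ ≤ Subgroup.normalizer (C : Set G)
      rw [Subgroup.normalizer_eq_top]) (Subgroup.mem_top g)
  apply mul_mem
  · apply Subgroup.mem_normalizer_fintype
    intro w hw
    have h1 : w * m = m * w := (Subgroup.mem_centralizer_iff.1 hm) w (WG_le_VG _ hw)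
    have h2 : m * w * m⁻¹ = w := by rw [← h1]; group
    rw [h2]; exact hw
  · apply NJ_le_normalizer_WG hst hc S
    obtain ⟨A₀, hA₀, hle⟩ := exists_AA_le_sylow S
    have hA₀C : A₀ ≤ C := (le_thompson hA₀).trans hJC
    have e : Cfsg.thompsonSubgroupOf p (S : Subgroup G) =
        Cfsg.thompsonSubgroupOf p ((S : Subgroup G) ⊓ C) := by
      rw [thompsonOf_eq hA₀ hle, thompsonOf_eq hA₀ (le_inf hle hA₀C)]
      congr 1
      ext A
      constructor
      · rintro ⟨h1, h2⟩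
        exact ⟨h1, le_inf h2 ((le_thompson h1).trans hJC)⟩
      · rintro ⟨h1, h2⟩
        exact ⟨h1, h2.trans inf_le_left⟩
    rw [e]
    exact le_normalizer_J _ hn

end Cfsg.Agent.Lib.Helper3.WS
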